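import Cfsg.Agent.Lib.SchurMult.TwoCollect

/-! Collector certificate for a Sylow `2`-subgroup of Co3. -/

set_option autoImplicit false
set_option maxRecDepth 100000

namespace CfsgLib.Co3Mult

open CfsgLib.SchurMult

/-- Part of a collection table. -/
def tblCo3_0_0 : Trie := (.node (.node (.node (.node (.node (.node (.leaf 1) (.leaf 18446744073709551825)) (.node (.leaf 9223372036854776065) (.leaf 27670116111101477329))) (.node (.node (.leaf 4611686018427388033) (.leaf 23058430092405514321)) (.node (.leaf 13835058055282164097) (.leaf 32281802129797439825)))) (.node (.node (.node (.leaf 2305843009213694797) (.leaf 20752587084669109021)) (.node (.leaf 11529215046068476493) (.leaf 29975959120986741277))) (.node (.node (.leaf 6917529027641131981) (.leaf 25364273103364752285)) (.node (.leaf 16140901064495913677) (.leaf 34587645139682417309))))) (.node (.node (.node (.node (.leaf 1152921504606847009) (.leaf 19599665578383646833)) (.node (.leaf 10376293541461623073) (.leaf 28823037615775572337))) (.node (.node (.leaf 5764607523034235041) (.leaf 24211351597079339249)) (.node (.leaf 14987979559889011105) (.leaf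 33434723634471264753)))) (.node (.node (.node (.leaf 3458766751498511213) (.leaf 21905510827021034429)) (.node (.leaf 12682138788353292909) (.leaf 31128882863338666685))) (.node (.node (.leaf 8070452769925948397) (.leaf 26517196845716669245)) (.node (.leaf 17293824806780730093) (.leaf 35740568882034334269)))))) (.node (.node (.node (.node (.node (.leaf 576460752303423949) (.leaf 19023204826952982941)) (.node (.leaf 9799832789158201549) (.leaf 28246576863270611101))) (.node (.node (.leaf 5188146770730836301) (.leaf 23634890845111779613)) (.node (.leaf 14411518807585613901) (.leaf 32858262881429440541)))) (.node (.node (.node (.leaf 2882335431203316225) (.leaf 21329079505987289809)) (.node (.leaf 12105707468058096385) (.leaf 30552451542304920529))) (.node (.node (.leaf 7494021449630737025) (.leaf 25940765524682957393)) (.node (.leaf 16717393486485517185) (.leaf 35164137561000588113))))) (.node (.node (.node (.node (.leaf 1729382256924959085) (.leaf 20176126331373044157)) (.node (.leaf 10952754293779736685) (.leaf 29399498367690672317))) (.node (.node (.leaf 6341068275352363501) (.leaf 24787812350068990269))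 (.node (.leaf 15564440312207141101) (.leaf 34011184386386651197)))) (.node (.node (.node (.leaf 4035250334142505633) (.leaf 22481994408724898545)) (.node (.leaf 13258622370997285793) (.leaf 31705366446116303857))) (.node (.node (.leaf 8646936352569917985) (.leaf 27093680427420811889)) (.node (.leaf 17870308389424698145) (.leaf 36317052464812217201)))))))

/-- Part of a collection table. -/
def tblCo3_0_1 : Trie := (.node (.node (.node (.node (.node (.node (.leaf 36028797018964876) (.leaf 18482772872608400220)) (.node (.leaf 9259400833873746572) (.leaf 27706144908926032476))) (.node (.node (.leaf 4647714815446409996) (.leaf 23094458890767434716)) (.node (.leaf 13871086852301191692) (.leaf 32317830927085099740)))) (.node (.node (.node (.leaf 2341934446452423872) (.leaf 20788678520027946128)) (.node (.leaf 11565306483307199936) (.leaf 30012050557419347344))) (.node (.node (.leaf 6953620464879803456) (.leaf 25400364538723646480)) (.node (.leaf 16176992501734579520) (.leaf 34623736576115047696))))) (.node (.node (.node (.node (.leaf 1188950301655196588) (.leaf 19635694377311839228)) (.node (.leaf 10412322338509978284)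 (.leaf 28859066413629504252))) (.node (.node (.leaf 5800636320082592556) (.leaf 24247380395470635900)) (.node (.leaf 15024008356937374252) (.leaf 33470752431788268156)))) (.node (.node (.node (.leaf 3494858154729823456) (.leaf 21941602228775115824)) (.node (.leaf 12718230191584599520) (.leaf 31164974265092742448))) (.node (.node (.leaf 8106544173157219424) (.leaf 26553288246933937328)) (.node (.leaf 17329916210011995488) (.leaf 35776660283251563952)))))) (.node (.node (.node (.node (.node (.leaf 612552189542193728) (.leaf 19059296264459344400)) (.node (.leaf 9835924226396965696) (.leaf 28282668301850708752))) (.node (.node (.leaf 5224238207969548992) (.leaf 23670982282618198672)) (.node (.leaf 14447610244824320960) (.leaf 32894354320009563024)))) (.node (.node (.node (.leaf 2918364194161542540) (.leaf 21365108267065386332)) (.node (.leaf 12141736231016320140) (.leaf 30588480304457313372))) (.node (.node (.leaf 7530050212588922124) (.leaf 25976794285761357276)) (.node (.leaf 16753422249443699724) (.leaf 35200166323153251548))))) (.node (.node (.node (.node (.leaf 1765473694167915232) (.leaf 20212217768883616304))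 (.node (.leaf 10988845731022687200) (.leaf 29435589806274980656))) (.node (.node (.leaf 6377159712595278432) (.leaf 24823903787579603632)) (.node (.leaf 15600531749450050400) (.leaf 34047275824970967984)))) (.node (.node (.node (.leaf 4071279131743348012) (.leaf 22518023204848764284)) (.node (.leaf 13294651168598125612) (.leaf 31741395242240691324))) (.node (.node (.leaf 8682965150170719660) (.leaf 27129709223007602172)) (.node (.leaf 17906337187025497260) (.leaf 36353081260399496444)))))))

/-- Part of a collection table. -/
def tblCo3_0_2 : Trie := (.node (.node (.node (.node (.node (.node (.leaf 72057594037928623) (.leaf 18518801669157454591)) (.node (.leaf 9295429630892708783) (.leaf 27742173706549384191))) (.node (.node (.leaf 4683743612465357359) (.leaf 23130487687316251263)) (.node (.leaf 13907115649320137519) (.leaf 32353859724708180863)))) (.node (.node (.node (.leaf 2377947790178801123) (.leaf 20824691864358556979)) (.node (.leaf 11601319827033578723) (.leaf 30048063900676217907))) (.node (.node (.leaf 6989633808606180707) (.leaf 25436377883054265779)) (.node (.leaf 16213005845460958307) (.leaf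 34659749919371893939))))) (.node (.node (.node (.node (.leaf 1224979098666803855) (.leaf 19671723173719089759)) (.node (.leaf 10448351135521584015) (.leaf 28895095211111019359))) (.node (.node (.leaf 5836665117094216207) (.leaf 24283409191878140639)) (.node (.leaf 15060037153948996367) (.leaf 33506781229270070239)))) (.node (.node (.node (.leaf 3530867066364499395) (.leaf 21977611139403445651)) (.node (.leaf 12754239103219276995) (.leaf 31200983176794815635))) (.node (.node (.leaf 8142553084791911747) (.leaf 26589297158099113235)) (.node (.leaf 17365925121646689347) (.leaf 35812669195490515987)))))) (.node (.node (.node (.node (.node (.leaf 648565533268570979) (.leaf 19095309608789947315)) (.node (.leaf 9871937570123344483) (.leaf 28318681645107604147))) (.node (.node (.leaf 5260251551695909859) (.leaf 23706995626948809523)) (.node (.leaf 14483623588550683363) (.leaf 32930367663266433587)))) (.node (.node (.node (.leaf 2954393025237058735) (.leaf 21401137099147945215)) (.node (.leaf 12177765062091834799) (.leaf 30624509135465604607))) (.node (.node (.leaf 7566079043664454703) (.leaf 26012823117307020415))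 (.node (.leaf 16789451080519230767) (.leaf 35236195153624679807))))) (.node (.node (.node (.node (.leaf 1801487037903836099) (.leaf 20248231113089569683)) (.node (.leaf 11024859074758609603) (.leaf 29471603149407193747))) (.node (.node (.leaf 6413173056331215683) (.leaf 24859917131785286419)) (.node (.leaf 15636545093185989187) (.leaf 34083289168102943251)))) (.node (.node (.node (.leaf 4107307928507499535) (.leaf 22554052002217051359)) (.node (.leaf 13330679965362275599) (.leaf 31777424038534677983))) (.node (.node (.leaf 8718993946934887567) (.leaf 27165738020913013855)) (.node (.leaf 17942365983789663631) (.leaf 36389110057230640479)))))))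

/-- Part of a collection table. -/
def tblCo3_0_3 : Trie := (.node (.node (.node (.node (.node (.node (.leaf 140085710652040482) (.leaf 18586829783757456754)) (.node (.leaf 9363457747506818082) (.leaf 27810201821149383794))) (.node (.node (.leaf 4751771729079412130) (.leaf 23198515802453165554)) (.node (.leaf 13975143765934189730) (.leaf 32421887839845059826)))) (.node (.node (.node (.leaf 2445944035991481966) (.leaf 20892688110574005950)) (.node (.leaf 11669316072846262126) (.leaf 30116060146892160958))) (.node (.node (.leaf 7057630054418837230) (.leaf 25504374128732851774)) (.node (.leaf 16281002091273617390) (.leaf 34727746165051006782))))) (.node (.node (.node (.node (.leaf 1293007215251539202) (.leaf 19739751288423941586)) (.node (.leaf 10516379252106316802) (.leaf 28963123325815868626))) (.node (.node (.leaf 5904693233678910850) (.leaf 24351437307119920466)) (.node (.leaf 15128065270533688450) (.leaf 33574809344511814738)))) (.node (.node (.node (.leaf 3598867743941717582) (.leaf 22045611818591350302)) (.node (.leaf 12822239780796497742) (.leaf 31268983854909505310))) (.node (.node (.leaf 8210553762369072846)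 (.leaf 26657297836750204574)) (.node (.leaf 17433925799223853006) (.leaf 35880669873068359582)))))) (.node (.node (.node (.node (.node (.leaf 716561779081194734) (.leaf 19163305852321049662)) (.node (.leaf 9939933815935970798) (.leaf 28386677888639233342))) (.node (.node (.leaf 5328247797508574318) (.leaf 23774991871016742078)) (.node (.leaf 14551619834363350382) (.leaf 32998363907334925758)))) (.node (.node (.node (.leaf 3022394683410261794) (.leaf 21469138758798305138)) (.node (.leaf 12245766720265043490) (.leaf 30692510795115937394))) (.node (.node (.leaf 7634080701837633442) (.leaf 26080824777494013938)) (.node (.leaf 16857452738692415138) (.leaf 35304196813811678962))))) (.node (.node (.node (.node (.leaf 1869483283687115854) (.leaf 20316227357262392350)) (.node (.leaf 11092855320541891918) (.leaf 29539599393580576030))) (.node (.node (.leaf 6481169302114503886) (.leaf 24927913375421213854)) (.node (.leaf 15704541338969279950) (.leaf 34151285411739397534)))) (.node (.node (.node (.leaf 4175322815744083842) (.leaf 22622066890259711826)) (.node (.leaf 13398694852598865538) (.leaf 31845438927651085906)))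 (.node (.node (.leaf 8787008834171463426) (.leaf 27233752908418549714)) (.node (.leaf 18010380871026245122) (.leaf 36457124945809956562)))))))

/-- Part of a collection table. -/
def tblCo3_0_4 : Trie := (.node (.node (.node (.node (.node (.node (.leaf 144115188075856535) (.leaf 18590859263161828039)) (.node (.leaf 9367487224930636695) (.leaf 27814231300553757639))) (.node (.node (.leaf 4755801206503285271) (.leaf 23202545281320624711)) (.node (.leaf 13979173243358065431) (.leaf 32425917318712554311)))) (.node (.node (.node (.leaf 2450003806454955355) (.leaf 20896747879728635275)) (.node (.leaf 11673375843309728859) (.leaf 30120119917120001163))) (.node (.node (.leaf 7061689824882359771) (.leaf 25508433897887448331)) (.node (.leaf 16285061861737133275) (.leaf 34731805935278846987))))) (.node (.node (.node (.node (.leaf 1297036692703683127) (.leaf 19743780767584133863)) (.node (.leaf 10520408729558463287) (.leaf 28967152804976063463))) (.node (.node (.leaf 5908722711131103927) (.leaf 24355466786279785063)) (.node (.leaf 15132094747985884087) (.leaf 33578838823671714663)))) (.node (.node (.node (.leaf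 3602918709410676219) (.leaf 22049662782957125035)) (.node (.leaf 12826290746265449723) (.leaf 31273034820348490923))) (.node (.node (.leaf 8214604727838072187) (.leaf 26661348801115921707)) (.node (.leaf 17437976764692845691) (.leaf 35884720838507320363)))))) (.node (.node (.node (.node (.node (.leaf 720621549544717275) (.leaf 19167365623623146251)) (.node (.leaf 9943993586399486683) (.leaf 28390737661014508043))) (.node (.node (.leaf 5332307567972080475) (.leaf 23779051642318855051)) (.node (.leaf 14555679604826849883) (.leaf 33002423679710249611)))) (.node (.node (.node (.leaf 3026441822757430423) (.leaf 21473185896164984007)) (.node (.leaf 12249813859612206487) (.leaf 30696557933556385223))) (.node (.node (.leaf 7638127841184810007) (.leaf 26084871914860684359)) (.node (.leaf 16861499878039586071) (.leaf 35308243952252085575))))) (.node (.node (.node (.node (.leaf 1873543054183029755) (.leaf 20320287128190139307)) (.node (.leaf 11096915091037799163) (.leaf 29543659165581533867))) (.node (.node (.leaf 6485229072610376571) (.leaf 24931973146885872427)) (.node (.leaf 15708601109465145979) (.leaf 34155345184277234219))))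 (.node (.node (.node (.leaf 4179365488083051703) (.leaf 22626109561964438631)) (.node (.leaf 13402737524937827767) (.leaf 31849481598282098023))) (.node (.node (.leaf 8791051506510431287) (.leaf 27237795580123522279)) (.node (.leaf 18014423543365207351) (.leaf 36461167616441181671)))))))

/-- Part of a collection table. -/
def tblCo3_0_5 : Trie := (.node (.node (.node (.node (.node (.node (.leaf 212143101703458074) (.leaf 18658887174842477898)) (.node (.leaf 9435515138558231578) (.leaf 27882259212234368074))) (.node (.node (.leaf 4823829120130862490) (.leaf 23270573193538153930)) (.node (.leaf 14047201156985635994) (.leaf 32493945230930076874)))) (.node (.node (.node (.leaf 2518003146900614870) (.leaf 20964747219637505542)) (.node (.leaf 11741375183755395030) (.leaf 30188119255955693318))) (.node (.node (.leaf 7129689165327961686) (.leaf 25576433237796359814)) (.node (.leaf 16353061202182741846) (.leaf 34799805274114547590))))) (.node (.node (.node (.node (.leaf 1365064606301916602) (.leaf 19811808679780666730)) (.node (.leaf 10588436643156690106) (.leaf 29035180717172556906))) (.node (.node (.leaf 5976750624729328954)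 (.leaf 24423494697939471850)) (.node (.leaf 15200122661584102458) (.leaf 33646866735331394794)))) (.node (.node (.node (.leaf 3670913685947256438) (.leaf 22117657758420053542)) (.node (.leaf 12894285722802036598) (.leaf 31341029795811983142))) (.node (.node (.leaf 8282599704374611702) (.leaf 26729343777115778726)) (.node (.leaf 17505971741229391862) (.leaf 35952715814507708326)))))) (.node (.node (.node (.node (.node (.leaf 788620889990351958) (.leaf 19235364963532074118)) (.node (.leaf 10011992926845128022) (.leaf 28458736999850225030))) (.node (.node (.leaf 5400306908417739990) (.leaf 23847050982227758086)) (.node (.leaf 14623678945272516054) (.leaf 33070423018545908998)))) (.node (.node (.node (.leaf 3094460866957070106) (.leaf 21541204939023191882)) (.node (.leaf 12317832903811847706) (.leaf 30764576976414594634))) (.node (.node (.leaf 7706146885384408986) (.leaf 26152890957718933450)) (.node (.leaf 16929518922239186586) (.leaf 35376262995110303434))))) (.node (.node (.node (.node (.leaf 1941542394599296118) (.leaf 20388286468203924518)) (.node (.leaf 11164914431454072182) (.leaf 29611658504522075430)))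 (.node (.node (.leaf 6553228413026684150) (.leaf 24999972486899616934)) (.node (.leaf 15776600449881460214) (.leaf 34223344523217767846)))) (.node (.node (.node (.leaf 4247380168247791418) (.leaf 22694124240376696810)) (.node (.leaf 13470752205102569018) (.leaf 31917496277768099562))) (.node (.node (.leaf 8859066186675130298) (.leaf 27305810259072708458)) (.node (.leaf 18082438223529907898) (.leaf 36529182296464078442)))))))

/-- Part of a collection table. -/
def tblCo3_0_6 : Trie := (.node (.node (.node (.node (.node (.node (.leaf 240352206183845145) (.leaf 18687096280397098313)) (.node (.leaf 9463724243038618649) (.leaf 27910468316714755145))) (.node (.node (.leaf 4852038224611216793) (.leaf 23298782298555936201)) (.node (.leaf 14075410261465990297) (.leaf 32522154334873560265)))) (.node (.node (.node (.leaf 2546212251381526229) (.leaf 20992956323581545989)) (.node (.leaf 11769584288236306389) (.leaf 30216328360972918533))) (.node (.node (.leaf 7157898269808873045) (.leaf 25604642342277271173)) (.node (.leaf 16381270306663653205) (.leaf 34828014379668643717))))) (.node (.node (.node (.node (.leaf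 1393273710782303673) (.leaf 19840017784664198505)) (.node (.leaf 10616645747637077177) (.leaf 29063389820981855337))) (.node (.node (.leaf 6004959729209683257) (.leaf 24451703803359907305)) (.node (.leaf 15228331766064456761) (.leaf 33675075839677531369)))) (.node (.node (.node (.leaf 3699140314834259573) (.leaf 22145884387441274405)) (.node (.leaf 12922512351689039733) (.leaf 31369256423758905125))) (.node (.node (.leaf 8310826333261614837) (.leaf 26757570405600128677)) (.node (.leaf 17534198370116394997) (.leaf 35980942441917759397)))))) (.node (.node (.node (.node (.node (.leaf 816829994471230549) (.leaf 19263574068012952709)) (.node (.leaf 10040202031326006613) (.leaf 28486946105404353925))) (.node (.node (.leaf 5428516012898618581) (.leaf 23875260086171765765)) (.node (.leaf 14651888049753394645) (.leaf 33098632123563166981)))) (.node (.node (.node (.leaf 3122669971437948697) (.leaf 21569414044577320777)) (.node (.leaf 12346042008292726297) (.leaf 30792786080895473225))) (.node (.node (.leaf 7734355989865320345) (.leaf 26181100062736158665)) (.node (.leaf 16957728026720097945) (.leaf 35404472099054343881)))))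 (.node (.node (.node (.node (.leaf 1969751499080174709) (.leaf 20416495572550585381)) (.node (.leaf 11193123535934950773) (.leaf 29639867609941986597))) (.node (.node (.leaf 6581437517507562741) (.leaf 25028181590709406885)) (.node (.leaf 15804809554362338805) (.leaf 34251553628100808101)))) (.node (.node (.node (.leaf 4275589272728670009) (.leaf 22722333345796607977)) (.node (.leaf 13498961309583447609) (.leaf 31945705382114760425))) (.node (.node (.leaf 8887275291156041657) (.leaf 27334019363955715945)) (.node (.leaf 18110647328010819257) (.leaf 36557391400273901161)))))))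

/-- Part of a collection table. -/
def tblCo3_0_7 : Trie := (.node (.node (.node (.node (.node (.node (.leaf 276385245199525524) (.leaf 18723129320285169348)) (.node (.leaf 9499757282054305684) (.leaf 27946501357676541892))) (.node (.node (.leaf 4888071263626872340) (.leaf 23334815338444277316)) (.node (.leaf 14111443300481652500) (.leaf 32558187375835649860)))) (.node (.node (.node (.leaf 2582184992115054936) (.leaf 21028929065119758728)) (.node (.leaf 11805557028969828440) (.leaf 30252301102511681672))) (.node (.node (.leaf 7193871010542426584) (.leaf 25640615083278850312)) (.node (.leaf 16417243047397200088) (.leaf 34863987120670740488))))) (.node (.node (.node (.node (.leaf 1429306749785392692) (.leaf 19876050824673904356)) (.node (.leaf 10652678786640172852) (.leaf 29099422862065276900))) (.node (.node (.leaf 6040992768212747956) (.leaf 24487736843369899620)) (.node (.leaf 15264364805067528116) (.leaf 33711108880761272164)))) (.node (.node (.node (.leaf 3735113089177016824) (.leaf 22181857162445822376)) (.node (.leaf 12958485126031790328) (.leaf 31405229199837745320))) (.node (.node (.leaf 8346799107604396408)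 (.leaf 26793543180604930344)) (.node (.leaf 17570171144459169912) (.leaf 36016915217996820520)))))) (.node (.node (.node (.node (.node (.leaf 852802735204753368) (.leaf 19299546809014271752)) (.node (.leaf 10076174772059522776) (.leaf 28522918846406190600))) (.node (.node (.leaf 5464488753632165720) (.leaf 23911232827710209928)) (.node (.leaf 14687860790486935128) (.leaf 33134604865102096008)))) (.node (.node (.node (.leaf 3158710157589954708) (.leaf 21605454230997524676)) (.node (.leaf 12382082194444730772) (.leaf 30828826268389417412))) (.node (.node (.leaf 7770396176017350676) (.leaf 26217140249693470788)) (.node (.leaf 16993768212872126740) (.leaf 35440512287085363524))))) (.node (.node (.node (.node (.leaf 2005724239801106424) (.leaf 20452468313547726760)) (.node (.leaf 11229096276655875832) (.leaf 29675840350939612840))) (.node (.node (.leaf 6617410258228535160) (.leaf 25064154332243640104)) (.node (.leaf 15840782295083304568) (.leaf 34287526369635558952)))) (.node (.node (.node (.leaf 4311629493563375796) (.leaf 22758373567436636260)) (.node (.leaf 13535001530418151860) (.leaf 31981745603754787172)))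 (.node (.node (.leaf 8923315511990771764) (.leaf 27370059585595457764)) (.node (.leaf 18146687548845547828) (.leaf 36593431621913608676)))))))

/-- Part of a collection table. -/
def tblCo3_0_8 : Trie := (.node (.node (.node (.node (.node (.node (.leaf 288230376151711947) (.leaf 18734974450264121499)) (.node (.leaf 9511602413006488011) (.leaf 27958346487656047003))) (.node (.node (.leaf 4899916394579107915) (.leaf 23346660468422934555)) (.node (.leaf 14123288431433883979) (.leaf 32570032505814860059)))) (.node (.node (.node (.leaf 2594087226081225479) (.leaf 21040831301402086359)) (.node (.leaf 11817459262936003079) (.leaf 30264203337719714519))) (.node (.node (.leaf 7205773244508662663) (.leaf 25652517320097999703)) (.node (.leaf 16429145281363440263) (.leaf 34875889356415660631))))) (.node (.node (.node (.node (.leaf 1441151880764850411) (.leaf 19887895954944360507)) (.node (.leaf 10664523917619626475) (.leaf 29111267992336286011))) (.node (.node (.leaf 6052837899192246379) (.leaf 24499581973103182011)) (.node (.leaf 15276209936047022443) (.leaf 33722954010495107515)))) (.node (.node (.node (.leaf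 3747010934864022311) (.leaf 22193755009044171639)) (.node (.leaf 12970382971718799911) (.leaf 31417127046435541623))) (.node (.node (.leaf 8358696953291459495) (.leaf 26805441027202943991)) (.node (.leaf 17582068990146237095) (.leaf 36028813064594346743)))))) (.node (.node (.node (.node (.node (.leaf 864704969170954631) (.leaf 19311449043685951831)) (.node (.leaf 10088077006025728135) (.leaf 28534821080003575895))) (.node (.node (.leaf 5476390987598350599) (.leaf 23923135061845019095)) (.node (.leaf 14699763024453124103) (.leaf 33146507098162675927)))) (.node (.node (.node (.leaf 3170557010930631371) (.leaf 21617301085311763099)) (.node (.leaf 12393929047785411531) (.leaf 30840673122703168411))) (.node (.node (.leaf 7782243029358060107) (.leaf 26228987104007692827)) (.node (.leaf 17005615066212840267) (.leaf 35452359141399098139))))) (.node (.node (.node (.node (.leaf 2017626473765210407) (.leaf 20464370548078897527)) (.node (.leaf 11240998510619983911) (.leaf 29687742584396521591))) (.node (.node (.leaf 6629312492192614823) (.leaf 25076056566774835703)) (.node (.leaf 15852684529047388327) (.leaf 34299428603092492535))))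 (.node (.node (.node (.leaf 4323489472029590123) (.leaf 22770233546746135227)) (.node (.leaf 13546861508884370283) (.leaf 31993605584137540539))) (.node (.node (.leaf 8935175490457010923) (.leaf 27381919564905194043)) (.node (.leaf 18158547527311791083) (.leaf 36605291602296599355)))))))

/-- Part of a collection table. -/
def tblCo3_0_9 : Trie := (.node (.node (.node (.node (.node (.node (.leaf 356241724896168902) (.leaf 18802985799813303190)) (.node (.leaf 9579613761750946502) (.leaf 28026357836130964118))) (.node (.node (.leaf 4967927743323515718) (.leaf 23414671818509052694)) (.node (.leaf 14191299780178293318) (.leaf 32638043854826680854)))) (.node (.node (.node (.leaf 2662088694276856842) (.leaf 21108832767986408666)) (.node (.leaf 11885460731131632906) (.leaf 30332204804304068058))) (.node (.node (.leaf 7273774712704244874) (.leaf 25720518786682371162)) (.node (.leaf 16497146749559020938) (.leaf 34943890823000030554))))) (.node (.node (.node (.node (.leaf 1509163229517687782) (.leaf 19955907304501955382)) (.node (.leaf 10732535266372465382) (.leaf 29179279340819583542))) (.node (.node (.leaf 6120849247945050982)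 (.leaf 24567593323197664182)) (.node (.leaf 15344221284799828582) (.leaf 33790965359515325110)))) (.node (.node (.node (.leaf 3815008038785711146) (.leaf 22261752112428276858)) (.node (.leaf 13038380075640487210) (.leaf 31485124148745903482))) (.node (.node (.leaf 8426694057213099178) (.leaf 26873438130587098362)) (.node (.leaf 17650066094067875242) (.leaf 36096810166904724986)))))) (.node (.node (.node (.node (.node (.leaf 932706437366569610) (.leaf 19379450512418855514)) (.node (.leaf 10156078474221341578) (.leaf 28602822548736478042))) (.node (.node (.leaf 5544392455793998346) (.leaf 23991136530577906394)) (.node (.leaf 14767764492648770314) (.leaf 33214508566895528922)))) (.node (.node (.node (.leaf 3238522660638715334) (.leaf 21685266734750829974)) (.node (.leaf 12461894697493488838) (.leaf 30908638771069011094))) (.node (.node (.leaf 7850208679066078534) (.leaf 26296952753446546710)) (.node (.leaf 17073580715920852038) (.leaf 35520324789764695062))))) (.node (.node (.node (.node (.leaf 2085627941986007594) (.leaf 20532372016702749306)) (.node (.leaf 11308999978840779562) (.leaf 29755744053020371834)))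 (.node (.node (.leaf 6697313960413428394) (.leaf 25144058035398671098)) (.node (.leaf 15920685997268200362) (.leaf 34367430071716293626)))) (.node (.node (.node (.leaf 4391433166493986150) (.leaf 22838177239733587382)) (.node (.leaf 13614805203348759654) (.leaf 32061549277125477558))) (.node (.node (.leaf 9003119184921390566) (.leaf 27449863257892400438)) (.node (.leaf 18226491221776164070) (.leaf 36673235295284323382)))))))

/-- Part of a collection table. -/
def tblCo3_0_10 : Trie := (.node (.node (.node (.node (.node (.node (.leaf 384450829913918405) (.leaf 18831194904293690261)) (.node (.leaf 9607822866768696005) (.leaf 28054566941685584533))) (.node (.node (.leaf 4996136848341297989) (.leaf 23442880922452536085)) (.node (.leaf 14219508885196075589) (.leaf 32666252959844463125)))) (.node (.node (.node (.leaf 2690315390809070601) (.leaf 21137059464518622425)) (.node (.leaf 11913687427663846665) (.leaf 30360431501910515161))) (.node (.node (.leaf 7302001409236458633) (.leaf 25748745482677714009)) (.node (.leaf 16525373446091234697) (.leaf 34972117520069606745))))) (.node (.node (.node (.node (.leaf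 1537372334535470053) (.leaf 19984116408848091957)) (.node (.leaf 10760744371390247653) (.leaf 29207488446240018997))) (.node (.node (.leaf 6149058352962800485) (.leaf 24595802427006962613)) (.node (.leaf 15372430389817578085) (.leaf 33819174464398856885)))) (.node (.node (.node (.leaf 3843234666061544489) (.leaf 22289978739838327929)) (.node (.leaf 13066606702916320553) (.leaf 31513350777230253433))) (.node (.node (.leaf 8454920684488932521) (.leaf 26901664758534020345)) (.node (.leaf 17678292721343708585) (.leaf 36125036795925945849)))))) (.node (.node (.node (.node (.node (.leaf 960933133898750601) (.leaf 19407677208414165593)) (.node (.leaf 10184305170753522569) (.leaf 28631049245806087001))) (.node (.node (.leaf 5572619152326179337) (.leaf 24019363227110087385)) (.node (.leaf 14795991189180951305) (.leaf 33242735264502008793)))) (.node (.node (.node (.leaf 3266731765655940549) (.leaf 21713475839231741333)) (.node (.leaf 12490103802510714053) (.leaf 30936847876623107221))) (.node (.node (.leaf 7878417784083336517) (.leaf 26325161857390554389)) (.node (.leaf 17101789820938110021) (.leaf 35548533894781953045)))))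 (.node (.node (.node (.node (.leaf 2113854638518188585) (.leaf 20560598713369148025)) (.node (.leaf 11337226675372960553) (.leaf 29783970750761069433))) (.node (.node (.leaf 6725540656945609385) (.leaf 25172284731528198905)) (.node (.leaf 15948912693800381353) (.leaf 34395656768920120313)))) (.node (.node (.node (.leaf 4419659862489328997) (.leaf 22866403936937381301)) (.node (.leaf 13643031899344102501) (.leaf 32089775973255038133))) (.node (.node (.leaf 9031345880916700645) (.leaf 27478089955633098037)) (.node (.leaf 18254717917771474149) (.leaf 36701461991950722101)))))))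

/-- Part of a collection table. -/
def tblCo3_0_11 : Trie := (.node (.node (.node (.node (.node (.node (.leaf 420500433275380936) (.leaf 18867244507119076504)) (.node (.leaf 9643872470130157000) (.leaf 28090616544510444952))) (.node (.node (.leaf 5032186451702760520) (.leaf 23478930525278168088)) (.node (.leaf 14255558488557536584) (.leaf 32702302562669536536)))) (.node (.node (.node (.leaf 2726338569755283204) (.leaf 21173082645075800020)) (.node (.leaf 11949710606610060804) (.leaf 30396454681393985236))) (.node (.node (.leaf 7338024588182622084) (.leaf 25784768663771533140)) (.node (.leaf 16561396625037399684) (.leaf 35008140700089685588))))) (.node (.node (.node (.node (.leaf 1573421937880130792) (.leaf 20020166011790943288)) (.node (.leaf 10796793974734906856) (.leaf 29243538049182311736))) (.node (.node (.leaf 6185107956307510376) (.leaf 24631852029950026936)) (.node (.leaf 15408479993162286440) (.leaf 33855224067341395384)))) (.node (.node (.node (.leaf 3879257880499973924) (.leaf 22326001954679500660)) (.node (.leaf 13102629917354751524) (.leaf 31549373992071427700))) (.node (.node (.leaf 8490943898927312804)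 (.leaf 26937687972838633460)) (.node (.leaf 17714315935782090404) (.leaf 36161060010230527732)))))) (.node (.node (.node (.node (.node (.leaf 996956312845012356) (.leaf 19443700387359731028)) (.node (.leaf 10220328349699785860) (.leaf 28667072423677912148))) (.node (.node (.leaf 5608642331272391940) (.leaf 24055386405518568916)) (.node (.leaf 14832014368127165444) (.leaf 33278758441836717268)))) (.node (.node (.node (.leaf 3302825345503454920) (.leaf 21749569420152956568)) (.node (.leaf 12526197382358235080) (.leaf 30972941457544853400))) (.node (.node (.leaf 7914511363930801736) (.leaf 26361255438848673304)) (.node (.leaf 17137883400785581896) (.leaf 35584627476240570136))))) (.node (.node (.node (.node (.leaf 2149877817447673124) (.leaf 20596621891761048948)) (.node (.leaf 11373249854302446628) (.leaf 29819993928079230068))) (.node (.node (.leaf 6761563835875044772) (.leaf 25208307910456757748)) (.node (.leaf 15984935872729818276) (.leaf 34431679946774906100)))) (.node (.node (.node (.leaf 4455735885080684136) (.leaf 22902479960065861304)) (.node (.leaf 13679107921935464296) (.leaf 32125851997457758136)))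 (.node (.node (.leaf 9067421903508039400) (.leaf 27514165978224707128)) (.node (.leaf 18290793940362819560) (.leaf 36737538015616603960)))))))

/-- Part of a collection table. -/
def tblCo3_0_12 : Trie := (.node (.node (.node (.node (.node (.node (.leaf 455654105091525341) (.leaf 18902398179706432013)) (.node (.leaf 9679026141946305501) (.leaf 28125770217097804557))) (.node (.node (.leaf 5067340123518888541) (.leaf 23514084198402419341)) (.node (.leaf 14290712160373668701) (.leaf 32737456235793791885)))) (.node (.node (.node (.leaf 2761519192584158609) (.leaf 21208263266528304577)) (.node (.leaf 11984891229438932113) (.leaf 30431635302846485697))) (.node (.node (.leaf 7373205211011521809) (.leaf 25819949285224021313)) (.node (.leaf 16596577247866295313) (.leaf 35043321321542169665))))) (.node (.node (.node (.node (.leaf 1608575609708866173) (.leaf 20055319684663626285)) (.node (.leaf 10831947646563646333) (.leaf 29278691722054998829))) (.node (.node (.leaf 6220261628136221437) (.leaf 24667005702822480557)) (.node (.leaf 15443633664991001597) (.leaf 33890377740213853101)))) (.node (.node (.node (.leaf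 3914447324647316785) (.leaf 22361191397790367201)) (.node (.leaf 13137819361502090289) (.leaf 31584563435182290145))) (.node (.node (.leaf 8526133343074688433) (.leaf 26972877416486329697)) (.node (.leaf 17749505379929461937) (.leaf 36196249453878219873)))))) (.node (.node (.node (.node (.node (.leaf 1032136935673846545) (.leaf 19478881010960735041)) (.node (.leaf 10255508972528615953) (.leaf 28702253047278912065))) (.node (.node (.leaf 5643822954101250961) (.leaf 24090567029119540161)) (.node (.leaf 14867194990956020369) (.leaf 33313939065437684417)))) (.node (.node (.node (.leaf 3337961391200537821) (.leaf 21784705464809360397)) (.node (.leaf 12561333428055313885) (.leaf 31008077501127544077))) (.node (.node (.leaf 7949647409627933789) (.leaf 26396391483505314957)) (.node (.leaf 17173019446482709853) (.leaf 35619763519823498637))))) (.node (.node (.node (.node (.leaf 2185058440305851185) (.leaf 20631802515655556065)) (.node (.leaf 11408430477160620593) (.leaf 29855174551973700321))) (.node (.node (.leaf 6796744458733288369) (.leaf 25243488533814582113)) (.node (.leaf 16020116495588057777) (.leaf 34466860570132759137))))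 (.node (.node (.node (.leaf 4490880692245916925) (.leaf 22937624766320307373)) (.node (.leaf 13714252729100692989) (.leaf 32160996802638458285))) (.node (.node (.leaf 9102566710673296509) (.leaf 27549310784479382573)) (.node (.leaf 18325938747528072573) (.leaf 36772682820797533485)))))))

/-- Part of a collection table. -/
def tblCo3_0_13 : Trie := (.node (.node (.node (.node (.node (.node (.leaf 491732192472647120) (.leaf 18938476266081453312)) (.node (.leaf 9715104229327424720) (.leaf 28161848303473380352))) (.node (.node (.leaf 5103418210900026704) (.leaf 23550162284240291200)) (.node (.leaf 14326790247754804304) (.leaf 32773534321632185472)))) (.node (.node (.node (.leaf 2797552099057069724) (.leaf 21244296171995492044)) (.node (.leaf 12020924135911849884) (.leaf 30467668208313647052))) (.node (.node (.leaf 7409238117484416540) (.leaf 25855982190154337868)) (.node (.leaf 16632610154339196700) (.leaf 35079354226472492876))))) (.node (.node (.node (.node (.leaf 1644653697064822128) (.leaf 20091397770476365088)) (.node (.leaf 10868025733919599728) (.leaf 29314769807868292128))) (.node (.node (.leaf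 6256339715492193776) (.leaf 24703083789172336032)) (.node (.leaf 15479711752346971376) (.leaf 33926455826564230304)))) (.node (.node (.node (.leaf 3950480196729294396) (.leaf 22397224269394824940)) (.node (.leaf 13173852233584074556) (.leaf 31620596305712979948))) (.node (.node (.leaf 8562166215156649660) (.leaf 27008910287553949292)) (.node (.leaf 17785538252011429820) (.leaf 36232282323872104300)))))) (.node (.node (.node (.node (.node (.leaf 1068169842146774044) (.leaf 19514913915890019404)) (.node (.leaf 10291541879001550108) (.leaf 28738285952208203084))) (.node (.node (.leaf 5679855860574162076) (.leaf 24126599934585711820)) (.node (.leaf 14903227897428938140) (.leaf 33349971970903895500)))) (.node (.node (.node (.leaf 3374013158249457616) (.leaf 21820757231322138368)) (.node (.leaf 12597385195104239312) (.leaf 31044129267639803392))) (.node (.node (.leaf 7985699176676788048) (.leaf 26432443250017879936)) (.node (.leaf 17209071213531569744) (.leaf 35655815286335512192))))) (.node (.node (.node (.node (.leaf 2221091346753621052) (.leaf 20667835420559650028)) (.node (.leaf 11444463383608397116) (.leaf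 29891207456877833708))) (.node (.node (.leaf 6832777365181009084) (.leaf 25279521439255596140)) (.node (.leaf 16056149402035785148) (.leaf 34502893475573779820)))) (.node (.node (.node (.leaf 4526932494086539248) (.leaf 22973676566693701536)) (.node (.leaf 13750304530941320944) (.leaf 32197048604085075616))) (.node (.node (.leaf 9138618512513918832) (.leaf 27585362584852530976)) (.node (.leaf 18361990549368700528) (.leaf 36808734622243937824)))))))

/-- Part of a collection table. -/
def tblCo3_0_14 : Trie := (.node (.node (.node (.node (.node (.node (.leaf 537885326910588019) (.leaf 18984629400850891811)) (.node (.leaf 9761257363765364083) (.leaf 28208001437168551203))) (.node (.node (.leaf 5149571345337976051) (.leaf 23596315419546584227)) (.node (.leaf 14372943382192752115) (.leaf 32819687455864243619)))) (.node (.node (.node (.leaf 2843729448520877887) (.leaf 21290473520716400623)) (.node (.leaf 12067101485375659583) (.leaf 30513845558108298991))) (.node (.node (.leaf 7455415466948249535) (.leaf 25902159539412379503)) (.node (.leaf 16678787503803031231) (.leaf 35125531576804310639))))) (.node (.node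 (.node (.node (.leaf 1690806831516255443) (.leaf 20137550905662211075)) (.node (.leaf 10914178868371031507) (.leaf 29360922941979870467))) (.node (.node (.leaf 6302492849943651411) (.leaf 24749236923821032579)) (.node (.leaf 15525864886798427475) (.leaf 33972608960138691971)))) (.node (.node (.node (.leaf 3996661909588248479) (.leaf 22443405981989291983)) (.node (.leaf 13220033946443030175) (.leaf 31666778019381190351))) (.node (.node (.leaf 8608347928015628063) (.leaf 27055092000148399951)) (.node (.leaf 17831719964870409759) (.leaf 36278464037540331087)))))) (.node (.node (.node (.node (.node (.leaf 1114347191610607039) (.leaf 19561091265147815279)) (.node (.leaf 10337719228465384639) (.leaf 28784463302539709551))) (.node (.node (.leaf 5726033210038019391) (.leaf 24172777283306882543)) (.node (.leaf 14949405246892796991) (.leaf 33396149320698809583)))) (.node (.node (.node (.leaf 3420183850279732851) (.leaf 21866927922945205795)) (.node (.leaf 12643555887134513011) (.leaf 31090299960337135395))) (.node (.node (.leaf 8031869868707088115) (.leaf 26478613941641193123)) (.node (.leaf 17255241905561868275)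 (.leaf 35701985979033122723))))) (.node (.node (.node (.node (.leaf 2267268696222705055) (.leaf 20714012769697121743)) (.node (.leaf 11490640733077482655) (.leaf 29937384807089016015))) (.node (.node (.leaf 6878954714650101023) (.leaf 25325698787855934799)) (.node (.leaf 16102326751504878623) (.leaf 34549070825247861839)))) (.node (.node (.node (.leaf 4573103152268813907) (.leaf 23019847225072690819)) (.node (.leaf 13796475189123594067) (.leaf 32243219261390878595))) (.node (.node (.leaf 9184789170696169171) (.leaf 27631533243231798787)) (.node (.leaf 18408161207550949331) (.leaf 36854905279549986563)))))))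

/-- Part of a collection table. -/
def tblCo3_0_15 : Trie := (.node (.node (.node (.node (.node (.node (.leaf 542532048421595006) (.leaf 18989276123703068462)) (.node (.leaf 9765904085276376702) (.leaf 28212648160021225006))) (.node (.node (.leaf 5154218066849032190) (.leaf 23600962142398973870)) (.node (.leaf 14377590103703813886) (.leaf 32824334178717163182)))) (.node (.node (.node (.leaf 2848317795247085618) (.leaf 21295061869061503202)) (.node (.leaf 12071689832101861682) (.leaf 30518433906453395938))) (.node (.node (.leaf 7460003813674473650) (.leaf 25906747887220578402)) (.node (.leaf 16683375850529249714) (.leaf 35130119924612471138))))) (.node (.node (.node (.node (.leaf 1695453553018882014) (.leaf 20142197628505990926)) (.node (.leaf 10918825589873663710) (.leaf 29365569664824180238))) (.node (.node (.leaf 6307139571446294366) (.leaf 24753883646665058190)) (.node (.leaf 15530511608301076062) (.leaf 33977255682983214734)))) (.node (.node (.node (.leaf 4001250290992961682) (.leaf 22447994365004511426)) (.node (.leaf 13224622327847737746) (.leaf 31671366401322662338))) (.node (.node (.leaf 8612936309420357650)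 (.leaf 27059680383163586626)) (.node (.leaf 17836308346275133714) (.leaf 36283052419481737538)))))) (.node (.node (.node (.node (.node (.leaf 1118935538336833202) (.leaf 19565679612957048418)) (.node (.leaf 10342307575191605170) (.leaf 28789051650348969826))) (.node (.node (.leaf 5730621556764196402) (.leaf 24177365631653035746)) (.node (.leaf 14953993593618968370) (.leaf 33400737669044957154)))) (.node (.node (.node (.leaf 3424823430294970750) (.leaf 21871567503304417582)) (.node (.leaf 12648195467149748350) (.leaf 31094939540695787566))) (.node (.node (.leaf 8036509448722375166) (.leaf 26483253522000093614)) (.node (.leaf 17259881485577152766) (.leaf 35706625559391496366))))) (.node (.node (.node (.node (.leaf 2271857042932154002) (.leaf 20718601117481189058)) (.node (.leaf 11495229079786925970) (.leaf 29941973154873110466))) (.node (.node (.leaf 6883543061359500818) (.leaf 25330287136176905794)) (.node (.leaf 16106915098214272786) (.leaf 34553659173568827202)))) (.node (.node (.node (.leaf 4577742765964296542) (.leaf 23024486838969557390)) (.node (.leaf 13801114802819074142) (.leaf 32247858876360927374)))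 (.node (.node (.leaf 9189428784391700958) (.leaf 27636172857665224974)) (.node (.leaf 18412800821246478558) (.leaf 36859544895056627726)))))))

/-- Part of a collection table. -/
def tblCo3_1_0 : Trie := (.node (.node (.node (.node (.node (.node (.leaf 2) (.leaf 18014398509482974)) (.node (.leaf 9007199254741374) (.leaf 27047773718643362))) (.node (.node (.leaf 4503599627370626) (.leaf 22526828858188638)) (.node (.leaf 13519629607633406) (.leaf 31551373077586466)))) (.node (.node (.node (.leaf 2251799813685442) (.leaf 20279410045420446)) (.node (.leaf 11272210796970302) (.leaf 29308335399723618))) (.node (.node (.leaf 6755399441064002) (.leaf 24774247670948638)) (.node (.leaf 15767048418296254) (.leaf 33811934758658786))))) (.node (.node (.node (.node (.leaf 1125899906842846) (.leaf 19155539751799682)) (.node (.leaf 10148340490766626) (.leaf 28182469748810366))) (.node (.node (.leaf 5629499534221406) (.leaf 23650308922092290)) (.node (.leaf 14643109665245602) (.leaf 32686069107745534)))) (.node (.node (.node (.leaf 3377699720732830) (.leaf 21402889977154370)) (.node (.leaf 12395690718226914) (.leaf 30425439239668286)))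 (.node (.node (.leaf 7881299348095006) (.leaf 25897727867177922)) (.node (.leaf 16890528612436322) (.leaf 34929038598603454)))))) (.node (.node (.node (.node (.node (.leaf 562949953421646) (.leaf 18600187289608722)) (.node (.leaf 9592988041044018) (.leaf 27610723442451310))) (.node (.node (.leaf 5066549580808654) (.leaf 23112617373819538)) (.node (.leaf 14105418121289906) (.leaf 32114323338241006)))) (.node (.node (.node (.leaf 2814749767459086) (.leaf 20847605969912530)) (.node (.leaf 11840406723707122) (.leaf 29871285118976814))) (.node (.node (.leaf 7318349394813326) (.leaf 25359967326528082)) (.node (.leaf 16352768084222066) (.leaf 34374885014766510))))) (.node (.node (.node (.node (.leaf 1711688686971154) (.leaf 19709693880656590)) (.node (.leaf 10702494634156270) (.leaf 28722589842148146))) (.node (.node (.leaf 6215288314358162) (.leaf 24222054972719694)) (.node (.leaf 15214855722319982) (.leaf 33226189201099698)))) (.node (.node (.node (.leaf 3963488500410834) (.leaf 21965874691187342)) (.node (.leaf 12958675446816942) (.leaf 30965559337421810))) (.node (.node (.leaf 8467088127756626) (.leaf 26460643597238798))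 (.node (.leaf 17453444348903470) (.leaf 35469158696381298)))))))

/-- Part of a collection table. -/
def tblCo3_1_1 : Trie := (.node (.node (.node (.node (.node (.node (.leaf 3) (.leaf 18014398509482975)) (.node (.leaf 9007199254741375) (.leaf 27047773718643363))) (.node (.node (.leaf 4503599627370627) (.leaf 22526828858188639)) (.node (.leaf 13519629607633407) (.leaf 31551373077586467)))) (.node (.node (.node (.leaf 2251799813685443) (.leaf 20279410045420447)) (.node (.leaf 11272210796970303) (.leaf 29308335399723619))) (.node (.node (.leaf 6755399441064003) (.leaf 24774247670948639)) (.node (.leaf 15767048418296255) (.leaf 33811934758658787))))) (.node (.node (.node (.node (.leaf 1125899906842847) (.leaf 19155539751799683)) (.node (.leaf 10148340490766627) (.leaf 28182469748810367))) (.node (.node (.leaf 5629499534221407) (.leaf 23650308922092291)) (.node (.leaf 14643109665245603) (.leaf 32686069107745535)))) (.node (.node (.node (.leaf 3377699720732831) (.leaf 21402889977154371)) (.node (.leaf 12395690718226915) (.leaf 30425439239668287))) (.node (.node (.leaf 7881299348095007) (.leaf 25897727867177923))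 (.node (.leaf 16890528612436323) (.leaf 34929038598603455)))))) (.node (.node (.node (.node (.node (.leaf 562949953421647) (.leaf 18600187289608723)) (.node (.leaf 9592988041044019) (.leaf 27610723442451311))) (.node (.node (.leaf 5066549580808655) (.leaf 23112617373819539)) (.node (.leaf 14105418121289907) (.leaf 32114323338241007)))) (.node (.node (.node (.leaf 2814749767459087) (.leaf 20847605969912531)) (.node (.leaf 11840406723707123) (.leaf 29871285118976815))) (.node (.node (.leaf 7318349394813327) (.leaf 25359967326528083)) (.node (.leaf 16352768084222067) (.leaf 34374885014766511))))) (.node (.node (.node (.node (.leaf 1711688686971155) (.leaf 19709693880656591)) (.node (.leaf 10702494634156271) (.leaf 28722589842148147))) (.node (.node (.leaf 6215288314358163) (.leaf 24222054972719695)) (.node (.leaf 15214855722319983) (.leaf 33226189201099699)))) (.node (.node (.node (.leaf 3963488500410835) (.leaf 21965874691187343)) (.node (.leaf 12958675446816943) (.leaf 30965559337421811))) (.node (.node (.leaf 8467088127756627) (.leaf 26460643597238799)) (.node (.leaf 17453444348903471) (.leaf 35469158696381299)))))))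

/-- Part of a collection table. -/
def tblCo3_1_2 : Trie := (.node (.node (.node (.node (.node (.node (.leaf 70368744177952) (.leaf 18104636649400956)) (.node (.leaf 9097437399886044) (.leaf 27126938597663616))) (.node (.node (.leaf 4573968371564960) (.leaf 22617066460949244)) (.node (.leaf 13609867215652956) (.leaf 31630537956606720)))) (.node (.node (.node (.leaf 2322168558141920) (.leaf 20369647912167996)) (.node (.leaf 11362448669108380) (.leaf 29369908092535616))) (.node (.node (.leaf 6825768185504096) (.leaf 24864485537966780)) (.node (.leaf 15857286298798108) (.leaf 33873507451487168))))) (.node (.node (.node (.node (.leaf 1216138046759292) (.leaf 19217112366146208)) (.node (.leaf 10209913120948224) (.leaf 28224311630431196))) (.node (.node (.leaf 5719737674113532) (.leaf 23729473731101216)) (.node (.leaf 14722274481488000) (.leaf 32727911526261596)))) (.node (.node (.node (.leaf 3467937860223292) (.leaf 21464462864507488)) (.node (.leaf 12457263612895424) (.leaf 30484873307628444))) (.node (.node (.leaf 7971537487610300) (.leaf 25976892940559072)) (.node (.leaf 16969693693165632) (.leaf 34988473203442460))))))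 (.node (.node (.node (.node (.node (.leaf 653187489204332) (.leaf 18670590901945264)) (.node (.leaf 9663391639863696) (.leaf 27670157157689932))) (.node (.node (.leaf 5156787116574956) (.leaf 23182952258544432)) (.node (.leaf 14175753000657168) (.leaf 32173757053496012)))) (.node (.node (.node (.leaf 2904987302963244) (.leaf 20917941127562096)) (.node (.leaf 11910741867446608) (.leaf 29913126648547852))) (.node (.node (.leaf 7408586930333868) (.leaf 25430371203367920)) (.node (.leaf 16423171947708880) (.leaf 34416726544353932))))) (.node (.node (.node (.node (.leaf 1782092299305136) (.leaf 19808589761020908)) (.node (.leaf 10801390505361868) (.leaf 28784128329654928))) (.node (.node (.leaf 6285691926683696) (.leaf 24303358667334508)) (.node (.leaf 15296159415607628) (.leaf 33287728225452560)))) (.node (.node (.node (.leaf 4033892113129584) (.leaf 22047178121151404)) (.node (.leaf 13039978867458444) (.leaf 31044758730195536))) (.node (.node (.leaf 8537491740500208) (.leaf 26559539750118188)) (.node (.leaf 17552340492230924) (.leaf 35548358626001616)))))))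

/-- Part of a collection table. -/
def tblCo3_1_3 : Trie := (.node (.node (.node (.node (.node (.node (.leaf 70368744177953) (.leaf 18104636649400957)) (.node (.leaf 9097437399886045) (.leaf 27126938597663617))) (.node (.node (.leaf 4573968371564961) (.leaf 22617066460949245)) (.node (.leaf 13609867215652957) (.leaf 31630537956606721)))) (.node (.node (.node (.leaf 2322168558141921) (.leaf 20369647912167997)) (.node (.leaf 11362448669108381) (.leaf 29369908092535617))) (.node (.node (.leaf 6825768185504097) (.leaf 24864485537966781)) (.node (.leaf 15857286298798109) (.leaf 33873507451487169))))) (.node (.node (.node (.node (.leaf 1216138046759293) (.leaf 19217112366146209)) (.node (.leaf 10209913120948225) (.leaf 28224311630431197))) (.node (.node (.leaf 5719737674113533) (.leaf 23729473731101217)) (.node (.leaf 14722274481488001) (.leaf 32727911526261597)))) (.node (.node (.node (.leaf 3467937860223293) (.leaf 21464462864507489)) (.node (.leaf 12457263612895425) (.leaf 30484873307628445))) (.node (.node (.leaf 7971537487610301) (.leaf 25976892940559073)) (.node (.leaf 16969693693165633) (.leaf 34988473203442461))))))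 (.node (.node (.node (.node (.node (.leaf 653187489204333) (.leaf 18670590901945265)) (.node (.leaf 9663391639863697) (.leaf 27670157157689933))) (.node (.node (.leaf 5156787116574957) (.leaf 23182952258544433)) (.node (.leaf 14175753000657169) (.leaf 32173757053496013)))) (.node (.node (.node (.leaf 2904987302963245) (.leaf 20917941127562097)) (.node (.leaf 11910741867446609) (.leaf 29913126648547853))) (.node (.node (.leaf 7408586930333869) (.leaf 25430371203367921)) (.node (.leaf 16423171947708881) (.leaf 34416726544353933))))) (.node (.node (.node (.node (.leaf 1782092299305137) (.leaf 19808589761020909)) (.node (.leaf 10801390505361869) (.leaf 28784128329654929))) (.node (.node (.leaf 6285691926683697) (.leaf 24303358667334509)) (.node (.leaf 15296159415607629) (.leaf 33287728225452561)))) (.node (.node (.node (.leaf 4033892113129585) (.leaf 22047178121151405)) (.node (.leaf 13039978867458445) (.leaf 31044758730195537))) (.node (.node (.leaf 8537491740500209) (.leaf 26559539750118189)) (.node (.leaf 17552340492230925) (.leaf 35548358626001617)))))))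

/-- Part of a collection table. -/
def tblCo3_1_4 : Trie := (.node (.node (.node (.node (.node (.node (.leaf 140737488355462) (.leaf 18164241597080410)) (.node (.leaf 9157042346525178) (.leaf 27188510938571302))) (.node (.node (.leaf 4644337115734022) (.leaf 22659010503123930)) (.node (.leaf 13651811248382330) (.leaf 31692110834377382)))) (.node (.node (.node (.leaf 2392537302179910) (.leaf 20411660409971482)) (.node (.leaf 11404461157319098) (.leaf 29449072619774694))) (.node (.node (.leaf 6896136929550534) (.leaf 24924022038930330)) (.node (.leaf 15916822790480186) (.leaf 33952672515572326))))) (.node (.node (.node (.node (.leaf 1275742994440282) (.leaf 19296277504404230)) (.node (.leaf 10289078247557542) (.leaf 28314101906629370))) (.node (.node (.leaf 5779342621810906) (.leaf 23791046683077510)) (.node (.leaf 14783847422044454) (.leaf 32817701265556090)))) (.node (.node (.node (.leaf 3527542808182810) (.leaf 21543627729882054)) (.node (.leaf 12536428475140454) (.leaf 30574732302877370))) (.node (.node (.leaf 8031142435553434) (.leaf 26038465628040006)) (.node (.leaf 17031266369096166) (.leaf 35078331661820474))))))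 (.node (.node (.node (.node (.node (.leaf 712792772575690) (.leaf 18740924782158486)) (.node (.leaf 9733725529399478) (.leaf 27759948054488042))) (.node (.node (.leaf 5216392399970634) (.leaf 23253354857972246)) (.node (.leaf 14246155609636918) (.leaf 32263547413398378)))) (.node (.node (.node (.leaf 2964592586482058) (.leaf 20988343454212694)) (.node (.leaf 11981144211939446) (.leaf 30002986264576938))) (.node (.node (.leaf 7468192213827850) (.leaf 25500704818946774)) (.node (.leaf 16493505572708598) (.leaf 34506585623503658))))) (.node (.node (.node (.node (.leaf 1852426179520918) (.leaf 19858917951619658)) (.node (.leaf 10851718709575786) (.leaf 28863327066262454))) (.node (.node (.leaf 6356025806899478) (.leaf 24353756114256586)) (.node (.leaf 15346556867789034) (.leaf 33366926962092854)))) (.node (.node (.node (.leaf 4104225992821078) (.leaf 22097506584625674)) (.node (.leaf 13090307336060970) (.leaf 31106296561675126))) (.node (.node (.leaf 8607825620175318) (.leaf 26609936933077642)) (.node (.leaf 17602737680548010) (.leaf 35609896457497590)))))))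

/-- Part of a collection table. -/
def tblCo3_1_5 : Trie := (.node (.node (.node (.node (.node (.node (.leaf 140737488355463) (.leaf 18164241597080411)) (.node (.leaf 9157042346525179) (.leaf 27188510938571303))) (.node (.node (.leaf 4644337115734023) (.leaf 22659010503123931)) (.node (.leaf 13651811248382331) (.leaf 31692110834377383)))) (.node (.node (.node (.leaf 2392537302179911) (.leaf 20411660409971483)) (.node (.leaf 11404461157319099) (.leaf 29449072619774695))) (.node (.node (.leaf 6896136929550535) (.leaf 24924022038930331)) (.node (.leaf 15916822790480187) (.leaf 33952672515572327))))) (.node (.node (.node (.node (.leaf 1275742994440283) (.leaf 19296277504404231)) (.node (.leaf 10289078247557543) (.leaf 28314101906629371))) (.node (.node (.leaf 5779342621810907) (.leaf 23791046683077511)) (.node (.leaf 14783847422044455) (.leaf 32817701265556091)))) (.node (.node (.node (.leaf 3527542808182811) (.leaf 21543627729882055)) (.node (.leaf 12536428475140455) (.leaf 30574732302877371))) (.node (.node (.leaf 8031142435553435) (.leaf 26038465628040007)) (.node (.leaf 17031266369096167) (.leaf 35078331661820475))))))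 (.node (.node (.node (.node (.node (.leaf 712792772575691) (.leaf 18740924782158487)) (.node (.leaf 9733725529399479) (.leaf 27759948054488043))) (.node (.node (.leaf 5216392399970635) (.leaf 23253354857972247)) (.node (.leaf 14246155609636919) (.leaf 32263547413398379)))) (.node (.node (.node (.leaf 2964592586482059) (.leaf 20988343454212695)) (.node (.leaf 11981144211939447) (.leaf 30002986264576939))) (.node (.node (.leaf 7468192213827851) (.leaf 25500704818946775)) (.node (.leaf 16493505572708599) (.leaf 34506585623503659))))) (.node (.node (.node (.node (.leaf 1852426179520919) (.leaf 19858917951619659)) (.node (.leaf 10851718709575787) (.leaf 28863327066262455))) (.node (.node (.leaf 6356025806899479) (.leaf 24353756114256587)) (.node (.leaf 15346556867789035) (.leaf 33366926962092855)))) (.node (.node (.node (.leaf 4104225992821079) (.leaf 22097506584625675)) (.node (.leaf 13090307336060971) (.leaf 31106296561675127))) (.node (.node (.leaf 8607825620175319) (.leaf 26609936933077643)) (.node (.leaf 17602737680548011) (.leaf 35609896457497591)))))))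

/-- Part of a collection table. -/
def tblCo3_1_6 : Trie := (.node (.node (.node (.node (.node (.node (.leaf 230897743847844) (.leaf 18234688292522744)) (.node (.leaf 9227489047242840) (.leaf 27247884843180804))) (.node (.node (.leaf 4734497371193636) (.leaf 22729457198852728)) (.node (.leaf 13722257949337816) (.leaf 31751484202099588)))) (.node (.node (.node (.leaf 2482697557901668) (.leaf 20482107369409208)) (.node (.leaf 11474908130519064) (.leaf 29490854338192324))) (.node (.node (.leaf 6986297185288676) (.leaf 24994468461750840)) (.node (.leaf 15987269218429080) (.leaf 33994453697102660))))) (.node (.node (.node (.node (.leaf 1346189689881080) (.leaf 19377641101533732)) (.node (.leaf 10370441852182660) (.leaf 28393327485338456))) (.node (.node (.leaf 5849789317276024) (.leaf 23890002458141348)) (.node (.leaf 14882803212681220) (.leaf 32896926844257240)))) (.node (.node (.node (.leaf 3597989503525304) (.leaf 21624991591629540)) (.node (.leaf 12617792344252484) (.leaf 30636365696099096))) (.node (.node (.leaf 8101589130871096) (.leaf 26137421675848292)) (.node (.leaf 17130222424236228) (.leaf 35139965055017880))))))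 (.node (.node (.node (.node (.node (.leaf 783238864201960) (.leaf 18795934921343796)) (.node (.leaf 9788735663456532) (.leaf 27821580558076616))) (.node (.node (.leaf 5286838491564136) (.leaf 23308296286323636)) (.node (.leaf 14301097024242068) (.leaf 32325180453890632)))) (.node (.node (.node (.leaf 3035038677813416) (.leaf 21043285146805236)) (.node (.leaf 12036085891146196) (.leaf 30082210954635912))) (.node (.node (.leaf 7538638305191976) (.leaf 25555715231253364)) (.node (.leaf 16548515971137876) (.leaf 34585810850433544))))) (.node (.node (.node (.node (.leaf 1907436318703668) (.leaf 19920430747304808)) (.node (.leaf 10913231487189320) (.leaf 28940259010175508))) (.node (.node (.leaf 6411035946074292) (.leaf 24432860558869480)) (.node (.leaf 15425661303210440) (.leaf 33443858905981588)))) (.node (.node (.node (.leaf 4159236132389108) (.leaf 22176611293348648)) (.node (.leaf 13169412035461384) (.leaf 31200889410822868))) (.node (.node (.leaf 8662835759767668) (.leaf 26671449455739816)) (.node (.leaf 17664250193658248) (.leaf 35704489306620500)))))))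

/-- Part of a collection table. -/
def tblCo3_1_7 : Trie := (.node (.node (.node (.node (.node (.node (.leaf 230897743847845) (.leaf 18234688292522745)) (.node (.leaf 9227489047242841) (.leaf 27247884843180805))) (.node (.node (.leaf 4734497371193637) (.leaf 22729457198852729)) (.node (.leaf 13722257949337817) (.leaf 31751484202099589)))) (.node (.node (.node (.leaf 2482697557901669) (.leaf 20482107369409209)) (.node (.leaf 11474908130519065) (.leaf 29490854338192325))) (.node (.node (.leaf 6986297185288677) (.leaf 24994468461750841)) (.node (.leaf 15987269218429081) (.leaf 33994453697102661))))) (.node (.node (.node (.node (.leaf 1346189689881081) (.leaf 19377641101533733)) (.node (.leaf 10370441852182661) (.leaf 28393327485338457))) (.node (.node (.leaf 5849789317276025) (.leaf 23890002458141349)) (.node (.leaf 14882803212681221) (.leaf 32896926844257241)))) (.node (.node (.node (.leaf 3597989503525305) (.leaf 21624991591629541)) (.node (.leaf 12617792344252485) (.leaf 30636365696099097))) (.node (.node (.leaf 8101589130871097) (.leaf 26137421675848293)) (.node (.leaf 17130222424236229) (.leaf 35139965055017881))))))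 (.node (.node (.node (.node (.node (.leaf 783238864201961) (.leaf 18795934921343797)) (.node (.leaf 9788735663456533) (.leaf 27821580558076617))) (.node (.node (.leaf 5286838491564137) (.leaf 23308296286323637)) (.node (.leaf 14301097024242069) (.leaf 32325180453890633)))) (.node (.node (.node (.leaf 3035038677813417) (.leaf 21043285146805237)) (.node (.leaf 12036085891146197) (.leaf 30082210954635913))) (.node (.node (.leaf 7538638305191977) (.leaf 25555715231253365)) (.node (.leaf 16548515971137877) (.leaf 34585810850433545))))) (.node (.node (.node (.node (.leaf 1907436318703669) (.leaf 19920430747304809)) (.node (.leaf 10913231487189321) (.leaf 28940259010175509))) (.node (.node (.leaf 6411035946074293) (.leaf 24432860558869481)) (.node (.leaf 15425661303210441) (.leaf 33443858905981589)))) (.node (.node (.node (.leaf 4159236132389109) (.leaf 22176611293348649)) (.node (.leaf 13169412035461385) (.leaf 31200889410822869))) (.node (.node (.leaf 8662835759767669) (.leaf 26671449455739817)) (.node (.leaf 17664250193658249) (.leaf 35704489306620501)))))))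

/-- Part of a collection table. -/
def tblCo3_1_8 : Trie := (.node (.node (.node (.node (.node (.node (.leaf 281474976711082) (.leaf 18325047698785014)) (.node (.leaf 9317848434630742) (.leaf 27338045519119114))) (.node (.node (.leaf 4785074604106026) (.leaf 22819816877744758)) (.node (.leaf 13812617609355478) (.leaf 31841644878037898)))) (.node (.node (.node (.leaf 2533274790814058) (.leaf 20572466916164278)) (.node (.leaf 11565267654238230) (.leaf 29581014481454026))) (.node (.node (.leaf 7036874418168298) (.leaf 25084828281168438)) (.node (.leaf 16077629014745238) (.leaf 34084614377251658))))) (.node (.node (.node (.node (.leaf 1436549096147446) (.leaf 19428218436149802)) (.node (.leaf 10421019176280202) (.leaf 28443567095638870))) (.node (.node (.leaf 5940148723542390) (.leaf 23940579528483498)) (.node (.leaf 14933380272570378) (.leaf 32947166991428566)))) (.node (.node (.node (.leaf 3688348909791670) (.leaf 21675568265626346)) (.node (.leaf 12668369003569226) (.leaf 30686605310577430))) (.node (.node (.leaf 8191948537137462) (.leaf 26187998614086250)) (.node (.leaf 17180799347794122) (.leaf 35190204669496214))))))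 (.node (.node (.node (.node (.node (.leaf 873598807335142) (.leaf 18881662172881722)) (.node (.leaf 9874462919188762) (.leaf 27871821913203398))) (.node (.node (.leaf 5377198434697318) (.leaf 23394092521579450)) (.node (.leaf 14386893272080794) (.leaf 32375421272130118)))) (.node (.node (.node (.leaf 3125398620946598) (.leaf 21129080985699322)) (.node (.leaf 12121881730040282) (.leaf 30132451777069702))) (.node (.node (.leaf 7628998248325158) (.leaf 25641442614928250)) (.node (.leaf 16634243363201370) (.leaf 34636051672883718))))) (.node (.node (.node (.node (.leaf 1993163570241594) (.leaf 20010373295336294)) (.node (.leaf 11003174043609414) (.leaf 28995269224956442))) (.node (.node (.leaf 6496763197612218) (.leaf 24522803379530726)) (.node (.leaf 15515604123871686) (.leaf 33498868583891610)))) (.node (.node (.node (.leaf 4244963383927034) (.leaf 22266553981872934)) (.node (.leaf 13259354723985670) (.leaf 31255830633530074))) (.node (.node (.leaf 8748563011289210) (.leaf 26761391871634342)) (.node (.leaf 17754192617941382) (.leaf 35759430529344090)))))))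

/-- Part of a collection table. -/
def tblCo3_1_9 : Trie := (.node (.node (.node (.node (.node (.node (.leaf 281474976711083) (.leaf 18325047698785015)) (.node (.leaf 9317848434630743) (.leaf 27338045519119115))) (.node (.node (.leaf 4785074604106027) (.leaf 22819816877744759)) (.node (.leaf 13812617609355479) (.leaf 31841644878037899)))) (.node (.node (.node (.leaf 2533274790814059) (.leaf 20572466916164279)) (.node (.leaf 11565267654238231) (.leaf 29581014481454027))) (.node (.node (.leaf 7036874418168299) (.leaf 25084828281168439)) (.node (.leaf 16077629014745239) (.leaf 34084614377251659))))) (.node (.node (.node (.node (.leaf 1436549096147447) (.leaf 19428218436149803)) (.node (.leaf 10421019176280203) (.leaf 28443567095638871))) (.node (.node (.leaf 5940148723542391) (.leaf 23940579528483499)) (.node (.leaf 14933380272570379) (.leaf 32947166991428567)))) (.node (.node (.node (.leaf 3688348909791671) (.leaf 21675568265626347)) (.node (.leaf 12668369003569227) (.leaf 30686605310577431))) (.node (.node (.leaf 8191948537137463) (.leaf 26187998614086251)) (.node (.leaf 17180799347794123) (.leaf 35190204669496215))))))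 (.node (.node (.node (.node (.node (.leaf 873598807335143) (.leaf 18881662172881723)) (.node (.leaf 9874462919188763) (.leaf 27871821913203399))) (.node (.node (.leaf 5377198434697319) (.leaf 23394092521579451)) (.node (.leaf 14386893272080795) (.leaf 32375421272130119)))) (.node (.node (.node (.leaf 3125398620946599) (.leaf 21129080985699323)) (.node (.leaf 12121881730040283) (.leaf 30132451777069703))) (.node (.node (.leaf 7628998248325159) (.leaf 25641442614928251)) (.node (.leaf 16634243363201371) (.leaf 34636051672883719))))) (.node (.node (.node (.node (.leaf 1993163570241595) (.leaf 20010373295336295)) (.node (.leaf 11003174043609415) (.leaf 28995269224956443))) (.node (.node (.leaf 6496763197612219) (.leaf 24522803379530727)) (.node (.leaf 15515604123871687) (.leaf 33498868583891611)))) (.node (.node (.node (.leaf 4244963383927035) (.leaf 22266553981872935)) (.node (.leaf 13259354723985671) (.leaf 31255830633530075))) (.node (.node (.leaf 8748563011289211) (.leaf 26761391871634343)) (.node (.leaf 17754192617941383) (.leaf 35759430529344091)))))))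

/-- Part of a collection table. -/
def tblCo3_1_10 : Trie := (.node (.node (.node (.node (.node (.node (.leaf 351921077504136) (.leaf 18375624854995796)) (.node (.leaf 9368425604456948) (.leaf 27399678036757032))) (.node (.node (.leaf 4855520704882696) (.leaf 22870394033669076)) (.node (.leaf 13863194778927476) (.leaf 31903277932563112)))) (.node (.node (.node (.leaf 2603720891328584) (.leaf 20623043808412436)) (.node (.leaf 11615844551582132) (.leaf 29660239713733352))) (.node (.node (.leaf 7107320518699208) (.leaf 25135405164741524)) (.node (.leaf 16128205912097076) (.leaf 34163839072676456))))) (.node (.node (.node (.node (.leaf 1487126252355668) (.leaf 19507322867098376)) (.node (.leaf 10500123614445992) (.leaf 28524931557294836))) (.node (.node (.leaf 5990725879726292) (.leaf 24002092310012808)) (.node (.leaf 14994893061562664) (.leaf 33028531453108852)))) (.node (.node (.node (.leaf 3738926066114580) (.leaf 21754672960439240)) (.node (.leaf 12747473705697640) (.leaf 30785561957786292))) (.node (.node (.leaf 8242525693485204) (.leaf 26249511122838344)) (.node (.leaf 17242311872283112) (.leaf 35289161316713012))))))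 (.node (.node (.node (.node (.node (.leaf 924176030507460) (.leaf 18952143316142744)) (.node (.leaf 9944944075933880) (.leaf 27970777688376292))) (.node (.node (.leaf 5427775657886020) (.leaf 23464504408222232)) (.node (.leaf 14457305164113976) (.leaf 32474377584206692)))) (.node (.node (.node (.leaf 3175975844397444) (.leaf 21199493144971864)) (.node (.leaf 12192293894310008) (.leaf 30213815902675876))) (.node (.node (.leaf 7679575471759620) (.leaf 25711923493423832)) (.node (.leaf 16704724247185656) (.leaf 34717415261618980))))) (.node (.node (.node (.node (.leaf 2063644713501080) (.leaf 20069746662777412)) (.node (.leaf 11062547403989092) (.leaf 29074459060224952))) (.node (.node (.leaf 6567244340863256) (.leaf 24564584561205956)) (.node (.leaf 15557385297928420) (.leaf 33578058956022584)))) (.node (.node (.node (.leaf 4315444526784856) (.leaf 22308335427920388)) (.node (.leaf 13301136162578468) (.leaf 31317497539355512))) (.node (.node (.leaf 8819044154171864) (.leaf 26820765512131204)) (.node (.leaf 17813566242824356) (.leaf 35821096898274296)))))))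

/-- Part of a collection table. -/
def tblCo3_1_11 : Trie := (.node (.node (.node (.node (.node (.node (.leaf 351921077504137) (.leaf 18375624854995797)) (.node (.leaf 9368425604456949) (.leaf 27399678036757033))) (.node (.node (.leaf 4855520704882697) (.leaf 22870394033669077)) (.node (.leaf 13863194778927477) (.leaf 31903277932563113)))) (.node (.node (.node (.leaf 2603720891328585) (.leaf 20623043808412437)) (.node (.leaf 11615844551582133) (.leaf 29660239713733353))) (.node (.node (.leaf 7107320518699209) (.leaf 25135405164741525)) (.node (.leaf 16128205912097077) (.leaf 34163839072676457))))) (.node (.node (.node (.node (.leaf 1487126252355669) (.leaf 19507322867098377)) (.node (.leaf 10500123614445993) (.leaf 28524931557294837))) (.node (.node (.leaf 5990725879726293) (.leaf 24002092310012809)) (.node (.leaf 14994893061562665) (.leaf 33028531453108853)))) (.node (.node (.node (.leaf 3738926066114581) (.leaf 21754672960439241)) (.node (.leaf 12747473705697641) (.leaf 30785561957786293))) (.node (.node (.leaf 8242525693485205) (.leaf 26249511122838345)) (.node (.leaf 17242311872283113) (.leaf 35289161316713013))))))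 (.node (.node (.node (.node (.node (.leaf 924176030507461) (.leaf 18952143316142745)) (.node (.leaf 9944944075933881) (.leaf 27970777688376293))) (.node (.node (.leaf 5427775657886021) (.leaf 23464504408222233)) (.node (.leaf 14457305164113977) (.leaf 32474377584206693)))) (.node (.node (.node (.leaf 3175975844397445) (.leaf 21199493144971865)) (.node (.leaf 12192293894310009) (.leaf 30213815902675877))) (.node (.node (.leaf 7679575471759621) (.leaf 25711923493423833)) (.node (.leaf 16704724247185657) (.leaf 34717415261618981))))) (.node (.node (.node (.node (.leaf 2063644713501081) (.leaf 20069746662777413)) (.node (.leaf 11062547403989093) (.leaf 29074459060224953))) (.node (.node (.leaf 6567244340863257) (.leaf 24564584561205957)) (.node (.leaf 15557385297928421) (.leaf 33578058956022585)))) (.node (.node (.node (.leaf 4315444526784857) (.leaf 22308335427920389)) (.node (.leaf 13301136162578469) (.leaf 31317497539355513))) (.node (.node (.leaf 8819044154171865) (.leaf 26820765512131205)) (.node (.leaf 17813566242824357) (.leaf 35821096898274297)))))))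

/-- Part of a collection table. -/
def tblCo3_1_12 : Trie := (.node (.node (.node (.node (.node (.node (.leaf 422246829007150) (.leaf 18457263972164210)) (.node (.leaf 9450064712196306) (.leaf 27478748383495054))) (.node (.node (.leaf 4925846456394158) (.leaf 22969625336898290)) (.node (.leaf 13962426072694866) (.leaf 31982348279292686)))) (.node (.node (.node (.leaf 2674046642971118) (.leaf 20722275375456818)) (.node (.leaf 11715076109328530) (.leaf 29721786593665870))) (.node (.node (.leaf 7177646270316910) (.leaf 25217044554408626)) (.node (.leaf 16209845283782674) (.leaf 34225385952584654))))) (.node (.node (.node (.node (.leaf 1568765369526642) (.leaf 19568921296331438)) (.node (.leaf 10561722040647694) (.leaf 28575233881631698))) (.node (.node (.leaf 6072364996913650) (.leaf 24081351645004334)) (.node (.leaf 15074152384905358) (.leaf 33078833240542034)))) (.node (.node (.node (.leaf 3820565183023410) (.leaf 21816340382032494)) (.node (.leaf 12809141115773134) (.leaf 30835863745612690))) (.node (.node (.leaf 8324164810377650) (.leaf 26328701474398958)) (.node (.leaf 17321502212292686) (.leaf 35339463641410322))))))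 (.node (.node (.node (.node (.node (.leaf 1005814812000354) (.leaf 19022434020975550)) (.node (.leaf 10015234771476894) (.leaf 28021080616796738))) (.node (.node (.leaf 5509414439370978) (.leaf 23534795650188094)) (.node (.leaf 14527596396495134) (.leaf 32524679975731906)))) (.node (.node (.node (.leaf 3257614625759266) (.leaf 21269784114455422)) (.node (.leaf 12262584862728542) (.leaf 30264118294503938))) (.node (.node (.leaf 7761214253129890) (.leaf 25782214462891006)) (.node (.leaf 16775015207231966) (.leaf 34767718190310018))))) (.node (.node (.node (.node (.leaf 2133935418335422) (.leaf 20159632002870242)) (.node (.leaf 11152432747211202) (.leaf 29135972085138078))) (.node (.node (.leaf 6637535045697598) (.leaf 24654469892885346)) (.node (.leaf 15647270641158466) (.leaf 33639571980952094)))) (.node (.node (.node (.leaf 4385735232143486) (.leaf 22398220495104930)) (.node (.leaf 13391021241411970) (.leaf 31396602749936222))) (.node (.node (.leaf 8889334859514110) (.leaf 26910650579290914)) (.node (.leaf 17903451321403650) (.leaf 35900202108871390)))))))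

/-- Part of a collection table. -/
def tblCo3_1_13 : Trie := (.node (.node (.node (.node (.node (.node (.leaf 422246829007151) (.leaf 18457263972164211)) (.node (.leaf 9450064712196307) (.leaf 27478748383495055))) (.node (.node (.leaf 4925846456394159) (.leaf 22969625336898291)) (.node (.leaf 13962426072694867) (.leaf 31982348279292687)))) (.node (.node (.node (.leaf 2674046642971119) (.leaf 20722275375456819)) (.node (.leaf 11715076109328531) (.leaf 29721786593665871))) (.node (.node (.leaf 7177646270316911) (.leaf 25217044554408627)) (.node (.leaf 16209845283782675) (.leaf 34225385952584655))))) (.node (.node (.node (.node (.leaf 1568765369526643) (.leaf 19568921296331439)) (.node (.leaf 10561722040647695) (.leaf 28575233881631699))) (.node (.node (.leaf 6072364996913651) (.leaf 24081351645004335)) (.node (.leaf 15074152384905359) (.leaf 33078833240542035)))) (.node (.node (.node (.leaf 3820565183023411) (.leaf 21816340382032495)) (.node (.leaf 12809141115773135) (.leaf 30835863745612691))) (.node (.node (.leaf 8324164810377651) (.leaf 26328701474398959)) (.node (.leaf 17321502212292687) (.leaf 35339463641410323))))))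 (.node (.node (.node (.node (.node (.leaf 1005814812000355) (.leaf 19022434020975551)) (.node (.leaf 10015234771476895) (.leaf 28021080616796739))) (.node (.node (.leaf 5509414439370979) (.leaf 23534795650188095)) (.node (.leaf 14527596396495135) (.leaf 32524679975731907)))) (.node (.node (.node (.leaf 3257614625759267) (.leaf 21269784114455423)) (.node (.leaf 12262584862728543) (.leaf 30264118294503939))) (.node (.node (.leaf 7761214253129891) (.leaf 25782214462891007)) (.node (.leaf 16775015207231967) (.leaf 34767718190310019))))) (.node (.node (.node (.node (.leaf 2133935418335423) (.leaf 20159632002870243)) (.node (.leaf 11152432747211203) (.leaf 29135972085138079))) (.node (.node (.leaf 6637535045697599) (.leaf 24654469892885347)) (.node (.leaf 15647270641158467) (.leaf 33639571980952095)))) (.node (.node (.node (.leaf 4385735232143487) (.leaf 22398220495104931)) (.node (.leaf 13391021241411971) (.leaf 31396602749936223))) (.node (.node (.leaf 8889334859514111) (.leaf 26910650579290915)) (.node (.leaf 17903451321403651) (.leaf 35900202108871391)))))))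

/-- Part of a collection table. -/
def tblCo3_1_14 : Trie := (.node (.node (.node (.node (.node (.node (.leaf 512484101326860) (.leaf 18527632375178192)) (.node (.leaf 9520433120436592) (.leaf 27520590258055852))) (.node (.node (.leaf 5016083728697484) (.leaf 23039993731760976)) (.node (.leaf 14032794481222128) (.leaf 32024189616982572)))) (.node (.node (.node (.leaf 2764283915012300) (.leaf 20792643506348944)) (.node (.leaf 11785444253704496) (.leaf 29781220117531244))) (.node (.node (.leaf 7267883542390860) (.leaf 25287412685013776)) (.node (.leaf 16280213428183472) (.leaf 34284820013337324))))) (.node (.node (.node (.node (.leaf 1639133772538064) (.leaf 19667817444098956)) (.node (.leaf 10660618187260204) (.leaf 28654399357534832))) (.node (.node (.leaf 6142733399900240) (.leaf 24162655069627148)) (.node (.leaf 15155455816974764) (.leaf 33157998716470000)))) (.node (.node (.node (.leaf 3890933586411664) (.leaf 21915236256793420)) (.node (.leaf 12908036997865964) (.leaf 30897437035209264))) (.node (.node (.leaf 8394533213790224) (.leaf 26410005163099084)) (.node (.leaf 17402805908357484) (.leaf 35401036931015344))))))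 (.node (.node (.node (.node (.node (.leaf 1076183819116864) (.leaf 19077453252594204)) (.node (.leaf 10070254008223804) (.leaf 28082653034398560))) (.node (.node (.leaf 5579783446471104) (.leaf 23589883064175260)) (.node (.leaf 14582683815839932) (.leaf 32586252930188256)))) (.node (.node (.node (.leaf 3327983633105152) (.leaf 21324871792421596)) (.node (.leaf 12317672546183420) (.leaf 30343283434611488))) (.node (.node (.leaf 7831583260492160) (.leaf 25837233421617756)) (.node (.leaf 16830034179344508) (.leaf 34846882793530272))))) (.node (.node (.node (.node (.leaf 2188954649952540) (.leaf 20221204423197376)) (.node (.leaf 11214005159919840) (.leaf 29230624368886588))) (.node (.node (.leaf 6692554277339548) (.leaf 24733634507383360)) (.node (.leaf 15726435240206432) (.leaf 33734223727838140)))) (.node (.node (.node (.leaf 4440754463392220) (.leaf 22477385374253696)) (.node (.leaf 13470186113073312) (.leaf 31473593599919100))) (.node (.node (.leaf 8944354090754396) (.leaf 26972223272395264)) (.node (.leaf 17965024007315488) (.leaf 35977193495749500)))))))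

/-- Part of a collection table. -/
def tblCo3_1_15 : Trie := (.node (.node (.node (.node (.node (.node (.leaf 512484101326861) (.leaf 18527632375178193)) (.node (.leaf 9520433120436593) (.leaf 27520590258055853))) (.node (.node (.leaf 5016083728697485) (.leaf 23039993731760977)) (.node (.leaf 14032794481222129) (.leaf 32024189616982573)))) (.node (.node (.node (.leaf 2764283915012301) (.leaf 20792643506348945)) (.node (.leaf 11785444253704497) (.leaf 29781220117531245))) (.node (.node (.leaf 7267883542390861) (.leaf 25287412685013777)) (.node (.leaf 16280213428183473) (.leaf 34284820013337325))))) (.node (.node (.node (.node (.leaf 1639133772538065) (.leaf 19667817444098957)) (.node (.leaf 10660618187260205) (.leaf 28654399357534833))) (.node (.node (.leaf 6142733399900241) (.leaf 24162655069627149)) (.node (.leaf 15155455816974765) (.leaf 33157998716470001)))) (.node (.node (.node (.leaf 3890933586411665) (.leaf 21915236256793421)) (.node (.leaf 12908036997865965) (.leaf 30897437035209265))) (.node (.node (.leaf 8394533213790225) (.leaf 26410005163099085)) (.node (.leaf 17402805908357485) (.leaf 35401036931015345))))))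 (.node (.node (.node (.node (.node (.leaf 1076183819116865) (.leaf 19077453252594205)) (.node (.leaf 10070254008223805) (.leaf 28082653034398561))) (.node (.node (.leaf 5579783446471105) (.leaf 23589883064175261)) (.node (.leaf 14582683815839933) (.leaf 32586252930188257)))) (.node (.node (.node (.leaf 3327983633105153) (.leaf 21324871792421597)) (.node (.leaf 12317672546183421) (.leaf 30343283434611489))) (.node (.node (.leaf 7831583260492161) (.leaf 25837233421617757)) (.node (.leaf 16830034179344509) (.leaf 34846882793530273))))) (.node (.node (.node (.node (.leaf 2188954649952541) (.leaf 20221204423197377)) (.node (.leaf 11214005159919841) (.leaf 29230624368886589))) (.node (.node (.leaf 6692554277339549) (.leaf 24733634507383361)) (.node (.leaf 15726435240206433) (.leaf 33734223727838141)))) (.node (.node (.node (.leaf 4440754463392221) (.leaf 22477385374253697)) (.node (.leaf 13470186113073313) (.leaf 31473593599919101))) (.node (.node (.leaf 8944354090754397) (.leaf 26972223272395265)) (.node (.leaf 17965024007315489) (.leaf 35977193495749501)))))))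

/-- Part of a collection table. -/
def tblCo3_2_0 : Trie := (.node (.node (.node (.node (.node (.node (.leaf 4) (.leaf 35184372089620)) (.node (.leaf 17592186044724) (.leaf 52777199872548))) (.node (.node (.leaf 8796093022340) (.leaf 43980733547412)) (.node (.leaf 26388551696820) (.leaf 61573288700580)))) (.node (.node (.node (.leaf 4398046511300) (.leaf 39582821254100)) (.node (.leaf 21990641500660) (.leaf 57175244286692))) (.node (.node (.leaf 13194139541572) (.leaf 48378645848916)) (.node (.leaf 30786461901172) (.leaf 65971341494884))))) (.node (.node (.node (.node (.leaf 2199023255700) (.leaf 37383697343236)) (.node (.leaf 19791511298340) (.leaf 54976487369396))) (.node (.node (.leaf 10995116285972) (.leaf 46179521930116)) (.node (.leaf 28587340079524) (.leaf 63772584577588)))) (.node (.node (.node (.leaf 6597069906004) (.leaf 41781609636804)) (.node (.leaf 24189429883364) (.leaf 59374540294772))) (.node (.node (.leaf 15393162928340) (.leaf 50577971086148)) (.node (.leaf 32985787138404) (.leaf 68170629122804)))))) (.node (.node (.node (.node (.node (.leaf 1099511627940) (.leaf 36284219269940)) (.node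 (.leaf 18692034273684) (.leaf 53876708346372))) (.node (.node (.leaf 9895604658212) (.leaf 45080043856820)) (.node (.leaf 27487863046420) (.leaf 62672805563012)))) (.node (.node (.node (.leaf 5497558278244) (.leaf 40682131563508)) (.node (.leaf 23089952981332) (.leaf 58274761149124))) (.node (.node (.leaf 14293651300580) (.leaf 49478493012852)) (.node (.leaf 31886310244820) (.leaf 67070849985092))))) (.node (.node (.node (.node (.leaf 3298870436020) (.leaf 38482944721828)) (.node (.leaf 20890755539204) (.leaf 56075664501268))) (.node (.node (.leaf 12094963449908) (.leaf 47279306187556)) (.node (.leaf 29687121191300) (.leaf 64871761717908)))) (.node (.node (.node (.leaf 7696917069940) (.leaf 42881394025316)) (.node (.leaf 25289210995140) (.leaf 60473717304020))) (.node (.node (.leaf 16493010092276) (.leaf 51677218612196)) (.node (.leaf 34085031379268) (.leaf 69269806123604)))))))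

/-- Part of a collection table. -/
def tblCo3_2_1 : Trie := (.node (.node (.node (.node (.node (.node (.leaf 5) (.leaf 35184372089621)) (.node (.leaf 17592186044725) (.leaf 52777199872549))) (.node (.node (.leaf 8796093022341) (.leaf 43980733547413)) (.node (.leaf 26388551696821) (.leaf 61573288700581)))) (.node (.node (.node (.leaf 4398046511301) (.leaf 39582821254101)) (.node (.leaf 21990641500661) (.leaf 57175244286693))) (.node (.node (.leaf 13194139541573) (.leaf 48378645848917)) (.node (.leaf 30786461901173) (.leaf 65971341494885))))) (.node (.node (.node (.node (.leaf 2199023255701) (.leaf 37383697343237)) (.node (.leaf 19791511298341) (.leaf 54976487369397))) (.node (.node (.leaf 10995116285973) (.leaf 46179521930117)) (.node (.leaf 28587340079525) (.leaf 63772584577589)))) (.node (.node (.node (.leaf 6597069906005) (.leaf 41781609636805)) (.node (.leaf 24189429883365) (.leaf 59374540294773))) (.node (.node (.leaf 15393162928341) (.leaf 50577971086149)) (.node (.leaf 32985787138405) (.leaf 68170629122805)))))) (.node (.node (.node (.node (.node (.leaf 1099511627941) (.leaf 36284219269941)) (.node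 (.leaf 18692034273685) (.leaf 53876708346373))) (.node (.node (.leaf 9895604658213) (.leaf 45080043856821)) (.node (.leaf 27487863046421) (.leaf 62672805563013)))) (.node (.node (.node (.leaf 5497558278245) (.leaf 40682131563509)) (.node (.leaf 23089952981333) (.leaf 58274761149125))) (.node (.node (.leaf 14293651300581) (.leaf 49478493012853)) (.node (.leaf 31886310244821) (.leaf 67070849985093))))) (.node (.node (.node (.node (.leaf 3298870436021) (.leaf 38482944721829)) (.node (.leaf 20890755539205) (.leaf 56075664501269))) (.node (.node (.leaf 12094963449909) (.leaf 47279306187557)) (.node (.leaf 29687121191301) (.leaf 64871761717909)))) (.node (.node (.node (.leaf 7696917069941) (.leaf 42881394025317)) (.node (.leaf 25289210995141) (.leaf 60473717304021))) (.node (.node (.leaf 16493010092277) (.leaf 51677218612197)) (.node (.leaf 34085031379269) (.leaf 69269806123605)))))))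

/-- Part of a collection table. -/
def tblCo3_2_2 : Trie := (.node (.node (.node (.node (.node (.node (.leaf 6) (.leaf 35184372089622)) (.node (.leaf 17592186044726) (.leaf 52777199872550))) (.node (.node (.leaf 8796093022342) (.leaf 43980733547414)) (.node (.leaf 26388551696822) (.leaf 61573288700582)))) (.node (.node (.node (.leaf 4398046511302) (.leaf 39582821254102)) (.node (.leaf 21990641500662) (.leaf 57175244286694))) (.node (.node (.leaf 13194139541574) (.leaf 48378645848918)) (.node (.leaf 30786461901174) (.leaf 65971341494886))))) (.node (.node (.node (.node (.leaf 2199023255702) (.leaf 37383697343238)) (.node (.leaf 19791511298342) (.leaf 54976487369398))) (.node (.node (.leaf 10995116285974) (.leaf 46179521930118)) (.node (.leaf 28587340079526) (.leaf 63772584577590)))) (.node (.node (.node (.leaf 6597069906006) (.leaf 41781609636806)) (.node (.leaf 24189429883366) (.leaf 59374540294774))) (.node (.node (.leaf 15393162928342) (.leaf 50577971086150)) (.node (.leaf 32985787138406) (.leaf 68170629122806)))))) (.node (.node (.node (.node (.node (.leaf 1099511627942) (.leaf 36284219269942)) (.node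 (.leaf 18692034273686) (.leaf 53876708346374))) (.node (.node (.leaf 9895604658214) (.leaf 45080043856822)) (.node (.leaf 27487863046422) (.leaf 62672805563014)))) (.node (.node (.node (.leaf 5497558278246) (.leaf 40682131563510)) (.node (.leaf 23089952981334) (.leaf 58274761149126))) (.node (.node (.leaf 14293651300582) (.leaf 49478493012854)) (.node (.leaf 31886310244822) (.leaf 67070849985094))))) (.node (.node (.node (.node (.leaf 3298870436022) (.leaf 38482944721830)) (.node (.leaf 20890755539206) (.leaf 56075664501270))) (.node (.node (.leaf 12094963449910) (.leaf 47279306187558)) (.node (.leaf 29687121191302) (.leaf 64871761717910)))) (.node (.node (.node (.leaf 7696917069942) (.leaf 42881394025318)) (.node (.leaf 25289210995142) (.leaf 60473717304022))) (.node (.node (.leaf 16493010092278) (.leaf 51677218612198)) (.node (.leaf 34085031379270) (.leaf 69269806123606)))))))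

/-- Part of a collection table. -/
def tblCo3_2_3 : Trie := (.node (.node (.node (.node (.node (.node (.leaf 7) (.leaf 35184372089623)) (.node (.leaf 17592186044727) (.leaf 52777199872551))) (.node (.node (.leaf 8796093022343) (.leaf 43980733547415)) (.node (.leaf 26388551696823) (.leaf 61573288700583)))) (.node (.node (.node (.leaf 4398046511303) (.leaf 39582821254103)) (.node (.leaf 21990641500663) (.leaf 57175244286695))) (.node (.node (.leaf 13194139541575) (.leaf 48378645848919)) (.node (.leaf 30786461901175) (.leaf 65971341494887))))) (.node (.node (.node (.node (.leaf 2199023255703) (.leaf 37383697343239)) (.node (.leaf 19791511298343) (.leaf 54976487369399))) (.node (.node (.leaf 10995116285975) (.leaf 46179521930119)) (.node (.leaf 28587340079527) (.leaf 63772584577591)))) (.node (.node (.node (.leaf 6597069906007) (.leaf 41781609636807)) (.node (.leaf 24189429883367) (.leaf 59374540294775))) (.node (.node (.leaf 15393162928343) (.leaf 50577971086151)) (.node (.leaf 32985787138407) (.leaf 68170629122807)))))) (.node (.node (.node (.node (.node (.leaf 1099511627943) (.leaf 36284219269943)) (.node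 (.leaf 18692034273687) (.leaf 53876708346375))) (.node (.node (.leaf 9895604658215) (.leaf 45080043856823)) (.node (.leaf 27487863046423) (.leaf 62672805563015)))) (.node (.node (.node (.leaf 5497558278247) (.leaf 40682131563511)) (.node (.leaf 23089952981335) (.leaf 58274761149127))) (.node (.node (.leaf 14293651300583) (.leaf 49478493012855)) (.node (.leaf 31886310244823) (.leaf 67070849985095))))) (.node (.node (.node (.node (.leaf 3298870436023) (.leaf 38482944721831)) (.node (.leaf 20890755539207) (.leaf 56075664501271))) (.node (.node (.leaf 12094963449911) (.leaf 47279306187559)) (.node (.leaf 29687121191303) (.leaf 64871761717911)))) (.node (.node (.node (.leaf 7696917069943) (.leaf 42881394025319)) (.node (.leaf 25289210995143) (.leaf 60473717304023))) (.node (.node (.leaf 16493010092279) (.leaf 51677218612199)) (.node (.leaf 34085031379271) (.leaf 69269806123607)))))))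

/-- Part of a collection table. -/
def tblCo3_2_4 : Trie := (.node (.node (.node (.node (.node (.node (.leaf 274877906944) (.leaf 35459249996560)) (.node (.leaf 17867063951664) (.leaf 53052077779488))) (.node (.node (.leaf 9070970929280) (.leaf 44255611454352)) (.node (.leaf 26663429603760) (.leaf 61848166607520)))) (.node (.node (.node (.leaf 4672924418240) (.leaf 39857699161040)) (.node (.leaf 22265519407600) (.leaf 57450122193632))) (.node (.node (.leaf 13469017448512) (.leaf 48653523755856)) (.node (.leaf 31061339808112) (.leaf 66246219401824))))) (.node (.node (.node (.node (.leaf 2473901162640) (.leaf 37658575250176)) (.node (.leaf 20066389205280) (.leaf 55251365276336))) (.node (.node (.leaf 11269994192912) (.leaf 46454399837056)) (.node (.leaf 28862217986464) (.leaf 64047462484528)))) (.node (.node (.node (.leaf 6871947812944) (.leaf 42056487543744)) (.node (.leaf 24464307790304) (.leaf 59649418201712))) (.node (.node (.leaf 15668040835280) (.leaf 50852848993088)) (.node (.leaf 33260665045344) (.leaf 68445507029744)))))) (.node (.node (.node (.node (.node (.leaf 1374389534880) (.leaf 36559097176880))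 (.node (.leaf 18966912180624) (.leaf 54151586253312))) (.node (.node (.leaf 10170482565152) (.leaf 45354921763760)) (.node (.leaf 27762740953360) (.leaf 62947683469952)))) (.node (.node (.node (.leaf 5772436185184) (.leaf 40957009470448)) (.node (.leaf 23364830888272) (.leaf 58549639056064))) (.node (.node (.leaf 14568529207520) (.leaf 49753370919792)) (.node (.leaf 32161188151760) (.leaf 67345727892032))))) (.node (.node (.node (.node (.leaf 3573748342960) (.leaf 38757822628768)) (.node (.leaf 21165633446144) (.leaf 56350542408208))) (.node (.node (.leaf 12369841356848) (.leaf 47554184094496)) (.node (.leaf 29961999098240) (.leaf 65146639624848)))) (.node (.node (.node (.leaf 7971794976880) (.leaf 43156271932256)) (.node (.leaf 25564088902080) (.leaf 60748595210960))) (.node (.node (.leaf 16767887999216) (.leaf 51952096519136)) (.node (.leaf 34359909286208) (.leaf 69544684030544)))))))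

/-- Part of a collection table. -/
def tblCo3_2_5 : Trie := (.node (.node (.node (.node (.node (.node (.leaf 274877906945) (.leaf 35459249996561)) (.node (.leaf 17867063951665) (.leaf 53052077779489))) (.node (.node (.leaf 9070970929281) (.leaf 44255611454353)) (.node (.leaf 26663429603761) (.leaf 61848166607521)))) (.node (.node (.node (.leaf 4672924418241) (.leaf 39857699161041)) (.node (.leaf 22265519407601) (.leaf 57450122193633))) (.node (.node (.leaf 13469017448513) (.leaf 48653523755857)) (.node (.leaf 31061339808113) (.leaf 66246219401825))))) (.node (.node (.node (.node (.leaf 2473901162641) (.leaf 37658575250177)) (.node (.leaf 20066389205281) (.leaf 55251365276337))) (.node (.node (.leaf 11269994192913) (.leaf 46454399837057)) (.node (.leaf 28862217986465) (.leaf 64047462484529)))) (.node (.node (.node (.leaf 6871947812945) (.leaf 42056487543745)) (.node (.leaf 24464307790305) (.leaf 59649418201713))) (.node (.node (.leaf 15668040835281) (.leaf 50852848993089)) (.node (.leaf 33260665045345) (.leaf 68445507029745)))))) (.node (.node (.node (.node (.node (.leaf 1374389534881) (.leaf 36559097176881))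 (.node (.leaf 18966912180625) (.leaf 54151586253313))) (.node (.node (.leaf 10170482565153) (.leaf 45354921763761)) (.node (.leaf 27762740953361) (.leaf 62947683469953)))) (.node (.node (.node (.leaf 5772436185185) (.leaf 40957009470449)) (.node (.leaf 23364830888273) (.leaf 58549639056065))) (.node (.node (.leaf 14568529207521) (.leaf 49753370919793)) (.node (.leaf 32161188151761) (.leaf 67345727892033))))) (.node (.node (.node (.node (.leaf 3573748342961) (.leaf 38757822628769)) (.node (.leaf 21165633446145) (.leaf 56350542408209))) (.node (.node (.leaf 12369841356849) (.leaf 47554184094497)) (.node (.leaf 29961999098241) (.leaf 65146639624849)))) (.node (.node (.node (.leaf 7971794976881) (.leaf 43156271932257)) (.node (.leaf 25564088902081) (.leaf 60748595210961))) (.node (.node (.leaf 16767887999217) (.leaf 51952096519137)) (.node (.leaf 34359909286209) (.leaf 69544684030545)))))))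

/-- Part of a collection table. -/
def tblCo3_2_6 : Trie := (.node (.node (.node (.node (.node (.node (.leaf 274877906946) (.leaf 35459249996562)) (.node (.leaf 17867063951666) (.leaf 53052077779490))) (.node (.node (.leaf 9070970929282) (.leaf 44255611454354)) (.node (.leaf 26663429603762) (.leaf 61848166607522)))) (.node (.node (.node (.leaf 4672924418242) (.leaf 39857699161042)) (.node (.leaf 22265519407602) (.leaf 57450122193634))) (.node (.node (.leaf 13469017448514) (.leaf 48653523755858)) (.node (.leaf 31061339808114) (.leaf 66246219401826))))) (.node (.node (.node (.node (.leaf 2473901162642) (.leaf 37658575250178)) (.node (.leaf 20066389205282) (.leaf 55251365276338))) (.node (.node (.leaf 11269994192914) (.leaf 46454399837058)) (.node (.leaf 28862217986466) (.leaf 64047462484530)))) (.node (.node (.node (.leaf 6871947812946) (.leaf 42056487543746)) (.node (.leaf 24464307790306) (.leaf 59649418201714))) (.node (.node (.leaf 15668040835282) (.leaf 50852848993090)) (.node (.leaf 33260665045346) (.leaf 68445507029746)))))) (.node (.node (.node (.node (.node (.leaf 1374389534882) (.leaf 36559097176882))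 (.node (.leaf 18966912180626) (.leaf 54151586253314))) (.node (.node (.leaf 10170482565154) (.leaf 45354921763762)) (.node (.leaf 27762740953362) (.leaf 62947683469954)))) (.node (.node (.node (.leaf 5772436185186) (.leaf 40957009470450)) (.node (.leaf 23364830888274) (.leaf 58549639056066))) (.node (.node (.leaf 14568529207522) (.leaf 49753370919794)) (.node (.leaf 32161188151762) (.leaf 67345727892034))))) (.node (.node (.node (.node (.leaf 3573748342962) (.leaf 38757822628770)) (.node (.leaf 21165633446146) (.leaf 56350542408210))) (.node (.node (.leaf 12369841356850) (.leaf 47554184094498)) (.node (.leaf 29961999098242) (.leaf 65146639624850)))) (.node (.node (.node (.leaf 7971794976882) (.leaf 43156271932258)) (.node (.leaf 25564088902082) (.leaf 60748595210962))) (.node (.node (.leaf 16767887999218) (.leaf 51952096519138)) (.node (.leaf 34359909286210) (.leaf 69544684030546)))))))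

/-- Part of a collection table. -/
def tblCo3_2_7 : Trie := (.node (.node (.node (.node (.node (.node (.leaf 274877906947) (.leaf 35459249996563)) (.node (.leaf 17867063951667) (.leaf 53052077779491))) (.node (.node (.leaf 9070970929283) (.leaf 44255611454355)) (.node (.leaf 26663429603763) (.leaf 61848166607523)))) (.node (.node (.node (.leaf 4672924418243) (.leaf 39857699161043)) (.node (.leaf 22265519407603) (.leaf 57450122193635))) (.node (.node (.leaf 13469017448515) (.leaf 48653523755859)) (.node (.leaf 31061339808115) (.leaf 66246219401827))))) (.node (.node (.node (.node (.leaf 2473901162643) (.leaf 37658575250179)) (.node (.leaf 20066389205283) (.leaf 55251365276339))) (.node (.node (.leaf 11269994192915) (.leaf 46454399837059)) (.node (.leaf 28862217986467) (.leaf 64047462484531)))) (.node (.node (.node (.leaf 6871947812947) (.leaf 42056487543747)) (.node (.leaf 24464307790307) (.leaf 59649418201715))) (.node (.node (.leaf 15668040835283) (.leaf 50852848993091)) (.node (.leaf 33260665045347) (.leaf 68445507029747)))))) (.node (.node (.node (.node (.node (.leaf 1374389534883) (.leaf 36559097176883))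 (.node (.leaf 18966912180627) (.leaf 54151586253315))) (.node (.node (.leaf 10170482565155) (.leaf 45354921763763)) (.node (.leaf 27762740953363) (.leaf 62947683469955)))) (.node (.node (.node (.leaf 5772436185187) (.leaf 40957009470451)) (.node (.leaf 23364830888275) (.leaf 58549639056067))) (.node (.node (.leaf 14568529207523) (.leaf 49753370919795)) (.node (.leaf 32161188151763) (.leaf 67345727892035))))) (.node (.node (.node (.node (.leaf 3573748342963) (.leaf 38757822628771)) (.node (.leaf 21165633446147) (.leaf 56350542408211))) (.node (.node (.leaf 12369841356851) (.leaf 47554184094499)) (.node (.leaf 29961999098243) (.leaf 65146639624851)))) (.node (.node (.node (.leaf 7971794976883) (.leaf 43156271932259)) (.node (.leaf 25564088902083) (.leaf 60748595210963))) (.node (.node (.leaf 16767887999219) (.leaf 51952096519139)) (.node (.leaf 34359909286211) (.leaf 69544684030547)))))))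

/-- Part of a collection table. -/
def tblCo3_2_8 : Trie := (.node (.node (.node (.node (.node (.node (.leaf 549755814188) (.leaf 35734731885244)) (.node (.leaf 18142559479964) (.leaf 53327233551116))) (.node (.node (.leaf 9345848852908) (.leaf 44531093367356)) (.node (.leaf 26938916751388) (.leaf 62123322395532)))) (.node (.node (.node (.leaf 4947802604012) (.leaf 40133181467260)) (.node (.leaf 22541006817372) (.leaf 57725278374860))) (.node (.node (.leaf 13743895617900) (.leaf 48929006037756)) (.node (.leaf 31336835582172) (.leaf 66521375583052))))) (.node (.node (.node (.node (.leaf 2749383074108) (.leaf 37933188925996)) (.node (.leaf 20341012326412) (.leaf 55525384416028))) (.node (.node (.leaf 11545476080060) (.leaf 46729550367404)) (.node (.leaf 29137369573516) (.leaf 64321473227676)))) (.node (.node (.node (.leaf 7147429831164) (.leaf 42331638336236)) (.node (.leaf 24739459770572) (.leaf 59923429207004))) (.node (.node (.leaf 15943522861436) (.leaf 51127462947436)) (.node (.leaf 33535288559692) (.leaf 68719526431580)))))) (.node (.node (.node (.node (.node (.leaf 1649276903820) (.leaf 36834454301340))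 (.node (.leaf 19242264053820) (.leaf 54426732620588))) (.node (.node (.leaf 10445369901324) (.leaf 45630278863388)) (.node (.leaf 28038084430012) (.leaf 63222829820844)))) (.node (.node (.node (.leaf 6047323783500) (.leaf 41232366963292)) (.node (.leaf 23640174627068) (.leaf 58824785800172))) (.node (.node (.leaf 14843416822220) (.leaf 50028728437468)) (.node (.leaf 32436540303484) (.leaf 67620874636140))))) (.node (.node (.node (.node (.leaf 3849105441052) (.leaf 39032974215820)) (.node (.leaf 21440783984684) (.leaf 56625223183292))) (.node (.node (.leaf 12645198479772) (.leaf 47828798827020)) (.node (.leaf 30236604393644) (.leaf 65421312019260)))) (.node (.node (.node (.leaf 8247152230876) (.leaf 43430886926924)) (.node (.leaf 25838694590700) (.leaf 61023267867516))) (.node (.node (.leaf 17043245244764) (.leaf 52227248368332)) (.node (.leaf 34635060217964) (.leaf 69819365067772)))))))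

/-- Part of a collection table. -/
def tblCo3_2_9 : Trie := (.node (.node (.node (.node (.node (.node (.leaf 549755814189) (.leaf 35734731885245)) (.node (.leaf 18142559479965) (.leaf 53327233551117))) (.node (.node (.leaf 9345848852909) (.leaf 44531093367357)) (.node (.leaf 26938916751389) (.leaf 62123322395533)))) (.node (.node (.node (.leaf 4947802604013) (.leaf 40133181467261)) (.node (.leaf 22541006817373) (.leaf 57725278374861))) (.node (.node (.leaf 13743895617901) (.leaf 48929006037757)) (.node (.leaf 31336835582173) (.leaf 66521375583053))))) (.node (.node (.node (.node (.leaf 2749383074109) (.leaf 37933188925997)) (.node (.leaf 20341012326413) (.leaf 55525384416029))) (.node (.node (.leaf 11545476080061) (.leaf 46729550367405)) (.node (.leaf 29137369573517) (.leaf 64321473227677)))) (.node (.node (.node (.leaf 7147429831165) (.leaf 42331638336237)) (.node (.leaf 24739459770573) (.leaf 59923429207005))) (.node (.node (.leaf 15943522861437) (.leaf 51127462947437)) (.node (.leaf 33535288559693) (.leaf 68719526431581)))))) (.node (.node (.node (.node (.node (.leaf 1649276903821) (.leaf 36834454301341))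 (.node (.leaf 19242264053821) (.leaf 54426732620589))) (.node (.node (.leaf 10445369901325) (.leaf 45630278863389)) (.node (.leaf 28038084430013) (.leaf 63222829820845)))) (.node (.node (.node (.leaf 6047323783501) (.leaf 41232366963293)) (.node (.leaf 23640174627069) (.leaf 58824785800173))) (.node (.node (.leaf 14843416822221) (.leaf 50028728437469)) (.node (.leaf 32436540303485) (.leaf 67620874636141))))) (.node (.node (.node (.node (.leaf 3849105441053) (.leaf 39032974215821)) (.node (.leaf 21440783984685) (.leaf 56625223183293))) (.node (.node (.leaf 12645198479773) (.leaf 47828798827021)) (.node (.leaf 30236604393645) (.leaf 65421312019261)))) (.node (.node (.node (.leaf 8247152230877) (.leaf 43430886926925)) (.node (.leaf 25838694590701) (.leaf 61023267867517))) (.node (.node (.leaf 17043245244765) (.leaf 52227248368333)) (.node (.leaf 34635060217965) (.leaf 69819365067773)))))))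

/-- Part of a collection table. -/
def tblCo3_2_10 : Trie := (.node (.node (.node (.node (.node (.node (.leaf 549755814190) (.leaf 35734731885246)) (.node (.leaf 18142559479966) (.leaf 53327233551118))) (.node (.node (.leaf 9345848852910) (.leaf 44531093367358)) (.node (.leaf 26938916751390) (.leaf 62123322395534)))) (.node (.node (.node (.leaf 4947802604014) (.leaf 40133181467262)) (.node (.leaf 22541006817374) (.leaf 57725278374862))) (.node (.node (.leaf 13743895617902) (.leaf 48929006037758)) (.node (.leaf 31336835582174) (.leaf 66521375583054))))) (.node (.node (.node (.node (.leaf 2749383074110) (.leaf 37933188925998)) (.node (.leaf 20341012326414) (.leaf 55525384416030))) (.node (.node (.leaf 11545476080062) (.leaf 46729550367406)) (.node (.leaf 29137369573518) (.leaf 64321473227678)))) (.node (.node (.node (.leaf 7147429831166) (.leaf 42331638336238)) (.node (.leaf 24739459770574) (.leaf 59923429207006))) (.node (.node (.leaf 15943522861438) (.leaf 51127462947438)) (.node (.leaf 33535288559694) (.leaf 68719526431582)))))) (.node (.node (.node (.node (.node (.leaf 1649276903822) (.leaf 36834454301342))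 (.node (.leaf 19242264053822) (.leaf 54426732620590))) (.node (.node (.leaf 10445369901326) (.leaf 45630278863390)) (.node (.leaf 28038084430014) (.leaf 63222829820846)))) (.node (.node (.node (.leaf 6047323783502) (.leaf 41232366963294)) (.node (.leaf 23640174627070) (.leaf 58824785800174))) (.node (.node (.leaf 14843416822222) (.leaf 50028728437470)) (.node (.leaf 32436540303486) (.leaf 67620874636142))))) (.node (.node (.node (.node (.leaf 3849105441054) (.leaf 39032974215822)) (.node (.leaf 21440783984686) (.leaf 56625223183294))) (.node (.node (.leaf 12645198479774) (.leaf 47828798827022)) (.node (.leaf 30236604393646) (.leaf 65421312019262)))) (.node (.node (.node (.leaf 8247152230878) (.leaf 43430886926926)) (.node (.leaf 25838694590702) (.leaf 61023267867518))) (.node (.node (.leaf 17043245244766) (.leaf 52227248368334)) (.node (.leaf 34635060217966) (.leaf 69819365067774)))))))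

/-- Part of a collection table. -/
def tblCo3_2_11 : Trie := (.node (.node (.node (.node (.node (.node (.leaf 549755814191) (.leaf 35734731885247)) (.node (.leaf 18142559479967) (.leaf 53327233551119))) (.node (.node (.leaf 9345848852911) (.leaf 44531093367359)) (.node (.leaf 26938916751391) (.leaf 62123322395535)))) (.node (.node (.node (.leaf 4947802604015) (.leaf 40133181467263)) (.node (.leaf 22541006817375) (.leaf 57725278374863))) (.node (.node (.leaf 13743895617903) (.leaf 48929006037759)) (.node (.leaf 31336835582175) (.leaf 66521375583055))))) (.node (.node (.node (.node (.leaf 2749383074111) (.leaf 37933188925999)) (.node (.leaf 20341012326415) (.leaf 55525384416031))) (.node (.node (.leaf 11545476080063) (.leaf 46729550367407)) (.node (.leaf 29137369573519) (.leaf 64321473227679)))) (.node (.node (.node (.leaf 7147429831167) (.leaf 42331638336239)) (.node (.leaf 24739459770575) (.leaf 59923429207007))) (.node (.node (.leaf 15943522861439) (.leaf 51127462947439)) (.node (.leaf 33535288559695) (.leaf 68719526431583)))))) (.node (.node (.node (.node (.node (.leaf 1649276903823) (.leaf 36834454301343))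 (.node (.leaf 19242264053823) (.leaf 54426732620591))) (.node (.node (.leaf 10445369901327) (.leaf 45630278863391)) (.node (.leaf 28038084430015) (.leaf 63222829820847)))) (.node (.node (.node (.leaf 6047323783503) (.leaf 41232366963295)) (.node (.leaf 23640174627071) (.leaf 58824785800175))) (.node (.node (.leaf 14843416822223) (.leaf 50028728437471)) (.node (.leaf 32436540303487) (.leaf 67620874636143))))) (.node (.node (.node (.node (.leaf 3849105441055) (.leaf 39032974215823)) (.node (.leaf 21440783984687) (.leaf 56625223183295))) (.node (.node (.leaf 12645198479775) (.leaf 47828798827023)) (.node (.leaf 30236604393647) (.leaf 65421312019263)))) (.node (.node (.node (.leaf 8247152230879) (.leaf 43430886926927)) (.node (.leaf 25838694590703) (.leaf 61023267867519))) (.node (.node (.leaf 17043245244767) (.leaf 52227248368335)) (.node (.leaf 34635060217967) (.leaf 69819365067775)))))))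

/-- Part of a collection table. -/
def tblCo3_2_12 : Trie := (.node (.node (.node (.node (.node (.node (.leaf 824633721128) (.leaf 36009609792184)) (.node (.leaf 18417437386904) (.leaf 53602111458056))) (.node (.node (.leaf 9620726759848) (.leaf 44805971274296)) (.node (.leaf 27213794658328) (.leaf 62398200302472)))) (.node (.node (.node (.leaf 5222680510952) (.leaf 40408059374200)) (.node (.leaf 22815884724312) (.leaf 58000156281800))) (.node (.node (.leaf 14018773524840) (.leaf 49203883944696)) (.node (.leaf 31611713489112) (.leaf 66796253489992))))) (.node (.node (.node (.node (.leaf 3024260981048) (.leaf 38208066832936)) (.node (.leaf 20615890233352) (.leaf 55800262322968))) (.node (.node (.leaf 11820353987000) (.leaf 47004428274344)) (.node (.leaf 29412247480456) (.leaf 64596351134616)))) (.node (.node (.node (.leaf 7422307738104) (.leaf 42606516243176)) (.node (.leaf 25014337677512) (.leaf 60198307113944))) (.node (.node (.leaf 16218400768376) (.leaf 51402340854376)) (.node (.leaf 33810166466632) (.leaf 68994404338520)))))) (.node (.node (.node (.node (.node (.leaf 1924154810760) (.leaf 37109332208280))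 (.node (.leaf 19517141960760) (.leaf 54701610527528))) (.node (.node (.leaf 10720247808264) (.leaf 45905156770328)) (.node (.leaf 28312962336952) (.leaf 63497707727784)))) (.node (.node (.node (.leaf 6322201690440) (.leaf 41507244870232)) (.node (.leaf 23915052534008) (.leaf 59099663707112))) (.node (.node (.leaf 15118294729160) (.leaf 50303606344408)) (.node (.leaf 32711418210424) (.leaf 67895752543080))))) (.node (.node (.node (.node (.leaf 4123983347992) (.leaf 39307852122760)) (.node (.leaf 21715661891624) (.leaf 56900101090232))) (.node (.node (.leaf 12920076386712) (.leaf 48103676733960)) (.node (.leaf 30511482300584) (.leaf 65696189926200)))) (.node (.node (.node (.leaf 8522030137816) (.leaf 43705764833864)) (.node (.leaf 26113572497640) (.leaf 61298145774456))) (.node (.node (.leaf 17318123151704) (.leaf 52502126275272)) (.node (.leaf 34909938124904) (.leaf 70094242974712)))))))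

/-- Part of a collection table. -/
def tblCo3_2_13 : Trie := (.node (.node (.node (.node (.node (.node (.leaf 824633721129) (.leaf 36009609792185)) (.node (.leaf 18417437386905) (.leaf 53602111458057))) (.node (.node (.leaf 9620726759849) (.leaf 44805971274297)) (.node (.leaf 27213794658329) (.leaf 62398200302473)))) (.node (.node (.node (.leaf 5222680510953) (.leaf 40408059374201)) (.node (.leaf 22815884724313) (.leaf 58000156281801))) (.node (.node (.leaf 14018773524841) (.leaf 49203883944697)) (.node (.leaf 31611713489113) (.leaf 66796253489993))))) (.node (.node (.node (.node (.leaf 3024260981049) (.leaf 38208066832937)) (.node (.leaf 20615890233353) (.leaf 55800262322969))) (.node (.node (.leaf 11820353987001) (.leaf 47004428274345)) (.node (.leaf 29412247480457) (.leaf 64596351134617)))) (.node (.node (.node (.leaf 7422307738105) (.leaf 42606516243177)) (.node (.leaf 25014337677513) (.leaf 60198307113945))) (.node (.node (.leaf 16218400768377) (.leaf 51402340854377)) (.node (.leaf 33810166466633) (.leaf 68994404338521)))))) (.node (.node (.node (.node (.node (.leaf 1924154810761) (.leaf 37109332208281))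 (.node (.leaf 19517141960761) (.leaf 54701610527529))) (.node (.node (.leaf 10720247808265) (.leaf 45905156770329)) (.node (.leaf 28312962336953) (.leaf 63497707727785)))) (.node (.node (.node (.leaf 6322201690441) (.leaf 41507244870233)) (.node (.leaf 23915052534009) (.leaf 59099663707113))) (.node (.node (.leaf 15118294729161) (.leaf 50303606344409)) (.node (.leaf 32711418210425) (.leaf 67895752543081))))) (.node (.node (.node (.node (.leaf 4123983347993) (.leaf 39307852122761)) (.node (.leaf 21715661891625) (.leaf 56900101090233))) (.node (.node (.leaf 12920076386713) (.leaf 48103676733961)) (.node (.leaf 30511482300585) (.leaf 65696189926201)))) (.node (.node (.node (.leaf 8522030137817) (.leaf 43705764833865)) (.node (.leaf 26113572497641) (.leaf 61298145774457))) (.node (.node (.leaf 17318123151705) (.leaf 52502126275273)) (.node (.leaf 34909938124905) (.leaf 70094242974713)))))))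

/-- Part of a collection table. -/
def tblCo3_2_14 : Trie := (.node (.node (.node (.node (.node (.node (.leaf 824633721130) (.leaf 36009609792186)) (.node (.leaf 18417437386906) (.leaf 53602111458058))) (.node (.node (.leaf 9620726759850) (.leaf 44805971274298)) (.node (.leaf 27213794658330) (.leaf 62398200302474)))) (.node (.node (.node (.leaf 5222680510954) (.leaf 40408059374202)) (.node (.leaf 22815884724314) (.leaf 58000156281802))) (.node (.node (.leaf 14018773524842) (.leaf 49203883944698)) (.node (.leaf 31611713489114) (.leaf 66796253489994))))) (.node (.node (.node (.node (.leaf 3024260981050) (.leaf 38208066832938)) (.node (.leaf 20615890233354) (.leaf 55800262322970))) (.node (.node (.leaf 11820353987002) (.leaf 47004428274346)) (.node (.leaf 29412247480458) (.leaf 64596351134618)))) (.node (.node (.node (.leaf 7422307738106) (.leaf 42606516243178)) (.node (.leaf 25014337677514) (.leaf 60198307113946))) (.node (.node (.leaf 16218400768378) (.leaf 51402340854378)) (.node (.leaf 33810166466634) (.leaf 68994404338522)))))) (.node (.node (.node (.node (.node (.leaf 1924154810762) (.leaf 37109332208282))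 (.node (.leaf 19517141960762) (.leaf 54701610527530))) (.node (.node (.leaf 10720247808266) (.leaf 45905156770330)) (.node (.leaf 28312962336954) (.leaf 63497707727786)))) (.node (.node (.node (.leaf 6322201690442) (.leaf 41507244870234)) (.node (.leaf 23915052534010) (.leaf 59099663707114))) (.node (.node (.leaf 15118294729162) (.leaf 50303606344410)) (.node (.leaf 32711418210426) (.leaf 67895752543082))))) (.node (.node (.node (.node (.leaf 4123983347994) (.leaf 39307852122762)) (.node (.leaf 21715661891626) (.leaf 56900101090234))) (.node (.node (.leaf 12920076386714) (.leaf 48103676733962)) (.node (.leaf 30511482300586) (.leaf 65696189926202)))) (.node (.node (.node (.leaf 8522030137818) (.leaf 43705764833866)) (.node (.leaf 26113572497642) (.leaf 61298145774458))) (.node (.node (.leaf 17318123151706) (.leaf 52502126275274)) (.node (.leaf 34909938124906) (.leaf 70094242974714)))))))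

/-- Part of a collection table. -/
def tblCo3_2_15 : Trie := (.node (.node (.node (.node (.node (.node (.leaf 824633721131) (.leaf 36009609792187)) (.node (.leaf 18417437386907) (.leaf 53602111458059))) (.node (.node (.leaf 9620726759851) (.leaf 44805971274299)) (.node (.leaf 27213794658331) (.leaf 62398200302475)))) (.node (.node (.node (.leaf 5222680510955) (.leaf 40408059374203)) (.node (.leaf 22815884724315) (.leaf 58000156281803))) (.node (.node (.leaf 14018773524843) (.leaf 49203883944699)) (.node (.leaf 31611713489115) (.leaf 66796253489995))))) (.node (.node (.node (.node (.leaf 3024260981051) (.leaf 38208066832939)) (.node (.leaf 20615890233355) (.leaf 55800262322971))) (.node (.node (.leaf 11820353987003) (.leaf 47004428274347)) (.node (.leaf 29412247480459) (.leaf 64596351134619)))) (.node (.node (.node (.leaf 7422307738107) (.leaf 42606516243179)) (.node (.leaf 25014337677515) (.leaf 60198307113947))) (.node (.node (.leaf 16218400768379) (.leaf 51402340854379)) (.node (.leaf 33810166466635) (.leaf 68994404338523)))))) (.node (.node (.node (.node (.node (.leaf 1924154810763) (.leaf 37109332208283))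 (.node (.leaf 19517141960763) (.leaf 54701610527531))) (.node (.node (.leaf 10720247808267) (.leaf 45905156770331)) (.node (.leaf 28312962336955) (.leaf 63497707727787)))) (.node (.node (.node (.leaf 6322201690443) (.leaf 41507244870235)) (.node (.leaf 23915052534011) (.leaf 59099663707115))) (.node (.node (.leaf 15118294729163) (.leaf 50303606344411)) (.node (.leaf 32711418210427) (.leaf 67895752543083))))) (.node (.node (.node (.node (.leaf 4123983347995) (.leaf 39307852122763)) (.node (.leaf 21715661891627) (.leaf 56900101090235))) (.node (.node (.leaf 12920076386715) (.leaf 48103676733963)) (.node (.leaf 30511482300587) (.leaf 65696189926203)))) (.node (.node (.node (.leaf 8522030137819) (.leaf 43705764833867)) (.node (.leaf 26113572497643) (.leaf 61298145774459))) (.node (.node (.leaf 17318123151707) (.leaf 52502126275275)) (.node (.leaf 34909938124907) (.leaf 70094242974715)))))))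

/-- Part of a collection table. -/
def tblCo3_3_0 : Trie := (.node (.node (.node (.node (.node (.node (.leaf 8) (.leaf 137438954264)) (.node (.leaf 68719477176) (.leaf 207068605096))) (.node (.node (.leaf 34359738504) (.leaf 172067128216)) (.node (.leaf 103351853368) (.leaf 241424140840)))) (.node (.node (.node (.leaf 17179869384) (.leaf 155021476824)) (.node (.leaf 86308299128) (.leaf 224246368872))) (.node (.node (.leaf 51539615816) (.leaf 189112787800)) (.node (.leaf 120395407864) (.leaf 258610301672))))) (.node (.node (.node (.node (.leaf 8589934616) (.leaf 146062443400)) (.node (.leaf 77347168552) (.leaf 215390104248))) (.node (.node (.leaf 42949673112) (.leaf 180690625288)) (.node (.leaf 111971148200) (.leaf 249745639992)))) (.node (.node (.node (.leaf 25769803992) (.leaf 163645104968)) (.node (.leaf 94927725032) (.leaf 232567868024))) (.node (.node (.leaf 60129550424) (.leaf 197736408008)) (.node (.leaf 129023213928) (.leaf 266931800824)))))) (.node (.node (.node (.node (.node (.leaf 4294967464) (.leaf 142069474104)) (.node (.leaf 73351037208) (.leaf 211360418440))) (.node (.node (.leaf 38654713896)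 (.leaf 176160777144)) (.node (.leaf 107446534552) (.leaf 245724359176)))) (.node (.node (.node (.leaf 21474975848) (.leaf 159115125752)) (.node (.leaf 90403111384) (.leaf 228546587208))) (.node (.node (.leaf 55834714344) (.leaf 193743291256)) (.node (.leaf 125027098968) (.leaf 262902131400))))) (.node (.node (.node (.node (.leaf 13220454456) (.leaf 150630040360)) (.node (.leaf 81911619848) (.leaf 219887446552))) (.node (.node (.leaf 47580192952) (.leaf 184721343400)) (.node (.leaf 115998728584) (.leaf 254242990744)))) (.node (.node (.node (.leaf 30400323832) (.leaf 167675692008)) (.node (.leaf 98955305416) (.leaf 237065349848))) (.node (.node (.leaf 64760053880) (.leaf 202303873896)) (.node (.leaf 133587665224) (.leaf 271429274200)))))))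

/-- Part of a collection table. -/
def tblCo3_3_1 : Trie := (.node (.node (.node (.node (.node (.node (.leaf 9) (.leaf 137438954265)) (.node (.leaf 68719477177) (.leaf 207068605097))) (.node (.node (.leaf 34359738505) (.leaf 172067128217)) (.node (.leaf 103351853369) (.leaf 241424140841)))) (.node (.node (.node (.leaf 17179869385) (.leaf 155021476825)) (.node (.leaf 86308299129) (.leaf 224246368873))) (.node (.node (.leaf 51539615817) (.leaf 189112787801)) (.node (.leaf 120395407865) (.leaf 258610301673))))) (.node (.node (.node (.node (.leaf 8589934617) (.leaf 146062443401)) (.node (.leaf 77347168553) (.leaf 215390104249))) (.node (.node (.leaf 42949673113) (.leaf 180690625289)) (.node (.leaf 111971148201) (.leaf 249745639993)))) (.node (.node (.node (.leaf 25769803993) (.leaf 163645104969)) (.node (.leaf 94927725033) (.leaf 232567868025))) (.node (.node (.leaf 60129550425) (.leaf 197736408009)) (.node (.leaf 129023213929) (.leaf 266931800825)))))) (.node (.node (.node (.node (.node (.leaf 4294967465) (.leaf 142069474105)) (.node (.leaf 73351037209) (.leaf 211360418441))) (.node (.node (.leaf 38654713897)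 (.leaf 176160777145)) (.node (.leaf 107446534553) (.leaf 245724359177)))) (.node (.node (.node (.leaf 21474975849) (.leaf 159115125753)) (.node (.leaf 90403111385) (.leaf 228546587209))) (.node (.node (.leaf 55834714345) (.leaf 193743291257)) (.node (.leaf 125027098969) (.leaf 262902131401))))) (.node (.node (.node (.node (.leaf 13220454457) (.leaf 150630040361)) (.node (.leaf 81911619849) (.leaf 219887446553))) (.node (.node (.leaf 47580192953) (.leaf 184721343401)) (.node (.leaf 115998728585) (.leaf 254242990745)))) (.node (.node (.node (.leaf 30400323833) (.leaf 167675692009)) (.node (.leaf 98955305417) (.leaf 237065349849))) (.node (.node (.leaf 64760053881) (.leaf 202303873897)) (.node (.leaf 133587665225) (.leaf 271429274201)))))))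

/-- Part of a collection table. -/
def tblCo3_3_2 : Trie := (.node (.node (.node (.node (.node (.node (.leaf 10) (.leaf 137438954266)) (.node (.leaf 68719477178) (.leaf 207068605098))) (.node (.node (.leaf 34359738506) (.leaf 172067128218)) (.node (.leaf 103351853370) (.leaf 241424140842)))) (.node (.node (.node (.leaf 17179869386) (.leaf 155021476826)) (.node (.leaf 86308299130) (.leaf 224246368874))) (.node (.node (.leaf 51539615818) (.leaf 189112787802)) (.node (.leaf 120395407866) (.leaf 258610301674))))) (.node (.node (.node (.node (.leaf 8589934618) (.leaf 146062443402)) (.node (.leaf 77347168554) (.leaf 215390104250))) (.node (.node (.leaf 42949673114) (.leaf 180690625290)) (.node (.leaf 111971148202) (.leaf 249745639994)))) (.node (.node (.node (.leaf 25769803994) (.leaf 163645104970)) (.node (.leaf 94927725034) (.leaf 232567868026))) (.node (.node (.leaf 60129550426) (.leaf 197736408010)) (.node (.leaf 129023213930) (.leaf 266931800826)))))) (.node (.node (.node (.node (.node (.leaf 4294967466) (.leaf 142069474106)) (.node (.leaf 73351037210) (.leaf 211360418442))) (.node (.node (.leaf 38654713898)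 (.leaf 176160777146)) (.node (.leaf 107446534554) (.leaf 245724359178)))) (.node (.node (.node (.leaf 21474975850) (.leaf 159115125754)) (.node (.leaf 90403111386) (.leaf 228546587210))) (.node (.node (.leaf 55834714346) (.leaf 193743291258)) (.node (.leaf 125027098970) (.leaf 262902131402))))) (.node (.node (.node (.node (.leaf 13220454458) (.leaf 150630040362)) (.node (.leaf 81911619850) (.leaf 219887446554))) (.node (.node (.leaf 47580192954) (.leaf 184721343402)) (.node (.leaf 115998728586) (.leaf 254242990746)))) (.node (.node (.node (.leaf 30400323834) (.leaf 167675692010)) (.node (.leaf 98955305418) (.leaf 237065349850))) (.node (.node (.leaf 64760053882) (.leaf 202303873898)) (.node (.leaf 133587665226) (.leaf 271429274202)))))))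

/-- Part of a collection table. -/
def tblCo3_3_3 : Trie := (.node (.node (.node (.node (.node (.node (.leaf 11) (.leaf 137438954267)) (.node (.leaf 68719477179) (.leaf 207068605099))) (.node (.node (.leaf 34359738507) (.leaf 172067128219)) (.node (.leaf 103351853371) (.leaf 241424140843)))) (.node (.node (.node (.leaf 17179869387) (.leaf 155021476827)) (.node (.leaf 86308299131) (.leaf 224246368875))) (.node (.node (.leaf 51539615819) (.leaf 189112787803)) (.node (.leaf 120395407867) (.leaf 258610301675))))) (.node (.node (.node (.node (.leaf 8589934619) (.leaf 146062443403)) (.node (.leaf 77347168555) (.leaf 215390104251))) (.node (.node (.leaf 42949673115) (.leaf 180690625291)) (.node (.leaf 111971148203) (.leaf 249745639995)))) (.node (.node (.node (.leaf 25769803995) (.leaf 163645104971)) (.node (.leaf 94927725035) (.leaf 232567868027))) (.node (.node (.leaf 60129550427) (.leaf 197736408011)) (.node (.leaf 129023213931) (.leaf 266931800827)))))) (.node (.node (.node (.node (.node (.leaf 4294967467) (.leaf 142069474107)) (.node (.leaf 73351037211) (.leaf 211360418443))) (.node (.node (.leaf 38654713899)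 (.leaf 176160777147)) (.node (.leaf 107446534555) (.leaf 245724359179)))) (.node (.node (.node (.leaf 21474975851) (.leaf 159115125755)) (.node (.leaf 90403111387) (.leaf 228546587211))) (.node (.node (.leaf 55834714347) (.leaf 193743291259)) (.node (.leaf 125027098971) (.leaf 262902131403))))) (.node (.node (.node (.node (.leaf 13220454459) (.leaf 150630040363)) (.node (.leaf 81911619851) (.leaf 219887446555))) (.node (.node (.leaf 47580192955) (.leaf 184721343403)) (.node (.leaf 115998728587) (.leaf 254242990747)))) (.node (.node (.node (.leaf 30400323835) (.leaf 167675692011)) (.node (.leaf 98955305419) (.leaf 237065349851))) (.node (.node (.leaf 64760053883) (.leaf 202303873899)) (.node (.leaf 133587665227) (.leaf 271429274203)))))))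

/-- Part of a collection table. -/
def tblCo3_3_4 : Trie := (.node (.node (.node (.node (.node (.node (.leaf 12) (.leaf 137438954268)) (.node (.leaf 68719477180) (.leaf 207068605100))) (.node (.node (.leaf 34359738508) (.leaf 172067128220)) (.node (.leaf 103351853372) (.leaf 241424140844)))) (.node (.node (.node (.leaf 17179869388) (.leaf 155021476828)) (.node (.leaf 86308299132) (.leaf 224246368876))) (.node (.node (.leaf 51539615820) (.leaf 189112787804)) (.node (.leaf 120395407868) (.leaf 258610301676))))) (.node (.node (.node (.node (.leaf 8589934620) (.leaf 146062443404)) (.node (.leaf 77347168556) (.leaf 215390104252))) (.node (.node (.leaf 42949673116) (.leaf 180690625292)) (.node (.leaf 111971148204) (.leaf 249745639996)))) (.node (.node (.node (.leaf 25769803996) (.leaf 163645104972)) (.node (.leaf 94927725036) (.leaf 232567868028))) (.node (.node (.leaf 60129550428) (.leaf 197736408012)) (.node (.leaf 129023213932) (.leaf 266931800828)))))) (.node (.node (.node (.node (.node (.leaf 4294967468) (.leaf 142069474108)) (.node (.leaf 73351037212) (.leaf 211360418444))) (.node (.node (.leaf 38654713900)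 (.leaf 176160777148)) (.node (.leaf 107446534556) (.leaf 245724359180)))) (.node (.node (.node (.leaf 21474975852) (.leaf 159115125756)) (.node (.leaf 90403111388) (.leaf 228546587212))) (.node (.node (.leaf 55834714348) (.leaf 193743291260)) (.node (.leaf 125027098972) (.leaf 262902131404))))) (.node (.node (.node (.node (.leaf 13220454460) (.leaf 150630040364)) (.node (.leaf 81911619852) (.leaf 219887446556))) (.node (.node (.leaf 47580192956) (.leaf 184721343404)) (.node (.leaf 115998728588) (.leaf 254242990748)))) (.node (.node (.node (.leaf 30400323836) (.leaf 167675692012)) (.node (.leaf 98955305420) (.leaf 237065349852))) (.node (.node (.leaf 64760053884) (.leaf 202303873900)) (.node (.leaf 133587665228) (.leaf 271429274204)))))))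

/-- Part of a collection table. -/
def tblCo3_3_5 : Trie := (.node (.node (.node (.node (.node (.node (.leaf 13) (.leaf 137438954269)) (.node (.leaf 68719477181) (.leaf 207068605101))) (.node (.node (.leaf 34359738509) (.leaf 172067128221)) (.node (.leaf 103351853373) (.leaf 241424140845)))) (.node (.node (.node (.leaf 17179869389) (.leaf 155021476829)) (.node (.leaf 86308299133) (.leaf 224246368877))) (.node (.node (.leaf 51539615821) (.leaf 189112787805)) (.node (.leaf 120395407869) (.leaf 258610301677))))) (.node (.node (.node (.node (.leaf 8589934621) (.leaf 146062443405)) (.node (.leaf 77347168557) (.leaf 215390104253))) (.node (.node (.leaf 42949673117) (.leaf 180690625293)) (.node (.leaf 111971148205) (.leaf 249745639997)))) (.node (.node (.node (.leaf 25769803997) (.leaf 163645104973)) (.node (.leaf 94927725037) (.leaf 232567868029))) (.node (.node (.leaf 60129550429) (.leaf 197736408013)) (.node (.leaf 129023213933) (.leaf 266931800829)))))) (.node (.node (.node (.node (.node (.leaf 4294967469) (.leaf 142069474109)) (.node (.leaf 73351037213) (.leaf 211360418445))) (.node (.node (.leaf 38654713901)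 (.leaf 176160777149)) (.node (.leaf 107446534557) (.leaf 245724359181)))) (.node (.node (.node (.leaf 21474975853) (.leaf 159115125757)) (.node (.leaf 90403111389) (.leaf 228546587213))) (.node (.node (.leaf 55834714349) (.leaf 193743291261)) (.node (.leaf 125027098973) (.leaf 262902131405))))) (.node (.node (.node (.node (.leaf 13220454461) (.leaf 150630040365)) (.node (.leaf 81911619853) (.leaf 219887446557))) (.node (.node (.leaf 47580192957) (.leaf 184721343405)) (.node (.leaf 115998728589) (.leaf 254242990749)))) (.node (.node (.node (.leaf 30400323837) (.leaf 167675692013)) (.node (.leaf 98955305421) (.leaf 237065349853))) (.node (.node (.leaf 64760053885) (.leaf 202303873901)) (.node (.leaf 133587665229) (.leaf 271429274205)))))))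

/-- Part of a collection table. -/
def tblCo3_3_6 : Trie := (.node (.node (.node (.node (.node (.node (.leaf 14) (.leaf 137438954270)) (.node (.leaf 68719477182) (.leaf 207068605102))) (.node (.node (.leaf 34359738510) (.leaf 172067128222)) (.node (.leaf 103351853374) (.leaf 241424140846)))) (.node (.node (.node (.leaf 17179869390) (.leaf 155021476830)) (.node (.leaf 86308299134) (.leaf 224246368878))) (.node (.node (.leaf 51539615822) (.leaf 189112787806)) (.node (.leaf 120395407870) (.leaf 258610301678))))) (.node (.node (.node (.node (.leaf 8589934622) (.leaf 146062443406)) (.node (.leaf 77347168558) (.leaf 215390104254))) (.node (.node (.leaf 42949673118) (.leaf 180690625294)) (.node (.leaf 111971148206) (.leaf 249745639998)))) (.node (.node (.node (.leaf 25769803998) (.leaf 163645104974)) (.node (.leaf 94927725038) (.leaf 232567868030))) (.node (.node (.leaf 60129550430) (.leaf 197736408014)) (.node (.leaf 129023213934) (.leaf 266931800830)))))) (.node (.node (.node (.node (.node (.leaf 4294967470) (.leaf 142069474110)) (.node (.leaf 73351037214) (.leaf 211360418446))) (.node (.node (.leaf 38654713902)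 (.leaf 176160777150)) (.node (.leaf 107446534558) (.leaf 245724359182)))) (.node (.node (.node (.leaf 21474975854) (.leaf 159115125758)) (.node (.leaf 90403111390) (.leaf 228546587214))) (.node (.node (.leaf 55834714350) (.leaf 193743291262)) (.node (.leaf 125027098974) (.leaf 262902131406))))) (.node (.node (.node (.node (.leaf 13220454462) (.leaf 150630040366)) (.node (.leaf 81911619854) (.leaf 219887446558))) (.node (.node (.leaf 47580192958) (.leaf 184721343406)) (.node (.leaf 115998728590) (.leaf 254242990750)))) (.node (.node (.node (.leaf 30400323838) (.leaf 167675692014)) (.node (.leaf 98955305422) (.leaf 237065349854))) (.node (.node (.leaf 64760053886) (.leaf 202303873902)) (.node (.leaf 133587665230) (.leaf 271429274206)))))))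

/-- Part of a collection table. -/
def tblCo3_3_7 : Trie := (.node (.node (.node (.node (.node (.node (.leaf 15) (.leaf 137438954271)) (.node (.leaf 68719477183) (.leaf 207068605103))) (.node (.node (.leaf 34359738511) (.leaf 172067128223)) (.node (.leaf 103351853375) (.leaf 241424140847)))) (.node (.node (.node (.leaf 17179869391) (.leaf 155021476831)) (.node (.leaf 86308299135) (.leaf 224246368879))) (.node (.node (.leaf 51539615823) (.leaf 189112787807)) (.node (.leaf 120395407871) (.leaf 258610301679))))) (.node (.node (.node (.node (.leaf 8589934623) (.leaf 146062443407)) (.node (.leaf 77347168559) (.leaf 215390104255))) (.node (.node (.leaf 42949673119) (.leaf 180690625295)) (.node (.leaf 111971148207) (.leaf 249745639999)))) (.node (.node (.node (.leaf 25769803999) (.leaf 163645104975)) (.node (.leaf 94927725039) (.leaf 232567868031))) (.node (.node (.leaf 60129550431) (.leaf 197736408015)) (.node (.leaf 129023213935) (.leaf 266931800831)))))) (.node (.node (.node (.node (.node (.leaf 4294967471) (.leaf 142069474111)) (.node (.leaf 73351037215) (.leaf 211360418447))) (.node (.node (.leaf 38654713903)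 (.leaf 176160777151)) (.node (.leaf 107446534559) (.leaf 245724359183)))) (.node (.node (.node (.leaf 21474975855) (.leaf 159115125759)) (.node (.leaf 90403111391) (.leaf 228546587215))) (.node (.node (.leaf 55834714351) (.leaf 193743291263)) (.node (.leaf 125027098975) (.leaf 262902131407))))) (.node (.node (.node (.node (.leaf 13220454463) (.leaf 150630040367)) (.node (.leaf 81911619855) (.leaf 219887446559))) (.node (.node (.leaf 47580192959) (.leaf 184721343407)) (.node (.leaf 115998728591) (.leaf 254242990751)))) (.node (.node (.node (.leaf 30400323839) (.leaf 167675692015)) (.node (.leaf 98955305423) (.leaf 237065349855))) (.node (.node (.leaf 64760053887) (.leaf 202303873903)) (.node (.leaf 133587665231) (.leaf 271429274207)))))))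

/-- Part of a collection table. -/
def tblCo3_3_8 : Trie := (.node (.node (.node (.node (.node (.node (.leaf 2147483936) (.leaf 140190419632)) (.node (.leaf 71484590096) (.leaf 208957098880))) (.node (.node (.leaf 36507238816) (.leaf 174818617904)) (.node (.leaf 106108553360) (.leaf 243312634624)))) (.node (.node (.node (.leaf 19327631840) (.leaf 157773359728)) (.node (.leaf 89065261264) (.leaf 226135255872))) (.node (.node (.leaf 53687361888) (.leaf 191864646384)) (.node (.leaf 123160782928) (.leaf 260499205056))))) (.node (.node (.node (.node (.leaf 11341398448) (.leaf 148482566816)) (.node (.leaf 79768348672) (.leaf 217207302928))) (.node (.node (.leaf 45701161264) (.leaf 182573877792)) (.node (.leaf 113863829632) (.leaf 251571219344)))) (.node (.node (.node (.leaf 28521685360) (.leaf 165528619616)) (.node (.leaf 96820537536) (.leaf 234393709520))) (.node (.node (.leaf 62881407472) (.leaf 200156777184)) (.node (.leaf 131444525120) (.leaf 268749261648)))))) (.node (.node (.node (.node (.node (.leaf 6451913088) (.leaf 144696175248)) (.node (.leaf 75972479152) (.leaf 213239475104))) (.node (.node (.leaf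 40811626752) (.leaf 178787453456)) (.node (.leaf 110059612208) (.leaf 247603415840)))) (.node (.node (.node (.leaf 23632150848) (.leaf 161742195280)) (.node (.leaf 93016451184) (.leaf 230426037088))) (.node (.node (.leaf 57991905728) (.leaf 196370385616)) (.node (.leaf 127648803056) (.leaf 264781564896))))) (.node (.node (.node (.node (.leaf 15847154064) (.leaf 152514349568)) (.node (.leaf 83786475552) (.leaf 221292538800))) (.node (.node (.leaf 50206867728) (.leaf 187142507136)) (.node (.leaf 118418860192) (.leaf 255656479536)))) (.node (.node (.node (.leaf 33027391824) (.leaf 170097117888)) (.node (.leaf 101375568096) (.leaf 238479100784))) (.node (.node (.leaf 67387146704) (.leaf 204188445248)) (.node (.leaf 135462652000) (.leaf 272834628592)))))))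

/-- Part of a collection table. -/
def tblCo3_3_9 : Trie := (.node (.node (.node (.node (.node (.node (.leaf 2147483937) (.leaf 140190419633)) (.node (.leaf 71484590097) (.leaf 208957098881))) (.node (.node (.leaf 36507238817) (.leaf 174818617905)) (.node (.leaf 106108553361) (.leaf 243312634625)))) (.node (.node (.node (.leaf 19327631841) (.leaf 157773359729)) (.node (.leaf 89065261265) (.leaf 226135255873))) (.node (.node (.leaf 53687361889) (.leaf 191864646385)) (.node (.leaf 123160782929) (.leaf 260499205057))))) (.node (.node (.node (.node (.leaf 11341398449) (.leaf 148482566817)) (.node (.leaf 79768348673) (.leaf 217207302929))) (.node (.node (.leaf 45701161265) (.leaf 182573877793)) (.node (.leaf 113863829633) (.leaf 251571219345)))) (.node (.node (.node (.leaf 28521685361) (.leaf 165528619617)) (.node (.leaf 96820537537) (.leaf 234393709521))) (.node (.node (.leaf 62881407473) (.leaf 200156777185)) (.node (.leaf 131444525121) (.leaf 268749261649)))))) (.node (.node (.node (.node (.node (.leaf 6451913089) (.leaf 144696175249)) (.node (.leaf 75972479153) (.leaf 213239475105))) (.node (.node (.leaf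 40811626753) (.leaf 178787453457)) (.node (.leaf 110059612209) (.leaf 247603415841)))) (.node (.node (.node (.leaf 23632150849) (.leaf 161742195281)) (.node (.leaf 93016451185) (.leaf 230426037089))) (.node (.node (.leaf 57991905729) (.leaf 196370385617)) (.node (.leaf 127648803057) (.leaf 264781564897))))) (.node (.node (.node (.node (.leaf 15847154065) (.leaf 152514349569)) (.node (.leaf 83786475553) (.leaf 221292538801))) (.node (.node (.leaf 50206867729) (.leaf 187142507137)) (.node (.leaf 118418860193) (.leaf 255656479537)))) (.node (.node (.node (.leaf 33027391825) (.leaf 170097117889)) (.node (.leaf 101375568097) (.leaf 238479100785))) (.node (.node (.leaf 67387146705) (.leaf 204188445249)) (.node (.leaf 135462652001) (.leaf 272834628593)))))))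

/-- Part of a collection table. -/
def tblCo3_3_10 : Trie := (.node (.node (.node (.node (.node (.node (.leaf 2147483938) (.leaf 140190419634)) (.node (.leaf 71484590098) (.leaf 208957098882))) (.node (.node (.leaf 36507238818) (.leaf 174818617906)) (.node (.leaf 106108553362) (.leaf 243312634626)))) (.node (.node (.node (.leaf 19327631842) (.leaf 157773359730)) (.node (.leaf 89065261266) (.leaf 226135255874))) (.node (.node (.leaf 53687361890) (.leaf 191864646386)) (.node (.leaf 123160782930) (.leaf 260499205058))))) (.node (.node (.node (.node (.leaf 11341398450) (.leaf 148482566818)) (.node (.leaf 79768348674) (.leaf 217207302930))) (.node (.node (.leaf 45701161266) (.leaf 182573877794)) (.node (.leaf 113863829634) (.leaf 251571219346)))) (.node (.node (.node (.leaf 28521685362) (.leaf 165528619618)) (.node (.leaf 96820537538) (.leaf 234393709522))) (.node (.node (.leaf 62881407474) (.leaf 200156777186)) (.node (.leaf 131444525122) (.leaf 268749261650)))))) (.node (.node (.node (.node (.node (.leaf 6451913090) (.leaf 144696175250)) (.node (.leaf 75972479154) (.leaf 213239475106))) (.node (.node (.leaf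 40811626754) (.leaf 178787453458)) (.node (.leaf 110059612210) (.leaf 247603415842)))) (.node (.node (.node (.leaf 23632150850) (.leaf 161742195282)) (.node (.leaf 93016451186) (.leaf 230426037090))) (.node (.node (.leaf 57991905730) (.leaf 196370385618)) (.node (.leaf 127648803058) (.leaf 264781564898))))) (.node (.node (.node (.node (.leaf 15847154066) (.leaf 152514349570)) (.node (.leaf 83786475554) (.leaf 221292538802))) (.node (.node (.leaf 50206867730) (.leaf 187142507138)) (.node (.leaf 118418860194) (.leaf 255656479538)))) (.node (.node (.node (.leaf 33027391826) (.leaf 170097117890)) (.node (.leaf 101375568098) (.leaf 238479100786))) (.node (.node (.leaf 67387146706) (.leaf 204188445250)) (.node (.leaf 135462652002) (.leaf 272834628594)))))))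

/-- Part of a collection table. -/
def tblCo3_3_11 : Trie := (.node (.node (.node (.node (.node (.node (.leaf 2147483939) (.leaf 140190419635)) (.node (.leaf 71484590099) (.leaf 208957098883))) (.node (.node (.leaf 36507238819) (.leaf 174818617907)) (.node (.leaf 106108553363) (.leaf 243312634627)))) (.node (.node (.node (.leaf 19327631843) (.leaf 157773359731)) (.node (.leaf 89065261267) (.leaf 226135255875))) (.node (.node (.leaf 53687361891) (.leaf 191864646387)) (.node (.leaf 123160782931) (.leaf 260499205059))))) (.node (.node (.node (.node (.leaf 11341398451) (.leaf 148482566819)) (.node (.leaf 79768348675) (.leaf 217207302931))) (.node (.node (.leaf 45701161267) (.leaf 182573877795)) (.node (.leaf 113863829635) (.leaf 251571219347)))) (.node (.node (.node (.leaf 28521685363) (.leaf 165528619619)) (.node (.leaf 96820537539) (.leaf 234393709523))) (.node (.node (.leaf 62881407475) (.leaf 200156777187)) (.node (.leaf 131444525123) (.leaf 268749261651)))))) (.node (.node (.node (.node (.node (.leaf 6451913091) (.leaf 144696175251)) (.node (.leaf 75972479155) (.leaf 213239475107))) (.node (.node (.leaf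 40811626755) (.leaf 178787453459)) (.node (.leaf 110059612211) (.leaf 247603415843)))) (.node (.node (.node (.leaf 23632150851) (.leaf 161742195283)) (.node (.leaf 93016451187) (.leaf 230426037091))) (.node (.node (.leaf 57991905731) (.leaf 196370385619)) (.node (.leaf 127648803059) (.leaf 264781564899))))) (.node (.node (.node (.node (.leaf 15847154067) (.leaf 152514349571)) (.node (.leaf 83786475555) (.leaf 221292538803))) (.node (.node (.leaf 50206867731) (.leaf 187142507139)) (.node (.leaf 118418860195) (.leaf 255656479539)))) (.node (.node (.node (.leaf 33027391827) (.leaf 170097117891)) (.node (.leaf 101375568099) (.leaf 238479100787))) (.node (.node (.leaf 67387146707) (.leaf 204188445251)) (.node (.leaf 135462652003) (.leaf 272834628595)))))))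

/-- Part of a collection table. -/
def tblCo3_3_12 : Trie := (.node (.node (.node (.node (.node (.node (.leaf 2147483940) (.leaf 140190419636)) (.node (.leaf 71484590100) (.leaf 208957098884))) (.node (.node (.leaf 36507238820) (.leaf 174818617908)) (.node (.leaf 106108553364) (.leaf 243312634628)))) (.node (.node (.node (.leaf 19327631844) (.leaf 157773359732)) (.node (.leaf 89065261268) (.leaf 226135255876))) (.node (.node (.leaf 53687361892) (.leaf 191864646388)) (.node (.leaf 123160782932) (.leaf 260499205060))))) (.node (.node (.node (.node (.leaf 11341398452) (.leaf 148482566820)) (.node (.leaf 79768348676) (.leaf 217207302932))) (.node (.node (.leaf 45701161268) (.leaf 182573877796)) (.node (.leaf 113863829636) (.leaf 251571219348)))) (.node (.node (.node (.leaf 28521685364) (.leaf 165528619620)) (.node (.leaf 96820537540) (.leaf 234393709524))) (.node (.node (.leaf 62881407476) (.leaf 200156777188)) (.node (.leaf 131444525124) (.leaf 268749261652)))))) (.node (.node (.node (.node (.node (.leaf 6451913092) (.leaf 144696175252)) (.node (.leaf 75972479156) (.leaf 213239475108))) (.node (.node (.leaf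 40811626756) (.leaf 178787453460)) (.node (.leaf 110059612212) (.leaf 247603415844)))) (.node (.node (.node (.leaf 23632150852) (.leaf 161742195284)) (.node (.leaf 93016451188) (.leaf 230426037092))) (.node (.node (.leaf 57991905732) (.leaf 196370385620)) (.node (.leaf 127648803060) (.leaf 264781564900))))) (.node (.node (.node (.node (.leaf 15847154068) (.leaf 152514349572)) (.node (.leaf 83786475556) (.leaf 221292538804))) (.node (.node (.leaf 50206867732) (.leaf 187142507140)) (.node (.leaf 118418860196) (.leaf 255656479540)))) (.node (.node (.node (.leaf 33027391828) (.leaf 170097117892)) (.node (.leaf 101375568100) (.leaf 238479100788))) (.node (.node (.leaf 67387146708) (.leaf 204188445252)) (.node (.leaf 135462652004) (.leaf 272834628596)))))))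

/-- Part of a collection table. -/
def tblCo3_3_13 : Trie := (.node (.node (.node (.node (.node (.node (.leaf 2147483941) (.leaf 140190419637)) (.node (.leaf 71484590101) (.leaf 208957098885))) (.node (.node (.leaf 36507238821) (.leaf 174818617909)) (.node (.leaf 106108553365) (.leaf 243312634629)))) (.node (.node (.node (.leaf 19327631845) (.leaf 157773359733)) (.node (.leaf 89065261269) (.leaf 226135255877))) (.node (.node (.leaf 53687361893) (.leaf 191864646389)) (.node (.leaf 123160782933) (.leaf 260499205061))))) (.node (.node (.node (.node (.leaf 11341398453) (.leaf 148482566821)) (.node (.leaf 79768348677) (.leaf 217207302933))) (.node (.node (.leaf 45701161269) (.leaf 182573877797)) (.node (.leaf 113863829637) (.leaf 251571219349)))) (.node (.node (.node (.leaf 28521685365) (.leaf 165528619621)) (.node (.leaf 96820537541) (.leaf 234393709525))) (.node (.node (.leaf 62881407477) (.leaf 200156777189)) (.node (.leaf 131444525125) (.leaf 268749261653)))))) (.node (.node (.node (.node (.node (.leaf 6451913093) (.leaf 144696175253)) (.node (.leaf 75972479157) (.leaf 213239475109))) (.node (.node (.leaf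 40811626757) (.leaf 178787453461)) (.node (.leaf 110059612213) (.leaf 247603415845)))) (.node (.node (.node (.leaf 23632150853) (.leaf 161742195285)) (.node (.leaf 93016451189) (.leaf 230426037093))) (.node (.node (.leaf 57991905733) (.leaf 196370385621)) (.node (.leaf 127648803061) (.leaf 264781564901))))) (.node (.node (.node (.node (.leaf 15847154069) (.leaf 152514349573)) (.node (.leaf 83786475557) (.leaf 221292538805))) (.node (.node (.leaf 50206867733) (.leaf 187142507141)) (.node (.leaf 118418860197) (.leaf 255656479541)))) (.node (.node (.node (.leaf 33027391829) (.leaf 170097117893)) (.node (.leaf 101375568101) (.leaf 238479100789))) (.node (.node (.leaf 67387146709) (.leaf 204188445253)) (.node (.leaf 135462652005) (.leaf 272834628597)))))))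

/-- Part of a collection table. -/
def tblCo3_3_14 : Trie := (.node (.node (.node (.node (.node (.node (.leaf 2147483942) (.leaf 140190419638)) (.node (.leaf 71484590102) (.leaf 208957098886))) (.node (.node (.leaf 36507238822) (.leaf 174818617910)) (.node (.leaf 106108553366) (.leaf 243312634630)))) (.node (.node (.node (.leaf 19327631846) (.leaf 157773359734)) (.node (.leaf 89065261270) (.leaf 226135255878))) (.node (.node (.leaf 53687361894) (.leaf 191864646390)) (.node (.leaf 123160782934) (.leaf 260499205062))))) (.node (.node (.node (.node (.leaf 11341398454) (.leaf 148482566822)) (.node (.leaf 79768348678) (.leaf 217207302934))) (.node (.node (.leaf 45701161270) (.leaf 182573877798)) (.node (.leaf 113863829638) (.leaf 251571219350)))) (.node (.node (.node (.leaf 28521685366) (.leaf 165528619622)) (.node (.leaf 96820537542) (.leaf 234393709526))) (.node (.node (.leaf 62881407478) (.leaf 200156777190)) (.node (.leaf 131444525126) (.leaf 268749261654)))))) (.node (.node (.node (.node (.node (.leaf 6451913094) (.leaf 144696175254)) (.node (.leaf 75972479158) (.leaf 213239475110))) (.node (.node (.leaf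 40811626758) (.leaf 178787453462)) (.node (.leaf 110059612214) (.leaf 247603415846)))) (.node (.node (.node (.leaf 23632150854) (.leaf 161742195286)) (.node (.leaf 93016451190) (.leaf 230426037094))) (.node (.node (.leaf 57991905734) (.leaf 196370385622)) (.node (.leaf 127648803062) (.leaf 264781564902))))) (.node (.node (.node (.node (.leaf 15847154070) (.leaf 152514349574)) (.node (.leaf 83786475558) (.leaf 221292538806))) (.node (.node (.leaf 50206867734) (.leaf 187142507142)) (.node (.leaf 118418860198) (.leaf 255656479542)))) (.node (.node (.node (.leaf 33027391830) (.leaf 170097117894)) (.node (.leaf 101375568102) (.leaf 238479100790))) (.node (.node (.leaf 67387146710) (.leaf 204188445254)) (.node (.leaf 135462652006) (.leaf 272834628598)))))))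

/-- Part of a collection table. -/
def tblCo3_3_15 : Trie := (.node (.node (.node (.node (.node (.node (.leaf 2147483943) (.leaf 140190419639)) (.node (.leaf 71484590103) (.leaf 208957098887))) (.node (.node (.leaf 36507238823) (.leaf 174818617911)) (.node (.leaf 106108553367) (.leaf 243312634631)))) (.node (.node (.node (.leaf 19327631847) (.leaf 157773359735)) (.node (.leaf 89065261271) (.leaf 226135255879))) (.node (.node (.leaf 53687361895) (.leaf 191864646391)) (.node (.leaf 123160782935) (.leaf 260499205063))))) (.node (.node (.node (.node (.leaf 11341398455) (.leaf 148482566823)) (.node (.leaf 79768348679) (.leaf 217207302935))) (.node (.node (.leaf 45701161271) (.leaf 182573877799)) (.node (.leaf 113863829639) (.leaf 251571219351)))) (.node (.node (.node (.leaf 28521685367) (.leaf 165528619623)) (.node (.leaf 96820537543) (.leaf 234393709527))) (.node (.node (.leaf 62881407479) (.leaf 200156777191)) (.node (.leaf 131444525127) (.leaf 268749261655)))))) (.node (.node (.node (.node (.node (.leaf 6451913095) (.leaf 144696175255)) (.node (.leaf 75972479159) (.leaf 213239475111))) (.node (.node (.leaf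 40811626759) (.leaf 178787453463)) (.node (.leaf 110059612215) (.leaf 247603415847)))) (.node (.node (.node (.leaf 23632150855) (.leaf 161742195287)) (.node (.leaf 93016451191) (.leaf 230426037095))) (.node (.node (.leaf 57991905735) (.leaf 196370385623)) (.node (.leaf 127648803063) (.leaf 264781564903))))) (.node (.node (.node (.node (.leaf 15847154071) (.leaf 152514349575)) (.node (.leaf 83786475559) (.leaf 221292538807))) (.node (.node (.leaf 50206867735) (.leaf 187142507143)) (.node (.leaf 118418860199) (.leaf 255656479543)))) (.node (.node (.node (.leaf 33027391831) (.leaf 170097117895)) (.node (.leaf 101375568103) (.leaf 238479100791))) (.node (.node (.leaf 67387146711) (.leaf 204188445255)) (.node (.leaf 135462652007) (.leaf 272834628599)))))))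

/-- Part of a collection table. -/
def tblCo3_4_0 : Trie := (.node (.node (.node (.node (.node (.node (.leaf 16) (.leaf 1073742480)) (.node (.leaf 536871184) (.leaf 1610630032))) (.node (.node (.leaf 268435600) (.leaf 1342186000)) (.node (.leaf 805306768) (.leaf 1879073552)))) (.node (.node (.node (.leaf 134217808) (.leaf 1207960272)) (.node (.leaf 671088976) (.leaf 1744847824))) (.node (.node (.leaf 402653392) (.leaf 1476403792)) (.node (.leaf 939524560) (.leaf 2013291344))))) (.node (.node (.node (.node (.leaf 67109040) (.leaf 1140859440)) (.node (.leaf 603980208) (.leaf 1677746992))) (.node (.node (.leaf 335552560) (.leaf 1409295024)) (.node (.leaf 872423728) (.leaf 1946182576)))) (.node (.node (.node (.leaf 201457904) (.leaf 1275208304)) (.node (.leaf 738329072) (.leaf 1812095856))) (.node (.node (.leaf 469901424) (.leaf 1543643888)) (.node (.leaf 1006772592) (.leaf 2080531440)))))) (.node (.node (.node (.node (.node (.leaf 33554560) (.leaf 1107304960)) (.node (.leaf 570425728) (.leaf 1644192512))) (.node (.node (.leaf 301998080) (.leaf 1375740544)) (.node (.leaf 838869248) (.leaf 1912628096))))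 (.node (.node (.node (.leaf 167903424) (.leaf 1241653824)) (.node (.leaf 704774592) (.leaf 1778541376))) (.node (.node (.leaf 436346944) (.leaf 1510089408)) (.node (.leaf 973218112) (.leaf 2046976960))))) (.node (.node (.node (.node (.leaf 104865824) (.leaf 1178608288)) (.node (.leaf 641736992) (.leaf 1715495840))) (.node (.node (.leaf 373301408) (.leaf 1447035424)) (.node (.leaf 910172576) (.leaf 1983922976)))) (.node (.node (.node (.leaf 239083616) (.leaf 1312826080)) (.node (.leaf 775954784) (.leaf 1849713632))) (.node (.node (.leaf 507519200) (.leaf 1581253216)) (.node (.leaf 1044390368) (.leaf 2118140768)))))))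

/-- Part of a collection table. -/
def tblCo3_4_1 : Trie := (.node (.node (.node (.node (.node (.node (.leaf 17) (.leaf 1073742481)) (.node (.leaf 536871185) (.leaf 1610630033))) (.node (.node (.leaf 268435601) (.leaf 1342186001)) (.node (.leaf 805306769) (.leaf 1879073553)))) (.node (.node (.node (.leaf 134217809) (.leaf 1207960273)) (.node (.leaf 671088977) (.leaf 1744847825))) (.node (.node (.leaf 402653393) (.leaf 1476403793)) (.node (.leaf 939524561) (.leaf 2013291345))))) (.node (.node (.node (.node (.leaf 67109041) (.leaf 1140859441)) (.node (.leaf 603980209) (.leaf 1677746993))) (.node (.node (.leaf 335552561) (.leaf 1409295025)) (.node (.leaf 872423729) (.leaf 1946182577)))) (.node (.node (.node (.leaf 201457905) (.leaf 1275208305)) (.node (.leaf 738329073) (.leaf 1812095857))) (.node (.node (.leaf 469901425) (.leaf 1543643889)) (.node (.leaf 1006772593) (.leaf 2080531441)))))) (.node (.node (.node (.node (.node (.leaf 33554561) (.leaf 1107304961)) (.node (.leaf 570425729) (.leaf 1644192513))) (.node (.node (.leaf 301998081) (.leaf 1375740545)) (.node (.leaf 838869249) (.leaf 1912628097))))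 (.node (.node (.node (.leaf 167903425) (.leaf 1241653825)) (.node (.leaf 704774593) (.leaf 1778541377))) (.node (.node (.leaf 436346945) (.leaf 1510089409)) (.node (.leaf 973218113) (.leaf 2046976961))))) (.node (.node (.node (.node (.leaf 104865825) (.leaf 1178608289)) (.node (.leaf 641736993) (.leaf 1715495841))) (.node (.node (.leaf 373301409) (.leaf 1447035425)) (.node (.leaf 910172577) (.leaf 1983922977)))) (.node (.node (.node (.leaf 239083617) (.leaf 1312826081)) (.node (.leaf 775954785) (.leaf 1849713633))) (.node (.node (.leaf 507519201) (.leaf 1581253217)) (.node (.leaf 1044390369) (.leaf 2118140769)))))))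

/-- Part of a collection table. -/
def tblCo3_4_2 : Trie := (.node (.node (.node (.node (.node (.node (.leaf 18) (.leaf 1073742482)) (.node (.leaf 536871186) (.leaf 1610630034))) (.node (.node (.leaf 268435602) (.leaf 1342186002)) (.node (.leaf 805306770) (.leaf 1879073554)))) (.node (.node (.node (.leaf 134217810) (.leaf 1207960274)) (.node (.leaf 671088978) (.leaf 1744847826))) (.node (.node (.leaf 402653394) (.leaf 1476403794)) (.node (.leaf 939524562) (.leaf 2013291346))))) (.node (.node (.node (.node (.leaf 67109042) (.leaf 1140859442)) (.node (.leaf 603980210) (.leaf 1677746994))) (.node (.node (.leaf 335552562) (.leaf 1409295026)) (.node (.leaf 872423730) (.leaf 1946182578)))) (.node (.node (.node (.leaf 201457906) (.leaf 1275208306)) (.node (.leaf 738329074) (.leaf 1812095858))) (.node (.node (.leaf 469901426) (.leaf 1543643890)) (.node (.leaf 1006772594) (.leaf 2080531442)))))) (.node (.node (.node (.node (.node (.leaf 33554562) (.leaf 1107304962)) (.node (.leaf 570425730) (.leaf 1644192514))) (.node (.node (.leaf 301998082) (.leaf 1375740546)) (.node (.leaf 838869250) (.leaf 1912628098))))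 (.node (.node (.node (.leaf 167903426) (.leaf 1241653826)) (.node (.leaf 704774594) (.leaf 1778541378))) (.node (.node (.leaf 436346946) (.leaf 1510089410)) (.node (.leaf 973218114) (.leaf 2046976962))))) (.node (.node (.node (.node (.leaf 104865826) (.leaf 1178608290)) (.node (.leaf 641736994) (.leaf 1715495842))) (.node (.node (.leaf 373301410) (.leaf 1447035426)) (.node (.leaf 910172578) (.leaf 1983922978)))) (.node (.node (.node (.leaf 239083618) (.leaf 1312826082)) (.node (.leaf 775954786) (.leaf 1849713634))) (.node (.node (.leaf 507519202) (.leaf 1581253218)) (.node (.leaf 1044390370) (.leaf 2118140770)))))))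

/-- Part of a collection table. -/
def tblCo3_4_3 : Trie := (.node (.node (.node (.node (.node (.node (.leaf 19) (.leaf 1073742483)) (.node (.leaf 536871187) (.leaf 1610630035))) (.node (.node (.leaf 268435603) (.leaf 1342186003)) (.node (.leaf 805306771) (.leaf 1879073555)))) (.node (.node (.node (.leaf 134217811) (.leaf 1207960275)) (.node (.leaf 671088979) (.leaf 1744847827))) (.node (.node (.leaf 402653395) (.leaf 1476403795)) (.node (.leaf 939524563) (.leaf 2013291347))))) (.node (.node (.node (.node (.leaf 67109043) (.leaf 1140859443)) (.node (.leaf 603980211) (.leaf 1677746995))) (.node (.node (.leaf 335552563) (.leaf 1409295027)) (.node (.leaf 872423731) (.leaf 1946182579)))) (.node (.node (.node (.leaf 201457907) (.leaf 1275208307)) (.node (.leaf 738329075) (.leaf 1812095859))) (.node (.node (.leaf 469901427) (.leaf 1543643891)) (.node (.leaf 1006772595) (.leaf 2080531443)))))) (.node (.node (.node (.node (.node (.leaf 33554563) (.leaf 1107304963)) (.node (.leaf 570425731) (.leaf 1644192515))) (.node (.node (.leaf 301998083) (.leaf 1375740547)) (.node (.leaf 838869251) (.leaf 1912628099))))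 (.node (.node (.node (.leaf 167903427) (.leaf 1241653827)) (.node (.leaf 704774595) (.leaf 1778541379))) (.node (.node (.leaf 436346947) (.leaf 1510089411)) (.node (.leaf 973218115) (.leaf 2046976963))))) (.node (.node (.node (.node (.leaf 104865827) (.leaf 1178608291)) (.node (.leaf 641736995) (.leaf 1715495843))) (.node (.node (.leaf 373301411) (.leaf 1447035427)) (.node (.leaf 910172579) (.leaf 1983922979)))) (.node (.node (.node (.leaf 239083619) (.leaf 1312826083)) (.node (.leaf 775954787) (.leaf 1849713635))) (.node (.node (.leaf 507519203) (.leaf 1581253219)) (.node (.leaf 1044390371) (.leaf 2118140771)))))))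

/-- Part of a collection table. -/
def tblCo3_4_4 : Trie := (.node (.node (.node (.node (.node (.node (.leaf 20) (.leaf 1073742484)) (.node (.leaf 536871188) (.leaf 1610630036))) (.node (.node (.leaf 268435604) (.leaf 1342186004)) (.node (.leaf 805306772) (.leaf 1879073556)))) (.node (.node (.node (.leaf 134217812) (.leaf 1207960276)) (.node (.leaf 671088980) (.leaf 1744847828))) (.node (.node (.leaf 402653396) (.leaf 1476403796)) (.node (.leaf 939524564) (.leaf 2013291348))))) (.node (.node (.node (.node (.leaf 67109044) (.leaf 1140859444)) (.node (.leaf 603980212) (.leaf 1677746996))) (.node (.node (.leaf 335552564) (.leaf 1409295028)) (.node (.leaf 872423732) (.leaf 1946182580)))) (.node (.node (.node (.leaf 201457908) (.leaf 1275208308)) (.node (.leaf 738329076) (.leaf 1812095860))) (.node (.node (.leaf 469901428) (.leaf 1543643892)) (.node (.leaf 1006772596) (.leaf 2080531444)))))) (.node (.node (.node (.node (.node (.leaf 33554564) (.leaf 1107304964)) (.node (.leaf 570425732) (.leaf 1644192516))) (.node (.node (.leaf 301998084) (.leaf 1375740548)) (.node (.leaf 838869252) (.leaf 1912628100))))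 (.node (.node (.node (.leaf 167903428) (.leaf 1241653828)) (.node (.leaf 704774596) (.leaf 1778541380))) (.node (.node (.leaf 436346948) (.leaf 1510089412)) (.node (.leaf 973218116) (.leaf 2046976964))))) (.node (.node (.node (.node (.leaf 104865828) (.leaf 1178608292)) (.node (.leaf 641736996) (.leaf 1715495844))) (.node (.node (.leaf 373301412) (.leaf 1447035428)) (.node (.leaf 910172580) (.leaf 1983922980)))) (.node (.node (.node (.leaf 239083620) (.leaf 1312826084)) (.node (.leaf 775954788) (.leaf 1849713636))) (.node (.node (.leaf 507519204) (.leaf 1581253220)) (.node (.leaf 1044390372) (.leaf 2118140772)))))))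

/-- Part of a collection table. -/
def tblCo3_4_5 : Trie := (.node (.node (.node (.node (.node (.node (.leaf 21) (.leaf 1073742485)) (.node (.leaf 536871189) (.leaf 1610630037))) (.node (.node (.leaf 268435605) (.leaf 1342186005)) (.node (.leaf 805306773) (.leaf 1879073557)))) (.node (.node (.node (.leaf 134217813) (.leaf 1207960277)) (.node (.leaf 671088981) (.leaf 1744847829))) (.node (.node (.leaf 402653397) (.leaf 1476403797)) (.node (.leaf 939524565) (.leaf 2013291349))))) (.node (.node (.node (.node (.leaf 67109045) (.leaf 1140859445)) (.node (.leaf 603980213) (.leaf 1677746997))) (.node (.node (.leaf 335552565) (.leaf 1409295029)) (.node (.leaf 872423733) (.leaf 1946182581)))) (.node (.node (.node (.leaf 201457909) (.leaf 1275208309)) (.node (.leaf 738329077) (.leaf 1812095861))) (.node (.node (.leaf 469901429) (.leaf 1543643893)) (.node (.leaf 1006772597) (.leaf 2080531445)))))) (.node (.node (.node (.node (.node (.leaf 33554565) (.leaf 1107304965)) (.node (.leaf 570425733) (.leaf 1644192517))) (.node (.node (.leaf 301998085) (.leaf 1375740549)) (.node (.leaf 838869253) (.leaf 1912628101))))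 (.node (.node (.node (.leaf 167903429) (.leaf 1241653829)) (.node (.leaf 704774597) (.leaf 1778541381))) (.node (.node (.leaf 436346949) (.leaf 1510089413)) (.node (.leaf 973218117) (.leaf 2046976965))))) (.node (.node (.node (.node (.leaf 104865829) (.leaf 1178608293)) (.node (.leaf 641736997) (.leaf 1715495845))) (.node (.node (.leaf 373301413) (.leaf 1447035429)) (.node (.leaf 910172581) (.leaf 1983922981)))) (.node (.node (.node (.leaf 239083621) (.leaf 1312826085)) (.node (.leaf 775954789) (.leaf 1849713637))) (.node (.node (.leaf 507519205) (.leaf 1581253221)) (.node (.leaf 1044390373) (.leaf 2118140773)))))))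

/-- Part of a collection table. -/
def tblCo3_4_6 : Trie := (.node (.node (.node (.node (.node (.node (.leaf 22) (.leaf 1073742486)) (.node (.leaf 536871190) (.leaf 1610630038))) (.node (.node (.leaf 268435606) (.leaf 1342186006)) (.node (.leaf 805306774) (.leaf 1879073558)))) (.node (.node (.node (.leaf 134217814) (.leaf 1207960278)) (.node (.leaf 671088982) (.leaf 1744847830))) (.node (.node (.leaf 402653398) (.leaf 1476403798)) (.node (.leaf 939524566) (.leaf 2013291350))))) (.node (.node (.node (.node (.leaf 67109046) (.leaf 1140859446)) (.node (.leaf 603980214) (.leaf 1677746998))) (.node (.node (.leaf 335552566) (.leaf 1409295030)) (.node (.leaf 872423734) (.leaf 1946182582)))) (.node (.node (.node (.leaf 201457910) (.leaf 1275208310)) (.node (.leaf 738329078) (.leaf 1812095862))) (.node (.node (.leaf 469901430) (.leaf 1543643894)) (.node (.leaf 1006772598) (.leaf 2080531446)))))) (.node (.node (.node (.node (.node (.leaf 33554566) (.leaf 1107304966)) (.node (.leaf 570425734) (.leaf 1644192518))) (.node (.node (.leaf 301998086) (.leaf 1375740550)) (.node (.leaf 838869254) (.leaf 1912628102))))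 (.node (.node (.node (.leaf 167903430) (.leaf 1241653830)) (.node (.leaf 704774598) (.leaf 1778541382))) (.node (.node (.leaf 436346950) (.leaf 1510089414)) (.node (.leaf 973218118) (.leaf 2046976966))))) (.node (.node (.node (.node (.leaf 104865830) (.leaf 1178608294)) (.node (.leaf 641736998) (.leaf 1715495846))) (.node (.node (.leaf 373301414) (.leaf 1447035430)) (.node (.leaf 910172582) (.leaf 1983922982)))) (.node (.node (.node (.leaf 239083622) (.leaf 1312826086)) (.node (.leaf 775954790) (.leaf 1849713638))) (.node (.node (.leaf 507519206) (.leaf 1581253222)) (.node (.leaf 1044390374) (.leaf 2118140774)))))))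

/-- Part of a collection table. -/
def tblCo3_4_7 : Trie := (.node (.node (.node (.node (.node (.node (.leaf 23) (.leaf 1073742487)) (.node (.leaf 536871191) (.leaf 1610630039))) (.node (.node (.leaf 268435607) (.leaf 1342186007)) (.node (.leaf 805306775) (.leaf 1879073559)))) (.node (.node (.node (.leaf 134217815) (.leaf 1207960279)) (.node (.leaf 671088983) (.leaf 1744847831))) (.node (.node (.leaf 402653399) (.leaf 1476403799)) (.node (.leaf 939524567) (.leaf 2013291351))))) (.node (.node (.node (.node (.leaf 67109047) (.leaf 1140859447)) (.node (.leaf 603980215) (.leaf 1677746999))) (.node (.node (.leaf 335552567) (.leaf 1409295031)) (.node (.leaf 872423735) (.leaf 1946182583)))) (.node (.node (.node (.leaf 201457911) (.leaf 1275208311)) (.node (.leaf 738329079) (.leaf 1812095863))) (.node (.node (.leaf 469901431) (.leaf 1543643895)) (.node (.leaf 1006772599) (.leaf 2080531447)))))) (.node (.node (.node (.node (.node (.leaf 33554567) (.leaf 1107304967)) (.node (.leaf 570425735) (.leaf 1644192519))) (.node (.node (.leaf 301998087) (.leaf 1375740551)) (.node (.leaf 838869255) (.leaf 1912628103))))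 (.node (.node (.node (.leaf 167903431) (.leaf 1241653831)) (.node (.leaf 704774599) (.leaf 1778541383))) (.node (.node (.leaf 436346951) (.leaf 1510089415)) (.node (.leaf 973218119) (.leaf 2046976967))))) (.node (.node (.node (.node (.leaf 104865831) (.leaf 1178608295)) (.node (.leaf 641736999) (.leaf 1715495847))) (.node (.node (.leaf 373301415) (.leaf 1447035431)) (.node (.leaf 910172583) (.leaf 1983922983)))) (.node (.node (.node (.leaf 239083623) (.leaf 1312826087)) (.node (.leaf 775954791) (.leaf 1849713639))) (.node (.node (.leaf 507519207) (.leaf 1581253223)) (.node (.leaf 1044390375) (.leaf 2118140775)))))))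

/-- Part of a collection table. -/
def tblCo3_4_8 : Trie := (.node (.node (.node (.node (.node (.node (.leaf 24) (.leaf 1073742488)) (.node (.leaf 536871192) (.leaf 1610630040))) (.node (.node (.leaf 268435608) (.leaf 1342186008)) (.node (.leaf 805306776) (.leaf 1879073560)))) (.node (.node (.node (.leaf 134217816) (.leaf 1207960280)) (.node (.leaf 671088984) (.leaf 1744847832))) (.node (.node (.leaf 402653400) (.leaf 1476403800)) (.node (.leaf 939524568) (.leaf 2013291352))))) (.node (.node (.node (.node (.leaf 67109048) (.leaf 1140859448)) (.node (.leaf 603980216) (.leaf 1677747000))) (.node (.node (.leaf 335552568) (.leaf 1409295032)) (.node (.leaf 872423736) (.leaf 1946182584)))) (.node (.node (.node (.leaf 201457912) (.leaf 1275208312)) (.node (.leaf 738329080) (.leaf 1812095864))) (.node (.node (.leaf 469901432) (.leaf 1543643896)) (.node (.leaf 1006772600) (.leaf 2080531448)))))) (.node (.node (.node (.node (.node (.leaf 33554568) (.leaf 1107304968)) (.node (.leaf 570425736) (.leaf 1644192520))) (.node (.node (.leaf 301998088) (.leaf 1375740552)) (.node (.leaf 838869256) (.leaf 1912628104))))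 (.node (.node (.node (.leaf 167903432) (.leaf 1241653832)) (.node (.leaf 704774600) (.leaf 1778541384))) (.node (.node (.leaf 436346952) (.leaf 1510089416)) (.node (.leaf 973218120) (.leaf 2046976968))))) (.node (.node (.node (.node (.leaf 104865832) (.leaf 1178608296)) (.node (.leaf 641737000) (.leaf 1715495848))) (.node (.node (.leaf 373301416) (.leaf 1447035432)) (.node (.leaf 910172584) (.leaf 1983922984)))) (.node (.node (.node (.leaf 239083624) (.leaf 1312826088)) (.node (.leaf 775954792) (.leaf 1849713640))) (.node (.node (.leaf 507519208) (.leaf 1581253224)) (.node (.leaf 1044390376) (.leaf 2118140776)))))))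

/-- Part of a collection table. -/
def tblCo3_4_9 : Trie := (.node (.node (.node (.node (.node (.node (.leaf 25) (.leaf 1073742489)) (.node (.leaf 536871193) (.leaf 1610630041))) (.node (.node (.leaf 268435609) (.leaf 1342186009)) (.node (.leaf 805306777) (.leaf 1879073561)))) (.node (.node (.node (.leaf 134217817) (.leaf 1207960281)) (.node (.leaf 671088985) (.leaf 1744847833))) (.node (.node (.leaf 402653401) (.leaf 1476403801)) (.node (.leaf 939524569) (.leaf 2013291353))))) (.node (.node (.node (.node (.leaf 67109049) (.leaf 1140859449)) (.node (.leaf 603980217) (.leaf 1677747001))) (.node (.node (.leaf 335552569) (.leaf 1409295033)) (.node (.leaf 872423737) (.leaf 1946182585)))) (.node (.node (.node (.leaf 201457913) (.leaf 1275208313)) (.node (.leaf 738329081) (.leaf 1812095865))) (.node (.node (.leaf 469901433) (.leaf 1543643897)) (.node (.leaf 1006772601) (.leaf 2080531449)))))) (.node (.node (.node (.node (.node (.leaf 33554569) (.leaf 1107304969)) (.node (.leaf 570425737) (.leaf 1644192521))) (.node (.node (.leaf 301998089) (.leaf 1375740553)) (.node (.leaf 838869257) (.leaf 1912628105))))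 (.node (.node (.node (.leaf 167903433) (.leaf 1241653833)) (.node (.leaf 704774601) (.leaf 1778541385))) (.node (.node (.leaf 436346953) (.leaf 1510089417)) (.node (.leaf 973218121) (.leaf 2046976969))))) (.node (.node (.node (.node (.leaf 104865833) (.leaf 1178608297)) (.node (.leaf 641737001) (.leaf 1715495849))) (.node (.node (.leaf 373301417) (.leaf 1447035433)) (.node (.leaf 910172585) (.leaf 1983922985)))) (.node (.node (.node (.leaf 239083625) (.leaf 1312826089)) (.node (.leaf 775954793) (.leaf 1849713641))) (.node (.node (.leaf 507519209) (.leaf 1581253225)) (.node (.leaf 1044390377) (.leaf 2118140777)))))))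

/-- Part of a collection table. -/
def tblCo3_4_10 : Trie := (.node (.node (.node (.node (.node (.node (.leaf 26) (.leaf 1073742490)) (.node (.leaf 536871194) (.leaf 1610630042))) (.node (.node (.leaf 268435610) (.leaf 1342186010)) (.node (.leaf 805306778) (.leaf 1879073562)))) (.node (.node (.node (.leaf 134217818) (.leaf 1207960282)) (.node (.leaf 671088986) (.leaf 1744847834))) (.node (.node (.leaf 402653402) (.leaf 1476403802)) (.node (.leaf 939524570) (.leaf 2013291354))))) (.node (.node (.node (.node (.leaf 67109050) (.leaf 1140859450)) (.node (.leaf 603980218) (.leaf 1677747002))) (.node (.node (.leaf 335552570) (.leaf 1409295034)) (.node (.leaf 872423738) (.leaf 1946182586)))) (.node (.node (.node (.leaf 201457914) (.leaf 1275208314)) (.node (.leaf 738329082) (.leaf 1812095866))) (.node (.node (.leaf 469901434) (.leaf 1543643898)) (.node (.leaf 1006772602) (.leaf 2080531450)))))) (.node (.node (.node (.node (.node (.leaf 33554570) (.leaf 1107304970)) (.node (.leaf 570425738) (.leaf 1644192522))) (.node (.node (.leaf 301998090) (.leaf 1375740554)) (.node (.leaf 838869258) (.leaf 1912628106))))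 (.node (.node (.node (.leaf 167903434) (.leaf 1241653834)) (.node (.leaf 704774602) (.leaf 1778541386))) (.node (.node (.leaf 436346954) (.leaf 1510089418)) (.node (.leaf 973218122) (.leaf 2046976970))))) (.node (.node (.node (.node (.leaf 104865834) (.leaf 1178608298)) (.node (.leaf 641737002) (.leaf 1715495850))) (.node (.node (.leaf 373301418) (.leaf 1447035434)) (.node (.leaf 910172586) (.leaf 1983922986)))) (.node (.node (.node (.leaf 239083626) (.leaf 1312826090)) (.node (.leaf 775954794) (.leaf 1849713642))) (.node (.node (.leaf 507519210) (.leaf 1581253226)) (.node (.leaf 1044390378) (.leaf 2118140778)))))))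

/-- Part of a collection table. -/
def tblCo3_4_11 : Trie := (.node (.node (.node (.node (.node (.node (.leaf 27) (.leaf 1073742491)) (.node (.leaf 536871195) (.leaf 1610630043))) (.node (.node (.leaf 268435611) (.leaf 1342186011)) (.node (.leaf 805306779) (.leaf 1879073563)))) (.node (.node (.node (.leaf 134217819) (.leaf 1207960283)) (.node (.leaf 671088987) (.leaf 1744847835))) (.node (.node (.leaf 402653403) (.leaf 1476403803)) (.node (.leaf 939524571) (.leaf 2013291355))))) (.node (.node (.node (.node (.leaf 67109051) (.leaf 1140859451)) (.node (.leaf 603980219) (.leaf 1677747003))) (.node (.node (.leaf 335552571) (.leaf 1409295035)) (.node (.leaf 872423739) (.leaf 1946182587)))) (.node (.node (.node (.leaf 201457915) (.leaf 1275208315)) (.node (.leaf 738329083) (.leaf 1812095867))) (.node (.node (.leaf 469901435) (.leaf 1543643899)) (.node (.leaf 1006772603) (.leaf 2080531451)))))) (.node (.node (.node (.node (.node (.leaf 33554571) (.leaf 1107304971)) (.node (.leaf 570425739) (.leaf 1644192523))) (.node (.node (.leaf 301998091) (.leaf 1375740555)) (.node (.leaf 838869259) (.leaf 1912628107))))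 (.node (.node (.node (.leaf 167903435) (.leaf 1241653835)) (.node (.leaf 704774603) (.leaf 1778541387))) (.node (.node (.leaf 436346955) (.leaf 1510089419)) (.node (.leaf 973218123) (.leaf 2046976971))))) (.node (.node (.node (.node (.leaf 104865835) (.leaf 1178608299)) (.node (.leaf 641737003) (.leaf 1715495851))) (.node (.node (.leaf 373301419) (.leaf 1447035435)) (.node (.leaf 910172587) (.leaf 1983922987)))) (.node (.node (.node (.leaf 239083627) (.leaf 1312826091)) (.node (.leaf 775954795) (.leaf 1849713643))) (.node (.node (.leaf 507519211) (.leaf 1581253227)) (.node (.leaf 1044390379) (.leaf 2118140779)))))))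

/-- Part of a collection table. -/
def tblCo3_4_12 : Trie := (.node (.node (.node (.node (.node (.node (.leaf 28) (.leaf 1073742492)) (.node (.leaf 536871196) (.leaf 1610630044))) (.node (.node (.leaf 268435612) (.leaf 1342186012)) (.node (.leaf 805306780) (.leaf 1879073564)))) (.node (.node (.node (.leaf 134217820) (.leaf 1207960284)) (.node (.leaf 671088988) (.leaf 1744847836))) (.node (.node (.leaf 402653404) (.leaf 1476403804)) (.node (.leaf 939524572) (.leaf 2013291356))))) (.node (.node (.node (.node (.leaf 67109052) (.leaf 1140859452)) (.node (.leaf 603980220) (.leaf 1677747004))) (.node (.node (.leaf 335552572) (.leaf 1409295036)) (.node (.leaf 872423740) (.leaf 1946182588)))) (.node (.node (.node (.leaf 201457916) (.leaf 1275208316)) (.node (.leaf 738329084) (.leaf 1812095868))) (.node (.node (.leaf 469901436) (.leaf 1543643900)) (.node (.leaf 1006772604) (.leaf 2080531452)))))) (.node (.node (.node (.node (.node (.leaf 33554572) (.leaf 1107304972)) (.node (.leaf 570425740) (.leaf 1644192524))) (.node (.node (.leaf 301998092) (.leaf 1375740556)) (.node (.leaf 838869260) (.leaf 1912628108))))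 (.node (.node (.node (.leaf 167903436) (.leaf 1241653836)) (.node (.leaf 704774604) (.leaf 1778541388))) (.node (.node (.leaf 436346956) (.leaf 1510089420)) (.node (.leaf 973218124) (.leaf 2046976972))))) (.node (.node (.node (.node (.leaf 104865836) (.leaf 1178608300)) (.node (.leaf 641737004) (.leaf 1715495852))) (.node (.node (.leaf 373301420) (.leaf 1447035436)) (.node (.leaf 910172588) (.leaf 1983922988)))) (.node (.node (.node (.leaf 239083628) (.leaf 1312826092)) (.node (.leaf 775954796) (.leaf 1849713644))) (.node (.node (.leaf 507519212) (.leaf 1581253228)) (.node (.leaf 1044390380) (.leaf 2118140780)))))))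

/-- Part of a collection table. -/
def tblCo3_4_13 : Trie := (.node (.node (.node (.node (.node (.node (.leaf 29) (.leaf 1073742493)) (.node (.leaf 536871197) (.leaf 1610630045))) (.node (.node (.leaf 268435613) (.leaf 1342186013)) (.node (.leaf 805306781) (.leaf 1879073565)))) (.node (.node (.node (.leaf 134217821) (.leaf 1207960285)) (.node (.leaf 671088989) (.leaf 1744847837))) (.node (.node (.leaf 402653405) (.leaf 1476403805)) (.node (.leaf 939524573) (.leaf 2013291357))))) (.node (.node (.node (.node (.leaf 67109053) (.leaf 1140859453)) (.node (.leaf 603980221) (.leaf 1677747005))) (.node (.node (.leaf 335552573) (.leaf 1409295037)) (.node (.leaf 872423741) (.leaf 1946182589)))) (.node (.node (.node (.leaf 201457917) (.leaf 1275208317)) (.node (.leaf 738329085) (.leaf 1812095869))) (.node (.node (.leaf 469901437) (.leaf 1543643901)) (.node (.leaf 1006772605) (.leaf 2080531453)))))) (.node (.node (.node (.node (.node (.leaf 33554573) (.leaf 1107304973)) (.node (.leaf 570425741) (.leaf 1644192525))) (.node (.node (.leaf 301998093) (.leaf 1375740557)) (.node (.leaf 838869261) (.leaf 1912628109))))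 (.node (.node (.node (.leaf 167903437) (.leaf 1241653837)) (.node (.leaf 704774605) (.leaf 1778541389))) (.node (.node (.leaf 436346957) (.leaf 1510089421)) (.node (.leaf 973218125) (.leaf 2046976973))))) (.node (.node (.node (.node (.leaf 104865837) (.leaf 1178608301)) (.node (.leaf 641737005) (.leaf 1715495853))) (.node (.node (.leaf 373301421) (.leaf 1447035437)) (.node (.leaf 910172589) (.leaf 1983922989)))) (.node (.node (.node (.leaf 239083629) (.leaf 1312826093)) (.node (.leaf 775954797) (.leaf 1849713645))) (.node (.node (.leaf 507519213) (.leaf 1581253229)) (.node (.leaf 1044390381) (.leaf 2118140781)))))))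

/-- Part of a collection table. -/
def tblCo3_4_14 : Trie := (.node (.node (.node (.node (.node (.node (.leaf 30) (.leaf 1073742494)) (.node (.leaf 536871198) (.leaf 1610630046))) (.node (.node (.leaf 268435614) (.leaf 1342186014)) (.node (.leaf 805306782) (.leaf 1879073566)))) (.node (.node (.node (.leaf 134217822) (.leaf 1207960286)) (.node (.leaf 671088990) (.leaf 1744847838))) (.node (.node (.leaf 402653406) (.leaf 1476403806)) (.node (.leaf 939524574) (.leaf 2013291358))))) (.node (.node (.node (.node (.leaf 67109054) (.leaf 1140859454)) (.node (.leaf 603980222) (.leaf 1677747006))) (.node (.node (.leaf 335552574) (.leaf 1409295038)) (.node (.leaf 872423742) (.leaf 1946182590)))) (.node (.node (.node (.leaf 201457918) (.leaf 1275208318)) (.node (.leaf 738329086) (.leaf 1812095870))) (.node (.node (.leaf 469901438) (.leaf 1543643902)) (.node (.leaf 1006772606) (.leaf 2080531454)))))) (.node (.node (.node (.node (.node (.leaf 33554574) (.leaf 1107304974)) (.node (.leaf 570425742) (.leaf 1644192526))) (.node (.node (.leaf 301998094) (.leaf 1375740558)) (.node (.leaf 838869262) (.leaf 1912628110))))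 (.node (.node (.node (.leaf 167903438) (.leaf 1241653838)) (.node (.leaf 704774606) (.leaf 1778541390))) (.node (.node (.leaf 436346958) (.leaf 1510089422)) (.node (.leaf 973218126) (.leaf 2046976974))))) (.node (.node (.node (.node (.leaf 104865838) (.leaf 1178608302)) (.node (.leaf 641737006) (.leaf 1715495854))) (.node (.node (.leaf 373301422) (.leaf 1447035438)) (.node (.leaf 910172590) (.leaf 1983922990)))) (.node (.node (.node (.leaf 239083630) (.leaf 1312826094)) (.node (.leaf 775954798) (.leaf 1849713646))) (.node (.node (.leaf 507519214) (.leaf 1581253230)) (.node (.leaf 1044390382) (.leaf 2118140782)))))))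

/-- Part of a collection table. -/
def tblCo3_4_15 : Trie := (.node (.node (.node (.node (.node (.node (.leaf 31) (.leaf 1073742495)) (.node (.leaf 536871199) (.leaf 1610630047))) (.node (.node (.leaf 268435615) (.leaf 1342186015)) (.node (.leaf 805306783) (.leaf 1879073567)))) (.node (.node (.node (.leaf 134217823) (.leaf 1207960287)) (.node (.leaf 671088991) (.leaf 1744847839))) (.node (.node (.leaf 402653407) (.leaf 1476403807)) (.node (.leaf 939524575) (.leaf 2013291359))))) (.node (.node (.node (.node (.leaf 67109055) (.leaf 1140859455)) (.node (.leaf 603980223) (.leaf 1677747007))) (.node (.node (.leaf 335552575) (.leaf 1409295039)) (.node (.leaf 872423743) (.leaf 1946182591)))) (.node (.node (.node (.leaf 201457919) (.leaf 1275208319)) (.node (.leaf 738329087) (.leaf 1812095871))) (.node (.node (.leaf 469901439) (.leaf 1543643903)) (.node (.leaf 1006772607) (.leaf 2080531455)))))) (.node (.node (.node (.node (.node (.leaf 33554575) (.leaf 1107304975)) (.node (.leaf 570425743) (.leaf 1644192527))) (.node (.node (.leaf 301998095) (.leaf 1375740559)) (.node (.leaf 838869263) (.leaf 1912628111))))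 (.node (.node (.node (.leaf 167903439) (.leaf 1241653839)) (.node (.leaf 704774607) (.leaf 1778541391))) (.node (.node (.leaf 436346959) (.leaf 1510089423)) (.node (.leaf 973218127) (.leaf 2046976975))))) (.node (.node (.node (.node (.leaf 104865839) (.leaf 1178608303)) (.node (.leaf 641737007) (.leaf 1715495855))) (.node (.node (.leaf 373301423) (.leaf 1447035439)) (.node (.leaf 910172591) (.leaf 1983922991)))) (.node (.node (.node (.leaf 239083631) (.leaf 1312826095)) (.node (.leaf 775954799) (.leaf 1849713647))) (.node (.node (.leaf 507519215) (.leaf 1581253231)) (.node (.leaf 1044390383) (.leaf 2118140783)))))))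

/-- Part of a collection table. -/
def tblCo3_5_0 : Trie := (.node (.node (.node (.node (.node (.node (.leaf 32) (.leaf 16777888)) (.node (.leaf 8389024) (.leaf 25191200))) (.node (.node (.leaf 4194464) (.leaf 20980256)) (.node (.leaf 12591392) (.leaf 29385632)))) (.node (.node (.node (.leaf 2097248) (.leaf 18875104)) (.node (.leaf 10486240) (.leaf 27288416))) (.node (.node (.leaf 6291680) (.leaf 23077472)) (.node (.leaf 14688608) (.leaf 31482848))))) (.node (.node (.node (.node (.leaf 1048704) (.leaf 17834496)) (.node (.leaf 9445632) (.leaf 26239872))) (.node (.node (.leaf 5251072) (.leaf 22028928)) (.node (.leaf 13640064) (.leaf 30425856)))) (.node (.node (.node (.leaf 3276992) (.leaf 20062784)) (.node (.leaf 11673920) (.leaf 28468160))) (.node (.node (.leaf 7479360) (.leaf 24257216)) (.node (.leaf 15868352) (.leaf 32654144)))))) (.node (.node (.node (.node (.node (.leaf 48) (.leaf 16777904)) (.node (.leaf 8389040) (.leaf 25191216))) (.node (.node (.leaf 4194480) (.leaf 20980272)) (.node (.leaf 12591408) (.leaf 29385648)))) (.node (.node (.node (.leaf 2097264) (.leaf 18875120)) (.node (.leaf 10486256)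 (.leaf 27288432))) (.node (.node (.leaf 6291696) (.leaf 23077488)) (.node (.leaf 14688624) (.leaf 31482864))))) (.node (.node (.node (.node (.leaf 1048720) (.leaf 17834512)) (.node (.leaf 9445648) (.leaf 26239888))) (.node (.node (.leaf 5251088) (.leaf 22028944)) (.node (.leaf 13640080) (.leaf 30425872)))) (.node (.node (.node (.leaf 3277008) (.leaf 20062800)) (.node (.leaf 11673936) (.leaf 28468176))) (.node (.node (.leaf 7479376) (.leaf 24257232)) (.node (.leaf 15868368) (.leaf 32654160)))))))

/-- Part of a collection table. -/
def tblCo3_5_1 : Trie := (.node (.node (.node (.node (.node (.node (.leaf 33) (.leaf 16777889)) (.node (.leaf 8389025) (.leaf 25191201))) (.node (.node (.leaf 4194465) (.leaf 20980257)) (.node (.leaf 12591393) (.leaf 29385633)))) (.node (.node (.node (.leaf 2097249) (.leaf 18875105)) (.node (.leaf 10486241) (.leaf 27288417))) (.node (.node (.leaf 6291681) (.leaf 23077473)) (.node (.leaf 14688609) (.leaf 31482849))))) (.node (.node (.node (.node (.leaf 1048705) (.leaf 17834497)) (.node (.leaf 9445633) (.leaf 26239873))) (.node (.node (.leaf 5251073) (.leaf 22028929)) (.node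 (.leaf 13640065) (.leaf 30425857)))) (.node (.node (.node (.leaf 3276993) (.leaf 20062785)) (.node (.leaf 11673921) (.leaf 28468161))) (.node (.node (.leaf 7479361) (.leaf 24257217)) (.node (.leaf 15868353) (.leaf 32654145)))))) (.node (.node (.node (.node (.node (.leaf 49) (.leaf 16777905)) (.node (.leaf 8389041) (.leaf 25191217))) (.node (.node (.leaf 4194481) (.leaf 20980273)) (.node (.leaf 12591409) (.leaf 29385649)))) (.node (.node (.node (.leaf 2097265) (.leaf 18875121)) (.node (.leaf 10486257) (.leaf 27288433))) (.node (.node (.leaf 6291697) (.leaf 23077489)) (.node (.leaf 14688625) (.leaf 31482865))))) (.node (.node (.node (.node (.leaf 1048721) (.leaf 17834513)) (.node (.leaf 9445649) (.leaf 26239889))) (.node (.node (.leaf 5251089) (.leaf 22028945)) (.node (.leaf 13640081) (.leaf 30425873)))) (.node (.node (.node (.leaf 3277009) (.leaf 20062801)) (.node (.leaf 11673937) (.leaf 28468177))) (.node (.node (.leaf 7479377) (.leaf 24257233)) (.node (.leaf 15868369) (.leaf 32654161)))))))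

/-- Part of a collection table. -/
def tblCo3_5_2 : Trie := (.node (.node (.node (.node (.node (.node (.leaf 34) (.leaf 16777890)) (.node (.leaf 8389026) (.leaf 25191202))) (.node (.node (.leaf 4194466) (.leaf 20980258)) (.node (.leaf 12591394) (.leaf 29385634)))) (.node (.node (.node (.leaf 2097250) (.leaf 18875106)) (.node (.leaf 10486242) (.leaf 27288418))) (.node (.node (.leaf 6291682) (.leaf 23077474)) (.node (.leaf 14688610) (.leaf 31482850))))) (.node (.node (.node (.node (.leaf 1048706) (.leaf 17834498)) (.node (.leaf 9445634) (.leaf 26239874))) (.node (.node (.leaf 5251074) (.leaf 22028930)) (.node (.leaf 13640066) (.leaf 30425858)))) (.node (.node (.node (.leaf 3276994) (.leaf 20062786)) (.node (.leaf 11673922) (.leaf 28468162))) (.node (.node (.leaf 7479362) (.leaf 24257218)) (.node (.leaf 15868354) (.leaf 32654146)))))) (.node (.node (.node (.node (.node (.leaf 50) (.leaf 16777906)) (.node (.leaf 8389042) (.leaf 25191218))) (.node (.node (.leaf 4194482) (.leaf 20980274)) (.node (.leaf 12591410) (.leaf 29385650)))) (.node (.node (.node (.leaf 2097266) (.leaf 18875122)) (.node (.leaf 10486258)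 (.leaf 27288434))) (.node (.node (.leaf 6291698) (.leaf 23077490)) (.node (.leaf 14688626) (.leaf 31482866))))) (.node (.node (.node (.node (.leaf 1048722) (.leaf 17834514)) (.node (.leaf 9445650) (.leaf 26239890))) (.node (.node (.leaf 5251090) (.leaf 22028946)) (.node (.leaf 13640082) (.leaf 30425874)))) (.node (.node (.node (.leaf 3277010) (.leaf 20062802)) (.node (.leaf 11673938) (.leaf 28468178))) (.node (.node (.leaf 7479378) (.leaf 24257234)) (.node (.leaf 15868370) (.leaf 32654162)))))))

/-- Part of a collection table. -/
def tblCo3_5_3 : Trie := (.node (.node (.node (.node (.node (.node (.leaf 35) (.leaf 16777891)) (.node (.leaf 8389027) (.leaf 25191203))) (.node (.node (.leaf 4194467) (.leaf 20980259)) (.node (.leaf 12591395) (.leaf 29385635)))) (.node (.node (.node (.leaf 2097251) (.leaf 18875107)) (.node (.leaf 10486243) (.leaf 27288419))) (.node (.node (.leaf 6291683) (.leaf 23077475)) (.node (.leaf 14688611) (.leaf 31482851))))) (.node (.node (.node (.node (.leaf 1048707) (.leaf 17834499)) (.node (.leaf 9445635) (.leaf 26239875))) (.node (.node (.leaf 5251075) (.leaf 22028931)) (.node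 (.leaf 13640067) (.leaf 30425859)))) (.node (.node (.node (.leaf 3276995) (.leaf 20062787)) (.node (.leaf 11673923) (.leaf 28468163))) (.node (.node (.leaf 7479363) (.leaf 24257219)) (.node (.leaf 15868355) (.leaf 32654147)))))) (.node (.node (.node (.node (.node (.leaf 51) (.leaf 16777907)) (.node (.leaf 8389043) (.leaf 25191219))) (.node (.node (.leaf 4194483) (.leaf 20980275)) (.node (.leaf 12591411) (.leaf 29385651)))) (.node (.node (.node (.leaf 2097267) (.leaf 18875123)) (.node (.leaf 10486259) (.leaf 27288435))) (.node (.node (.leaf 6291699) (.leaf 23077491)) (.node (.leaf 14688627) (.leaf 31482867))))) (.node (.node (.node (.node (.leaf 1048723) (.leaf 17834515)) (.node (.leaf 9445651) (.leaf 26239891))) (.node (.node (.leaf 5251091) (.leaf 22028947)) (.node (.leaf 13640083) (.leaf 30425875)))) (.node (.node (.node (.leaf 3277011) (.leaf 20062803)) (.node (.leaf 11673939) (.leaf 28468179))) (.node (.node (.leaf 7479379) (.leaf 24257235)) (.node (.leaf 15868371) (.leaf 32654163)))))))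

/-- Part of a collection table. -/
def tblCo3_5_4 : Trie := (.node (.node (.node (.node (.node (.node (.leaf 36) (.leaf 16777892)) (.node (.leaf 8389028) (.leaf 25191204))) (.node (.node (.leaf 4194468) (.leaf 20980260)) (.node (.leaf 12591396) (.leaf 29385636)))) (.node (.node (.node (.leaf 2097252) (.leaf 18875108)) (.node (.leaf 10486244) (.leaf 27288420))) (.node (.node (.leaf 6291684) (.leaf 23077476)) (.node (.leaf 14688612) (.leaf 31482852))))) (.node (.node (.node (.node (.leaf 1048708) (.leaf 17834500)) (.node (.leaf 9445636) (.leaf 26239876))) (.node (.node (.leaf 5251076) (.leaf 22028932)) (.node (.leaf 13640068) (.leaf 30425860)))) (.node (.node (.node (.leaf 3276996) (.leaf 20062788)) (.node (.leaf 11673924) (.leaf 28468164))) (.node (.node (.leaf 7479364) (.leaf 24257220)) (.node (.leaf 15868356) (.leaf 32654148)))))) (.node (.node (.node (.node (.node (.leaf 52) (.leaf 16777908)) (.node (.leaf 8389044) (.leaf 25191220))) (.node (.node (.leaf 4194484) (.leaf 20980276)) (.node (.leaf 12591412) (.leaf 29385652)))) (.node (.node (.node (.leaf 2097268) (.leaf 18875124)) (.node (.leaf 10486260)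 (.leaf 27288436))) (.node (.node (.leaf 6291700) (.leaf 23077492)) (.node (.leaf 14688628) (.leaf 31482868))))) (.node (.node (.node (.node (.leaf 1048724) (.leaf 17834516)) (.node (.leaf 9445652) (.leaf 26239892))) (.node (.node (.leaf 5251092) (.leaf 22028948)) (.node (.leaf 13640084) (.leaf 30425876)))) (.node (.node (.node (.leaf 3277012) (.leaf 20062804)) (.node (.leaf 11673940) (.leaf 28468180))) (.node (.node (.leaf 7479380) (.leaf 24257236)) (.node (.leaf 15868372) (.leaf 32654164)))))))

/-- Part of a collection table. -/
def tblCo3_5_5 : Trie := (.node (.node (.node (.node (.node (.node (.leaf 37) (.leaf 16777893)) (.node (.leaf 8389029) (.leaf 25191205))) (.node (.node (.leaf 4194469) (.leaf 20980261)) (.node (.leaf 12591397) (.leaf 29385637)))) (.node (.node (.node (.leaf 2097253) (.leaf 18875109)) (.node (.leaf 10486245) (.leaf 27288421))) (.node (.node (.leaf 6291685) (.leaf 23077477)) (.node (.leaf 14688613) (.leaf 31482853))))) (.node (.node (.node (.node (.leaf 1048709) (.leaf 17834501)) (.node (.leaf 9445637) (.leaf 26239877))) (.node (.node (.leaf 5251077) (.leaf 22028933)) (.node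 (.leaf 13640069) (.leaf 30425861)))) (.node (.node (.node (.leaf 3276997) (.leaf 20062789)) (.node (.leaf 11673925) (.leaf 28468165))) (.node (.node (.leaf 7479365) (.leaf 24257221)) (.node (.leaf 15868357) (.leaf 32654149)))))) (.node (.node (.node (.node (.node (.leaf 53) (.leaf 16777909)) (.node (.leaf 8389045) (.leaf 25191221))) (.node (.node (.leaf 4194485) (.leaf 20980277)) (.node (.leaf 12591413) (.leaf 29385653)))) (.node (.node (.node (.leaf 2097269) (.leaf 18875125)) (.node (.leaf 10486261) (.leaf 27288437))) (.node (.node (.leaf 6291701) (.leaf 23077493)) (.node (.leaf 14688629) (.leaf 31482869))))) (.node (.node (.node (.node (.leaf 1048725) (.leaf 17834517)) (.node (.leaf 9445653) (.leaf 26239893))) (.node (.node (.leaf 5251093) (.leaf 22028949)) (.node (.leaf 13640085) (.leaf 30425877)))) (.node (.node (.node (.leaf 3277013) (.leaf 20062805)) (.node (.leaf 11673941) (.leaf 28468181))) (.node (.node (.leaf 7479381) (.leaf 24257237)) (.node (.leaf 15868373) (.leaf 32654165)))))))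

/-- Part of a collection table. -/
def tblCo3_5_6 : Trie := (.node (.node (.node (.node (.node (.node (.leaf 38) (.leaf 16777894)) (.node (.leaf 8389030) (.leaf 25191206))) (.node (.node (.leaf 4194470) (.leaf 20980262)) (.node (.leaf 12591398) (.leaf 29385638)))) (.node (.node (.node (.leaf 2097254) (.leaf 18875110)) (.node (.leaf 10486246) (.leaf 27288422))) (.node (.node (.leaf 6291686) (.leaf 23077478)) (.node (.leaf 14688614) (.leaf 31482854))))) (.node (.node (.node (.node (.leaf 1048710) (.leaf 17834502)) (.node (.leaf 9445638) (.leaf 26239878))) (.node (.node (.leaf 5251078) (.leaf 22028934)) (.node (.leaf 13640070) (.leaf 30425862)))) (.node (.node (.node (.leaf 3276998) (.leaf 20062790)) (.node (.leaf 11673926) (.leaf 28468166))) (.node (.node (.leaf 7479366) (.leaf 24257222)) (.node (.leaf 15868358) (.leaf 32654150)))))) (.node (.node (.node (.node (.node (.leaf 54) (.leaf 16777910)) (.node (.leaf 8389046) (.leaf 25191222))) (.node (.node (.leaf 4194486) (.leaf 20980278)) (.node (.leaf 12591414) (.leaf 29385654)))) (.node (.node (.node (.leaf 2097270) (.leaf 18875126)) (.node (.leaf 10486262)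 (.leaf 27288438))) (.node (.node (.leaf 6291702) (.leaf 23077494)) (.node (.leaf 14688630) (.leaf 31482870))))) (.node (.node (.node (.node (.leaf 1048726) (.leaf 17834518)) (.node (.leaf 9445654) (.leaf 26239894))) (.node (.node (.leaf 5251094) (.leaf 22028950)) (.node (.leaf 13640086) (.leaf 30425878)))) (.node (.node (.node (.leaf 3277014) (.leaf 20062806)) (.node (.leaf 11673942) (.leaf 28468182))) (.node (.node (.leaf 7479382) (.leaf 24257238)) (.node (.leaf 15868374) (.leaf 32654166)))))))

/-- Part of a collection table. -/
def tblCo3_5_7 : Trie := (.node (.node (.node (.node (.node (.node (.leaf 39) (.leaf 16777895)) (.node (.leaf 8389031) (.leaf 25191207))) (.node (.node (.leaf 4194471) (.leaf 20980263)) (.node (.leaf 12591399) (.leaf 29385639)))) (.node (.node (.node (.leaf 2097255) (.leaf 18875111)) (.node (.leaf 10486247) (.leaf 27288423))) (.node (.node (.leaf 6291687) (.leaf 23077479)) (.node (.leaf 14688615) (.leaf 31482855))))) (.node (.node (.node (.node (.leaf 1048711) (.leaf 17834503)) (.node (.leaf 9445639) (.leaf 26239879))) (.node (.node (.leaf 5251079) (.leaf 22028935)) (.node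 (.leaf 13640071) (.leaf 30425863)))) (.node (.node (.node (.leaf 3276999) (.leaf 20062791)) (.node (.leaf 11673927) (.leaf 28468167))) (.node (.node (.leaf 7479367) (.leaf 24257223)) (.node (.leaf 15868359) (.leaf 32654151)))))) (.node (.node (.node (.node (.node (.leaf 55) (.leaf 16777911)) (.node (.leaf 8389047) (.leaf 25191223))) (.node (.node (.leaf 4194487) (.leaf 20980279)) (.node (.leaf 12591415) (.leaf 29385655)))) (.node (.node (.node (.leaf 2097271) (.leaf 18875127)) (.node (.leaf 10486263) (.leaf 27288439))) (.node (.node (.leaf 6291703) (.leaf 23077495)) (.node (.leaf 14688631) (.leaf 31482871))))) (.node (.node (.node (.node (.leaf 1048727) (.leaf 17834519)) (.node (.leaf 9445655) (.leaf 26239895))) (.node (.node (.leaf 5251095) (.leaf 22028951)) (.node (.leaf 13640087) (.leaf 30425879)))) (.node (.node (.node (.leaf 3277015) (.leaf 20062807)) (.node (.leaf 11673943) (.leaf 28468183))) (.node (.node (.leaf 7479383) (.leaf 24257239)) (.node (.leaf 15868375) (.leaf 32654167)))))))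

/-- Part of a collection table. -/
def tblCo3_5_8 : Trie := (.node (.node (.node (.node (.node (.node (.leaf 40) (.leaf 16777896)) (.node (.leaf 8389032) (.leaf 25191208))) (.node (.node (.leaf 4194472) (.leaf 20980264)) (.node (.leaf 12591400) (.leaf 29385640)))) (.node (.node (.node (.leaf 2097256) (.leaf 18875112)) (.node (.leaf 10486248) (.leaf 27288424))) (.node (.node (.leaf 6291688) (.leaf 23077480)) (.node (.leaf 14688616) (.leaf 31482856))))) (.node (.node (.node (.node (.leaf 1048712) (.leaf 17834504)) (.node (.leaf 9445640) (.leaf 26239880))) (.node (.node (.leaf 5251080) (.leaf 22028936)) (.node (.leaf 13640072) (.leaf 30425864)))) (.node (.node (.node (.leaf 3277000) (.leaf 20062792)) (.node (.leaf 11673928) (.leaf 28468168))) (.node (.node (.leaf 7479368) (.leaf 24257224)) (.node (.leaf 15868360) (.leaf 32654152)))))) (.node (.node (.node (.node (.node (.leaf 56) (.leaf 16777912)) (.node (.leaf 8389048) (.leaf 25191224))) (.node (.node (.leaf 4194488) (.leaf 20980280)) (.node (.leaf 12591416) (.leaf 29385656)))) (.node (.node (.node (.leaf 2097272) (.leaf 18875128)) (.node (.leaf 10486264)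 (.leaf 27288440))) (.node (.node (.leaf 6291704) (.leaf 23077496)) (.node (.leaf 14688632) (.leaf 31482872))))) (.node (.node (.node (.node (.leaf 1048728) (.leaf 17834520)) (.node (.leaf 9445656) (.leaf 26239896))) (.node (.node (.leaf 5251096) (.leaf 22028952)) (.node (.leaf 13640088) (.leaf 30425880)))) (.node (.node (.node (.leaf 3277016) (.leaf 20062808)) (.node (.leaf 11673944) (.leaf 28468184))) (.node (.node (.leaf 7479384) (.leaf 24257240)) (.node (.leaf 15868376) (.leaf 32654168)))))))

/-- Part of a collection table. -/
def tblCo3_5_9 : Trie := (.node (.node (.node (.node (.node (.node (.leaf 41) (.leaf 16777897)) (.node (.leaf 8389033) (.leaf 25191209))) (.node (.node (.leaf 4194473) (.leaf 20980265)) (.node (.leaf 12591401) (.leaf 29385641)))) (.node (.node (.node (.leaf 2097257) (.leaf 18875113)) (.node (.leaf 10486249) (.leaf 27288425))) (.node (.node (.leaf 6291689) (.leaf 23077481)) (.node (.leaf 14688617) (.leaf 31482857))))) (.node (.node (.node (.node (.leaf 1048713) (.leaf 17834505)) (.node (.leaf 9445641) (.leaf 26239881))) (.node (.node (.leaf 5251081) (.leaf 22028937)) (.node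 (.leaf 13640073) (.leaf 30425865)))) (.node (.node (.node (.leaf 3277001) (.leaf 20062793)) (.node (.leaf 11673929) (.leaf 28468169))) (.node (.node (.leaf 7479369) (.leaf 24257225)) (.node (.leaf 15868361) (.leaf 32654153)))))) (.node (.node (.node (.node (.node (.leaf 57) (.leaf 16777913)) (.node (.leaf 8389049) (.leaf 25191225))) (.node (.node (.leaf 4194489) (.leaf 20980281)) (.node (.leaf 12591417) (.leaf 29385657)))) (.node (.node (.node (.leaf 2097273) (.leaf 18875129)) (.node (.leaf 10486265) (.leaf 27288441))) (.node (.node (.leaf 6291705) (.leaf 23077497)) (.node (.leaf 14688633) (.leaf 31482873))))) (.node (.node (.node (.node (.leaf 1048729) (.leaf 17834521)) (.node (.leaf 9445657) (.leaf 26239897))) (.node (.node (.leaf 5251097) (.leaf 22028953)) (.node (.leaf 13640089) (.leaf 30425881)))) (.node (.node (.node (.leaf 3277017) (.leaf 20062809)) (.node (.leaf 11673945) (.leaf 28468185))) (.node (.node (.leaf 7479385) (.leaf 24257241)) (.node (.leaf 15868377) (.leaf 32654169)))))))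

/-- Part of a collection table. -/
def tblCo3_5_10 : Trie := (.node (.node (.node (.node (.node (.node (.leaf 42) (.leaf 16777898)) (.node (.leaf 8389034) (.leaf 25191210))) (.node (.node (.leaf 4194474) (.leaf 20980266)) (.node (.leaf 12591402) (.leaf 29385642)))) (.node (.node (.node (.leaf 2097258) (.leaf 18875114)) (.node (.leaf 10486250) (.leaf 27288426))) (.node (.node (.leaf 6291690) (.leaf 23077482)) (.node (.leaf 14688618) (.leaf 31482858))))) (.node (.node (.node (.node (.leaf 1048714) (.leaf 17834506)) (.node (.leaf 9445642) (.leaf 26239882))) (.node (.node (.leaf 5251082) (.leaf 22028938)) (.node (.leaf 13640074) (.leaf 30425866)))) (.node (.node (.node (.leaf 3277002) (.leaf 20062794)) (.node (.leaf 11673930) (.leaf 28468170))) (.node (.node (.leaf 7479370) (.leaf 24257226)) (.node (.leaf 15868362) (.leaf 32654154)))))) (.node (.node (.node (.node (.node (.leaf 58) (.leaf 16777914)) (.node (.leaf 8389050) (.leaf 25191226))) (.node (.node (.leaf 4194490) (.leaf 20980282)) (.node (.leaf 12591418) (.leaf 29385658)))) (.node (.node (.node (.leaf 2097274) (.leaf 18875130)) (.node (.leaf 10486266)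 (.leaf 27288442))) (.node (.node (.leaf 6291706) (.leaf 23077498)) (.node (.leaf 14688634) (.leaf 31482874))))) (.node (.node (.node (.node (.leaf 1048730) (.leaf 17834522)) (.node (.leaf 9445658) (.leaf 26239898))) (.node (.node (.leaf 5251098) (.leaf 22028954)) (.node (.leaf 13640090) (.leaf 30425882)))) (.node (.node (.node (.leaf 3277018) (.leaf 20062810)) (.node (.leaf 11673946) (.leaf 28468186))) (.node (.node (.leaf 7479386) (.leaf 24257242)) (.node (.leaf 15868378) (.leaf 32654170)))))))

/-- Part of a collection table. -/
def tblCo3_5_11 : Trie := (.node (.node (.node (.node (.node (.node (.leaf 43) (.leaf 16777899)) (.node (.leaf 8389035) (.leaf 25191211))) (.node (.node (.leaf 4194475) (.leaf 20980267)) (.node (.leaf 12591403) (.leaf 29385643)))) (.node (.node (.node (.leaf 2097259) (.leaf 18875115)) (.node (.leaf 10486251) (.leaf 27288427))) (.node (.node (.leaf 6291691) (.leaf 23077483)) (.node (.leaf 14688619) (.leaf 31482859))))) (.node (.node (.node (.node (.leaf 1048715) (.leaf 17834507)) (.node (.leaf 9445643) (.leaf 26239883))) (.node (.node (.leaf 5251083) (.leaf 22028939)) (.node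 (.leaf 13640075) (.leaf 30425867)))) (.node (.node (.node (.leaf 3277003) (.leaf 20062795)) (.node (.leaf 11673931) (.leaf 28468171))) (.node (.node (.leaf 7479371) (.leaf 24257227)) (.node (.leaf 15868363) (.leaf 32654155)))))) (.node (.node (.node (.node (.node (.leaf 59) (.leaf 16777915)) (.node (.leaf 8389051) (.leaf 25191227))) (.node (.node (.leaf 4194491) (.leaf 20980283)) (.node (.leaf 12591419) (.leaf 29385659)))) (.node (.node (.node (.leaf 2097275) (.leaf 18875131)) (.node (.leaf 10486267) (.leaf 27288443))) (.node (.node (.leaf 6291707) (.leaf 23077499)) (.node (.leaf 14688635) (.leaf 31482875))))) (.node (.node (.node (.node (.leaf 1048731) (.leaf 17834523)) (.node (.leaf 9445659) (.leaf 26239899))) (.node (.node (.leaf 5251099) (.leaf 22028955)) (.node (.leaf 13640091) (.leaf 30425883)))) (.node (.node (.node (.leaf 3277019) (.leaf 20062811)) (.node (.leaf 11673947) (.leaf 28468187))) (.node (.node (.leaf 7479387) (.leaf 24257243)) (.node (.leaf 15868379) (.leaf 32654171)))))))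

/-- Part of a collection table. -/
def tblCo3_5_12 : Trie := (.node (.node (.node (.node (.node (.node (.leaf 44) (.leaf 16777900)) (.node (.leaf 8389036) (.leaf 25191212))) (.node (.node (.leaf 4194476) (.leaf 20980268)) (.node (.leaf 12591404) (.leaf 29385644)))) (.node (.node (.node (.leaf 2097260) (.leaf 18875116)) (.node (.leaf 10486252) (.leaf 27288428))) (.node (.node (.leaf 6291692) (.leaf 23077484)) (.node (.leaf 14688620) (.leaf 31482860))))) (.node (.node (.node (.node (.leaf 1048716) (.leaf 17834508)) (.node (.leaf 9445644) (.leaf 26239884))) (.node (.node (.leaf 5251084) (.leaf 22028940)) (.node (.leaf 13640076) (.leaf 30425868)))) (.node (.node (.node (.leaf 3277004) (.leaf 20062796)) (.node (.leaf 11673932) (.leaf 28468172))) (.node (.node (.leaf 7479372) (.leaf 24257228)) (.node (.leaf 15868364) (.leaf 32654156)))))) (.node (.node (.node (.node (.node (.leaf 60) (.leaf 16777916)) (.node (.leaf 8389052) (.leaf 25191228))) (.node (.node (.leaf 4194492) (.leaf 20980284)) (.node (.leaf 12591420) (.leaf 29385660)))) (.node (.node (.node (.leaf 2097276) (.leaf 18875132)) (.node (.leaf 10486268)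 (.leaf 27288444))) (.node (.node (.leaf 6291708) (.leaf 23077500)) (.node (.leaf 14688636) (.leaf 31482876))))) (.node (.node (.node (.node (.leaf 1048732) (.leaf 17834524)) (.node (.leaf 9445660) (.leaf 26239900))) (.node (.node (.leaf 5251100) (.leaf 22028956)) (.node (.leaf 13640092) (.leaf 30425884)))) (.node (.node (.node (.leaf 3277020) (.leaf 20062812)) (.node (.leaf 11673948) (.leaf 28468188))) (.node (.node (.leaf 7479388) (.leaf 24257244)) (.node (.leaf 15868380) (.leaf 32654172)))))))

/-- Part of a collection table. -/
def tblCo3_5_13 : Trie := (.node (.node (.node (.node (.node (.node (.leaf 45) (.leaf 16777901)) (.node (.leaf 8389037) (.leaf 25191213))) (.node (.node (.leaf 4194477) (.leaf 20980269)) (.node (.leaf 12591405) (.leaf 29385645)))) (.node (.node (.node (.leaf 2097261) (.leaf 18875117)) (.node (.leaf 10486253) (.leaf 27288429))) (.node (.node (.leaf 6291693) (.leaf 23077485)) (.node (.leaf 14688621) (.leaf 31482861))))) (.node (.node (.node (.node (.leaf 1048717) (.leaf 17834509)) (.node (.leaf 9445645) (.leaf 26239885))) (.node (.node (.leaf 5251085) (.leaf 22028941)) (.node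 (.leaf 13640077) (.leaf 30425869)))) (.node (.node (.node (.leaf 3277005) (.leaf 20062797)) (.node (.leaf 11673933) (.leaf 28468173))) (.node (.node (.leaf 7479373) (.leaf 24257229)) (.node (.leaf 15868365) (.leaf 32654157)))))) (.node (.node (.node (.node (.node (.leaf 61) (.leaf 16777917)) (.node (.leaf 8389053) (.leaf 25191229))) (.node (.node (.leaf 4194493) (.leaf 20980285)) (.node (.leaf 12591421) (.leaf 29385661)))) (.node (.node (.node (.leaf 2097277) (.leaf 18875133)) (.node (.leaf 10486269) (.leaf 27288445))) (.node (.node (.leaf 6291709) (.leaf 23077501)) (.node (.leaf 14688637) (.leaf 31482877))))) (.node (.node (.node (.node (.leaf 1048733) (.leaf 17834525)) (.node (.leaf 9445661) (.leaf 26239901))) (.node (.node (.leaf 5251101) (.leaf 22028957)) (.node (.leaf 13640093) (.leaf 30425885)))) (.node (.node (.node (.leaf 3277021) (.leaf 20062813)) (.node (.leaf 11673949) (.leaf 28468189))) (.node (.node (.leaf 7479389) (.leaf 24257245)) (.node (.leaf 15868381) (.leaf 32654173)))))))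

/-- Part of a collection table. -/
def tblCo3_5_14 : Trie := (.node (.node (.node (.node (.node (.node (.leaf 46) (.leaf 16777902)) (.node (.leaf 8389038) (.leaf 25191214))) (.node (.node (.leaf 4194478) (.leaf 20980270)) (.node (.leaf 12591406) (.leaf 29385646)))) (.node (.node (.node (.leaf 2097262) (.leaf 18875118)) (.node (.leaf 10486254) (.leaf 27288430))) (.node (.node (.leaf 6291694) (.leaf 23077486)) (.node (.leaf 14688622) (.leaf 31482862))))) (.node (.node (.node (.node (.leaf 1048718) (.leaf 17834510)) (.node (.leaf 9445646) (.leaf 26239886))) (.node (.node (.leaf 5251086) (.leaf 22028942)) (.node (.leaf 13640078) (.leaf 30425870)))) (.node (.node (.node (.leaf 3277006) (.leaf 20062798)) (.node (.leaf 11673934) (.leaf 28468174))) (.node (.node (.leaf 7479374) (.leaf 24257230)) (.node (.leaf 15868366) (.leaf 32654158)))))) (.node (.node (.node (.node (.node (.leaf 62) (.leaf 16777918)) (.node (.leaf 8389054) (.leaf 25191230))) (.node (.node (.leaf 4194494) (.leaf 20980286)) (.node (.leaf 12591422) (.leaf 29385662)))) (.node (.node (.node (.leaf 2097278) (.leaf 18875134)) (.node (.leaf 10486270)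 (.leaf 27288446))) (.node (.node (.leaf 6291710) (.leaf 23077502)) (.node (.leaf 14688638) (.leaf 31482878))))) (.node (.node (.node (.node (.leaf 1048734) (.leaf 17834526)) (.node (.leaf 9445662) (.leaf 26239902))) (.node (.node (.leaf 5251102) (.leaf 22028958)) (.node (.leaf 13640094) (.leaf 30425886)))) (.node (.node (.node (.leaf 3277022) (.leaf 20062814)) (.node (.leaf 11673950) (.leaf 28468190))) (.node (.node (.leaf 7479390) (.leaf 24257246)) (.node (.leaf 15868382) (.leaf 32654174)))))))

/-- Part of a collection table. -/
def tblCo3_5_15 : Trie := (.node (.node (.node (.node (.node (.node (.leaf 47) (.leaf 16777903)) (.node (.leaf 8389039) (.leaf 25191215))) (.node (.node (.leaf 4194479) (.leaf 20980271)) (.node (.leaf 12591407) (.leaf 29385647)))) (.node (.node (.node (.leaf 2097263) (.leaf 18875119)) (.node (.leaf 10486255) (.leaf 27288431))) (.node (.node (.leaf 6291695) (.leaf 23077487)) (.node (.leaf 14688623) (.leaf 31482863))))) (.node (.node (.node (.node (.leaf 1048719) (.leaf 17834511)) (.node (.leaf 9445647) (.leaf 26239887))) (.node (.node (.leaf 5251087) (.leaf 22028943)) (.node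 (.leaf 13640079) (.leaf 30425871)))) (.node (.node (.node (.leaf 3277007) (.leaf 20062799)) (.node (.leaf 11673935) (.leaf 28468175))) (.node (.node (.leaf 7479375) (.leaf 24257231)) (.node (.leaf 15868367) (.leaf 32654159)))))) (.node (.node (.node (.node (.node (.leaf 63) (.leaf 16777919)) (.node (.leaf 8389055) (.leaf 25191231))) (.node (.node (.leaf 4194495) (.leaf 20980287)) (.node (.leaf 12591423) (.leaf 29385663)))) (.node (.node (.node (.leaf 2097279) (.leaf 18875135)) (.node (.leaf 10486271) (.leaf 27288447))) (.node (.node (.leaf 6291711) (.leaf 23077503)) (.node (.leaf 14688639) (.leaf 31482879))))) (.node (.node (.node (.node (.leaf 1048735) (.leaf 17834527)) (.node (.leaf 9445663) (.leaf 26239903))) (.node (.node (.leaf 5251103) (.leaf 22028959)) (.node (.leaf 13640095) (.leaf 30425887)))) (.node (.node (.node (.leaf 3277023) (.leaf 20062815)) (.node (.leaf 11673951) (.leaf 28468191))) (.node (.node (.leaf 7479391) (.leaf 24257247)) (.node (.leaf 15868383) (.leaf 32654175)))))))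

/-- Part of a collection table. -/
def tblCo3_6_0 : Trie := (.node (.node (.node (.node (.node (.node (.leaf 64) (.leaf 524992)) (.node (.leaf 262464) (.leaf 803776))) (.node (.node (.leaf 131264) (.leaf 664128)) (.node (.leaf 393664) (.leaf 942912)))) (.node (.node (.node (.leaf 65664) (.leaf 598528)) (.node (.leaf 328064) (.leaf 877312))) (.node (.node (.leaf 204800) (.leaf 729728)) (.node (.leaf 467200) (.leaf 1008512))))) (.node (.node (.node (.node (.leaf 96) (.leaf 525024)) (.node (.leaf 262496) (.leaf 803808))) (.node (.node (.leaf 131296) (.leaf 664160)) (.node (.leaf 393696) (.leaf 942944)))) (.node (.node (.node (.leaf 65696) (.leaf 598560)) (.node (.leaf 328096) (.leaf 877344))) (.node (.node (.leaf 204832) (.leaf 729760)) (.node (.leaf 467232) (.leaf 1008544)))))) (.node (.node (.node (.node (.node (.leaf 80) (.leaf 525008)) (.node (.leaf 262480) (.leaf 803792))) (.node (.node (.leaf 131280) (.leaf 664144)) (.node (.leaf 393680) (.leaf 942928)))) (.node (.node (.node (.leaf 65680) (.leaf 598544)) (.node (.leaf 328080) (.leaf 877328))) (.node (.node (.leaf 204816) (.leaf 729744)) (.node (.leaf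 467216) (.leaf 1008528))))) (.node (.node (.node (.node (.leaf 112) (.leaf 525040)) (.node (.leaf 262512) (.leaf 803824))) (.node (.node (.leaf 131312) (.leaf 664176)) (.node (.leaf 393712) (.leaf 942960)))) (.node (.node (.node (.leaf 65712) (.leaf 598576)) (.node (.leaf 328112) (.leaf 877360))) (.node (.node (.leaf 204848) (.leaf 729776)) (.node (.leaf 467248) (.leaf 1008560)))))))

/-- Part of a collection table. -/
def tblCo3_6_1 : Trie := (.node (.node (.node (.node (.node (.node (.leaf 65) (.leaf 524993)) (.node (.leaf 262465) (.leaf 803777))) (.node (.node (.leaf 131265) (.leaf 664129)) (.node (.leaf 393665) (.leaf 942913)))) (.node (.node (.node (.leaf 65665) (.leaf 598529)) (.node (.leaf 328065) (.leaf 877313))) (.node (.node (.leaf 204801) (.leaf 729729)) (.node (.leaf 467201) (.leaf 1008513))))) (.node (.node (.node (.node (.leaf 97) (.leaf 525025)) (.node (.leaf 262497) (.leaf 803809))) (.node (.node (.leaf 131297) (.leaf 664161)) (.node (.leaf 393697) (.leaf 942945)))) (.node (.node (.node (.leaf 65697) (.leaf 598561)) (.node (.leaf 328097) (.leaf 877345))) (.node (.node (.leaf 204833) (.leaf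 729761)) (.node (.leaf 467233) (.leaf 1008545)))))) (.node (.node (.node (.node (.node (.leaf 81) (.leaf 525009)) (.node (.leaf 262481) (.leaf 803793))) (.node (.node (.leaf 131281) (.leaf 664145)) (.node (.leaf 393681) (.leaf 942929)))) (.node (.node (.node (.leaf 65681) (.leaf 598545)) (.node (.leaf 328081) (.leaf 877329))) (.node (.node (.leaf 204817) (.leaf 729745)) (.node (.leaf 467217) (.leaf 1008529))))) (.node (.node (.node (.node (.leaf 113) (.leaf 525041)) (.node (.leaf 262513) (.leaf 803825))) (.node (.node (.leaf 131313) (.leaf 664177)) (.node (.leaf 393713) (.leaf 942961)))) (.node (.node (.node (.leaf 65713) (.leaf 598577)) (.node (.leaf 328113) (.leaf 877361))) (.node (.node (.leaf 204849) (.leaf 729777)) (.node (.leaf 467249) (.leaf 1008561)))))))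

/-- Part of a collection table. -/
def tblCo3_6_2 : Trie := (.node (.node (.node (.node (.node (.node (.leaf 66) (.leaf 524994)) (.node (.leaf 262466) (.leaf 803778))) (.node (.node (.leaf 131266) (.leaf 664130)) (.node (.leaf 393666) (.leaf 942914)))) (.node (.node (.node (.leaf 65666) (.leaf 598530)) (.node (.leaf 328066) (.leaf 877314))) (.node (.node (.leaf 204802) (.leaf 729730)) (.node (.leaf 467202) (.leaf 1008514))))) (.node (.node (.node (.node (.leaf 98) (.leaf 525026)) (.node (.leaf 262498) (.leaf 803810))) (.node (.node (.leaf 131298) (.leaf 664162)) (.node (.leaf 393698) (.leaf 942946)))) (.node (.node (.node (.leaf 65698) (.leaf 598562)) (.node (.leaf 328098) (.leaf 877346))) (.node (.node (.leaf 204834) (.leaf 729762)) (.node (.leaf 467234) (.leaf 1008546)))))) (.node (.node (.node (.node (.node (.leaf 82) (.leaf 525010)) (.node (.leaf 262482) (.leaf 803794))) (.node (.node (.leaf 131282) (.leaf 664146)) (.node (.leaf 393682) (.leaf 942930)))) (.node (.node (.node (.leaf 65682) (.leaf 598546)) (.node (.leaf 328082) (.leaf 877330))) (.node (.node (.leaf 204818) (.leaf 729746)) (.node (.leaf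 467218) (.leaf 1008530))))) (.node (.node (.node (.node (.leaf 114) (.leaf 525042)) (.node (.leaf 262514) (.leaf 803826))) (.node (.node (.leaf 131314) (.leaf 664178)) (.node (.leaf 393714) (.leaf 942962)))) (.node (.node (.node (.leaf 65714) (.leaf 598578)) (.node (.leaf 328114) (.leaf 877362))) (.node (.node (.leaf 204850) (.leaf 729778)) (.node (.leaf 467250) (.leaf 1008562)))))))

/-- Part of a collection table. -/
def tblCo3_6_3 : Trie := (.node (.node (.node (.node (.node (.node (.leaf 67) (.leaf 524995)) (.node (.leaf 262467) (.leaf 803779))) (.node (.node (.leaf 131267) (.leaf 664131)) (.node (.leaf 393667) (.leaf 942915)))) (.node (.node (.node (.leaf 65667) (.leaf 598531)) (.node (.leaf 328067) (.leaf 877315))) (.node (.node (.leaf 204803) (.leaf 729731)) (.node (.leaf 467203) (.leaf 1008515))))) (.node (.node (.node (.node (.leaf 99) (.leaf 525027)) (.node (.leaf 262499) (.leaf 803811))) (.node (.node (.leaf 131299) (.leaf 664163)) (.node (.leaf 393699) (.leaf 942947)))) (.node (.node (.node (.leaf 65699) (.leaf 598563)) (.node (.leaf 328099) (.leaf 877347))) (.node (.node (.leaf 204835) (.leaf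 729763)) (.node (.leaf 467235) (.leaf 1008547)))))) (.node (.node (.node (.node (.node (.leaf 83) (.leaf 525011)) (.node (.leaf 262483) (.leaf 803795))) (.node (.node (.leaf 131283) (.leaf 664147)) (.node (.leaf 393683) (.leaf 942931)))) (.node (.node (.node (.leaf 65683) (.leaf 598547)) (.node (.leaf 328083) (.leaf 877331))) (.node (.node (.leaf 204819) (.leaf 729747)) (.node (.leaf 467219) (.leaf 1008531))))) (.node (.node (.node (.node (.leaf 115) (.leaf 525043)) (.node (.leaf 262515) (.leaf 803827))) (.node (.node (.leaf 131315) (.leaf 664179)) (.node (.leaf 393715) (.leaf 942963)))) (.node (.node (.node (.leaf 65715) (.leaf 598579)) (.node (.leaf 328115) (.leaf 877363))) (.node (.node (.leaf 204851) (.leaf 729779)) (.node (.leaf 467251) (.leaf 1008563)))))))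

/-- Part of a collection table. -/
def tblCo3_6_4 : Trie := (.node (.node (.node (.node (.node (.node (.leaf 68) (.leaf 524996)) (.node (.leaf 262468) (.leaf 803780))) (.node (.node (.leaf 131268) (.leaf 664132)) (.node (.leaf 393668) (.leaf 942916)))) (.node (.node (.node (.leaf 65668) (.leaf 598532)) (.node (.leaf 328068) (.leaf 877316))) (.node (.node (.leaf 204804) (.leaf 729732)) (.node (.leaf 467204) (.leaf 1008516))))) (.node (.node (.node (.node (.leaf 100) (.leaf 525028)) (.node (.leaf 262500) (.leaf 803812))) (.node (.node (.leaf 131300) (.leaf 664164)) (.node (.leaf 393700) (.leaf 942948)))) (.node (.node (.node (.leaf 65700) (.leaf 598564)) (.node (.leaf 328100) (.leaf 877348))) (.node (.node (.leaf 204836) (.leaf 729764)) (.node (.leaf 467236) (.leaf 1008548)))))) (.node (.node (.node (.node (.node (.leaf 84) (.leaf 525012)) (.node (.leaf 262484) (.leaf 803796))) (.node (.node (.leaf 131284) (.leaf 664148)) (.node (.leaf 393684) (.leaf 942932)))) (.node (.node (.node (.leaf 65684) (.leaf 598548)) (.node (.leaf 328084) (.leaf 877332))) (.node (.node (.leaf 204820) (.leaf 729748)) (.node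 (.leaf 467220) (.leaf 1008532))))) (.node (.node (.node (.node (.leaf 116) (.leaf 525044)) (.node (.leaf 262516) (.leaf 803828))) (.node (.node (.leaf 131316) (.leaf 664180)) (.node (.leaf 393716) (.leaf 942964)))) (.node (.node (.node (.leaf 65716) (.leaf 598580)) (.node (.leaf 328116) (.leaf 877364))) (.node (.node (.leaf 204852) (.leaf 729780)) (.node (.leaf 467252) (.leaf 1008564)))))))

/-- Part of a collection table. -/
def tblCo3_6_5 : Trie := (.node (.node (.node (.node (.node (.node (.leaf 69) (.leaf 524997)) (.node (.leaf 262469) (.leaf 803781))) (.node (.node (.leaf 131269) (.leaf 664133)) (.node (.leaf 393669) (.leaf 942917)))) (.node (.node (.node (.leaf 65669) (.leaf 598533)) (.node (.leaf 328069) (.leaf 877317))) (.node (.node (.leaf 204805) (.leaf 729733)) (.node (.leaf 467205) (.leaf 1008517))))) (.node (.node (.node (.node (.leaf 101) (.leaf 525029)) (.node (.leaf 262501) (.leaf 803813))) (.node (.node (.leaf 131301) (.leaf 664165)) (.node (.leaf 393701) (.leaf 942949)))) (.node (.node (.node (.leaf 65701) (.leaf 598565)) (.node (.leaf 328101) (.leaf 877349))) (.node (.node (.leaf 204837)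 (.leaf 729765)) (.node (.leaf 467237) (.leaf 1008549)))))) (.node (.node (.node (.node (.node (.leaf 85) (.leaf 525013)) (.node (.leaf 262485) (.leaf 803797))) (.node (.node (.leaf 131285) (.leaf 664149)) (.node (.leaf 393685) (.leaf 942933)))) (.node (.node (.node (.leaf 65685) (.leaf 598549)) (.node (.leaf 328085) (.leaf 877333))) (.node (.node (.leaf 204821) (.leaf 729749)) (.node (.leaf 467221) (.leaf 1008533))))) (.node (.node (.node (.node (.leaf 117) (.leaf 525045)) (.node (.leaf 262517) (.leaf 803829))) (.node (.node (.leaf 131317) (.leaf 664181)) (.node (.leaf 393717) (.leaf 942965)))) (.node (.node (.node (.leaf 65717) (.leaf 598581)) (.node (.leaf 328117) (.leaf 877365))) (.node (.node (.leaf 204853) (.leaf 729781)) (.node (.leaf 467253) (.leaf 1008565)))))))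

/-- Part of a collection table. -/
def tblCo3_6_6 : Trie := (.node (.node (.node (.node (.node (.node (.leaf 70) (.leaf 524998)) (.node (.leaf 262470) (.leaf 803782))) (.node (.node (.leaf 131270) (.leaf 664134)) (.node (.leaf 393670) (.leaf 942918)))) (.node (.node (.node (.leaf 65670) (.leaf 598534)) (.node (.leaf 328070) (.leaf 877318))) (.node (.node (.leaf 204806) (.leaf 729734)) (.node (.leaf 467206) (.leaf 1008518))))) (.node (.node (.node (.node (.leaf 102) (.leaf 525030)) (.node (.leaf 262502) (.leaf 803814))) (.node (.node (.leaf 131302) (.leaf 664166)) (.node (.leaf 393702) (.leaf 942950)))) (.node (.node (.node (.leaf 65702) (.leaf 598566)) (.node (.leaf 328102) (.leaf 877350))) (.node (.node (.leaf 204838) (.leaf 729766)) (.node (.leaf 467238) (.leaf 1008550)))))) (.node (.node (.node (.node (.node (.leaf 86) (.leaf 525014)) (.node (.leaf 262486) (.leaf 803798))) (.node (.node (.leaf 131286) (.leaf 664150)) (.node (.leaf 393686) (.leaf 942934)))) (.node (.node (.node (.leaf 65686) (.leaf 598550)) (.node (.leaf 328086) (.leaf 877334))) (.node (.node (.leaf 204822) (.leaf 729750)) (.node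 (.leaf 467222) (.leaf 1008534))))) (.node (.node (.node (.node (.leaf 118) (.leaf 525046)) (.node (.leaf 262518) (.leaf 803830))) (.node (.node (.leaf 131318) (.leaf 664182)) (.node (.leaf 393718) (.leaf 942966)))) (.node (.node (.node (.leaf 65718) (.leaf 598582)) (.node (.leaf 328118) (.leaf 877366))) (.node (.node (.leaf 204854) (.leaf 729782)) (.node (.leaf 467254) (.leaf 1008566)))))))

/-- Part of a collection table. -/
def tblCo3_6_7 : Trie := (.node (.node (.node (.node (.node (.node (.leaf 71) (.leaf 524999)) (.node (.leaf 262471) (.leaf 803783))) (.node (.node (.leaf 131271) (.leaf 664135)) (.node (.leaf 393671) (.leaf 942919)))) (.node (.node (.node (.leaf 65671) (.leaf 598535)) (.node (.leaf 328071) (.leaf 877319))) (.node (.node (.leaf 204807) (.leaf 729735)) (.node (.leaf 467207) (.leaf 1008519))))) (.node (.node (.node (.node (.leaf 103) (.leaf 525031)) (.node (.leaf 262503) (.leaf 803815))) (.node (.node (.leaf 131303) (.leaf 664167)) (.node (.leaf 393703) (.leaf 942951)))) (.node (.node (.node (.leaf 65703) (.leaf 598567)) (.node (.leaf 328103) (.leaf 877351))) (.node (.node (.leaf 204839)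 (.leaf 729767)) (.node (.leaf 467239) (.leaf 1008551)))))) (.node (.node (.node (.node (.node (.leaf 87) (.leaf 525015)) (.node (.leaf 262487) (.leaf 803799))) (.node (.node (.leaf 131287) (.leaf 664151)) (.node (.leaf 393687) (.leaf 942935)))) (.node (.node (.node (.leaf 65687) (.leaf 598551)) (.node (.leaf 328087) (.leaf 877335))) (.node (.node (.leaf 204823) (.leaf 729751)) (.node (.leaf 467223) (.leaf 1008535))))) (.node (.node (.node (.node (.leaf 119) (.leaf 525047)) (.node (.leaf 262519) (.leaf 803831))) (.node (.node (.leaf 131319) (.leaf 664183)) (.node (.leaf 393719) (.leaf 942967)))) (.node (.node (.node (.leaf 65719) (.leaf 598583)) (.node (.leaf 328119) (.leaf 877367))) (.node (.node (.leaf 204855) (.leaf 729783)) (.node (.leaf 467255) (.leaf 1008567)))))))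

/-- Part of a collection table. -/
def tblCo3_6_8 : Trie := (.node (.node (.node (.node (.node (.node (.leaf 72) (.leaf 525000)) (.node (.leaf 262472) (.leaf 803784))) (.node (.node (.leaf 131272) (.leaf 664136)) (.node (.leaf 393672) (.leaf 942920)))) (.node (.node (.node (.leaf 65672) (.leaf 598536)) (.node (.leaf 328072) (.leaf 877320))) (.node (.node (.leaf 204808) (.leaf 729736)) (.node (.leaf 467208) (.leaf 1008520))))) (.node (.node (.node (.node (.leaf 104) (.leaf 525032)) (.node (.leaf 262504) (.leaf 803816))) (.node (.node (.leaf 131304) (.leaf 664168)) (.node (.leaf 393704) (.leaf 942952)))) (.node (.node (.node (.leaf 65704) (.leaf 598568)) (.node (.leaf 328104) (.leaf 877352))) (.node (.node (.leaf 204840) (.leaf 729768)) (.node (.leaf 467240) (.leaf 1008552)))))) (.node (.node (.node (.node (.node (.leaf 88) (.leaf 525016)) (.node (.leaf 262488) (.leaf 803800))) (.node (.node (.leaf 131288) (.leaf 664152)) (.node (.leaf 393688) (.leaf 942936)))) (.node (.node (.node (.leaf 65688) (.leaf 598552)) (.node (.leaf 328088) (.leaf 877336))) (.node (.node (.leaf 204824) (.leaf 729752)) (.node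 (.leaf 467224) (.leaf 1008536))))) (.node (.node (.node (.node (.leaf 120) (.leaf 525048)) (.node (.leaf 262520) (.leaf 803832))) (.node (.node (.leaf 131320) (.leaf 664184)) (.node (.leaf 393720) (.leaf 942968)))) (.node (.node (.node (.leaf 65720) (.leaf 598584)) (.node (.leaf 328120) (.leaf 877368))) (.node (.node (.leaf 204856) (.leaf 729784)) (.node (.leaf 467256) (.leaf 1008568)))))))

/-- Part of a collection table. -/
def tblCo3_6_9 : Trie := (.node (.node (.node (.node (.node (.node (.leaf 73) (.leaf 525001)) (.node (.leaf 262473) (.leaf 803785))) (.node (.node (.leaf 131273) (.leaf 664137)) (.node (.leaf 393673) (.leaf 942921)))) (.node (.node (.node (.leaf 65673) (.leaf 598537)) (.node (.leaf 328073) (.leaf 877321))) (.node (.node (.leaf 204809) (.leaf 729737)) (.node (.leaf 467209) (.leaf 1008521))))) (.node (.node (.node (.node (.leaf 105) (.leaf 525033)) (.node (.leaf 262505) (.leaf 803817))) (.node (.node (.leaf 131305) (.leaf 664169)) (.node (.leaf 393705) (.leaf 942953)))) (.node (.node (.node (.leaf 65705) (.leaf 598569)) (.node (.leaf 328105) (.leaf 877353))) (.node (.node (.leaf 204841)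 (.leaf 729769)) (.node (.leaf 467241) (.leaf 1008553)))))) (.node (.node (.node (.node (.node (.leaf 89) (.leaf 525017)) (.node (.leaf 262489) (.leaf 803801))) (.node (.node (.leaf 131289) (.leaf 664153)) (.node (.leaf 393689) (.leaf 942937)))) (.node (.node (.node (.leaf 65689) (.leaf 598553)) (.node (.leaf 328089) (.leaf 877337))) (.node (.node (.leaf 204825) (.leaf 729753)) (.node (.leaf 467225) (.leaf 1008537))))) (.node (.node (.node (.node (.leaf 121) (.leaf 525049)) (.node (.leaf 262521) (.leaf 803833))) (.node (.node (.leaf 131321) (.leaf 664185)) (.node (.leaf 393721) (.leaf 942969)))) (.node (.node (.node (.leaf 65721) (.leaf 598585)) (.node (.leaf 328121) (.leaf 877369))) (.node (.node (.leaf 204857) (.leaf 729785)) (.node (.leaf 467257) (.leaf 1008569)))))))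

/-- Part of a collection table. -/
def tblCo3_6_10 : Trie := (.node (.node (.node (.node (.node (.node (.leaf 74) (.leaf 525002)) (.node (.leaf 262474) (.leaf 803786))) (.node (.node (.leaf 131274) (.leaf 664138)) (.node (.leaf 393674) (.leaf 942922)))) (.node (.node (.node (.leaf 65674) (.leaf 598538)) (.node (.leaf 328074) (.leaf 877322))) (.node (.node (.leaf 204810) (.leaf 729738)) (.node (.leaf 467210) (.leaf 1008522))))) (.node (.node (.node (.node (.leaf 106) (.leaf 525034)) (.node (.leaf 262506) (.leaf 803818))) (.node (.node (.leaf 131306) (.leaf 664170)) (.node (.leaf 393706) (.leaf 942954)))) (.node (.node (.node (.leaf 65706) (.leaf 598570)) (.node (.leaf 328106) (.leaf 877354))) (.node (.node (.leaf 204842) (.leaf 729770)) (.node (.leaf 467242) (.leaf 1008554)))))) (.node (.node (.node (.node (.node (.leaf 90) (.leaf 525018)) (.node (.leaf 262490) (.leaf 803802))) (.node (.node (.leaf 131290) (.leaf 664154)) (.node (.leaf 393690) (.leaf 942938)))) (.node (.node (.node (.leaf 65690) (.leaf 598554)) (.node (.leaf 328090) (.leaf 877338))) (.node (.node (.leaf 204826) (.leaf 729754)) (.node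 (.leaf 467226) (.leaf 1008538))))) (.node (.node (.node (.node (.leaf 122) (.leaf 525050)) (.node (.leaf 262522) (.leaf 803834))) (.node (.node (.leaf 131322) (.leaf 664186)) (.node (.leaf 393722) (.leaf 942970)))) (.node (.node (.node (.leaf 65722) (.leaf 598586)) (.node (.leaf 328122) (.leaf 877370))) (.node (.node (.leaf 204858) (.leaf 729786)) (.node (.leaf 467258) (.leaf 1008570)))))))

/-- Part of a collection table. -/
def tblCo3_6_11 : Trie := (.node (.node (.node (.node (.node (.node (.leaf 75) (.leaf 525003)) (.node (.leaf 262475) (.leaf 803787))) (.node (.node (.leaf 131275) (.leaf 664139)) (.node (.leaf 393675) (.leaf 942923)))) (.node (.node (.node (.leaf 65675) (.leaf 598539)) (.node (.leaf 328075) (.leaf 877323))) (.node (.node (.leaf 204811) (.leaf 729739)) (.node (.leaf 467211) (.leaf 1008523))))) (.node (.node (.node (.node (.leaf 107) (.leaf 525035)) (.node (.leaf 262507) (.leaf 803819))) (.node (.node (.leaf 131307) (.leaf 664171)) (.node (.leaf 393707) (.leaf 942955)))) (.node (.node (.node (.leaf 65707) (.leaf 598571)) (.node (.leaf 328107) (.leaf 877355))) (.node (.node (.leaf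 204843) (.leaf 729771)) (.node (.leaf 467243) (.leaf 1008555)))))) (.node (.node (.node (.node (.node (.leaf 91) (.leaf 525019)) (.node (.leaf 262491) (.leaf 803803))) (.node (.node (.leaf 131291) (.leaf 664155)) (.node (.leaf 393691) (.leaf 942939)))) (.node (.node (.node (.leaf 65691) (.leaf 598555)) (.node (.leaf 328091) (.leaf 877339))) (.node (.node (.leaf 204827) (.leaf 729755)) (.node (.leaf 467227) (.leaf 1008539))))) (.node (.node (.node (.node (.leaf 123) (.leaf 525051)) (.node (.leaf 262523) (.leaf 803835))) (.node (.node (.leaf 131323) (.leaf 664187)) (.node (.leaf 393723) (.leaf 942971)))) (.node (.node (.node (.leaf 65723) (.leaf 598587)) (.node (.leaf 328123) (.leaf 877371))) (.node (.node (.leaf 204859) (.leaf 729787)) (.node (.leaf 467259) (.leaf 1008571)))))))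

/-- Part of a collection table. -/
def tblCo3_6_12 : Trie := (.node (.node (.node (.node (.node (.node (.leaf 76) (.leaf 525004)) (.node (.leaf 262476) (.leaf 803788))) (.node (.node (.leaf 131276) (.leaf 664140)) (.node (.leaf 393676) (.leaf 942924)))) (.node (.node (.node (.leaf 65676) (.leaf 598540)) (.node (.leaf 328076) (.leaf 877324))) (.node (.node (.leaf 204812) (.leaf 729740)) (.node (.leaf 467212) (.leaf 1008524))))) (.node (.node (.node (.node (.leaf 108) (.leaf 525036)) (.node (.leaf 262508) (.leaf 803820))) (.node (.node (.leaf 131308) (.leaf 664172)) (.node (.leaf 393708) (.leaf 942956)))) (.node (.node (.node (.leaf 65708) (.leaf 598572)) (.node (.leaf 328108) (.leaf 877356))) (.node (.node (.leaf 204844) (.leaf 729772)) (.node (.leaf 467244) (.leaf 1008556)))))) (.node (.node (.node (.node (.node (.leaf 92) (.leaf 525020)) (.node (.leaf 262492) (.leaf 803804))) (.node (.node (.leaf 131292) (.leaf 664156)) (.node (.leaf 393692) (.leaf 942940)))) (.node (.node (.node (.leaf 65692) (.leaf 598556)) (.node (.leaf 328092) (.leaf 877340))) (.node (.node (.leaf 204828) (.leaf 729756)) (.node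 (.leaf 467228) (.leaf 1008540))))) (.node (.node (.node (.node (.leaf 124) (.leaf 525052)) (.node (.leaf 262524) (.leaf 803836))) (.node (.node (.leaf 131324) (.leaf 664188)) (.node (.leaf 393724) (.leaf 942972)))) (.node (.node (.node (.leaf 65724) (.leaf 598588)) (.node (.leaf 328124) (.leaf 877372))) (.node (.node (.leaf 204860) (.leaf 729788)) (.node (.leaf 467260) (.leaf 1008572)))))))

/-- Part of a collection table. -/
def tblCo3_6_13 : Trie := (.node (.node (.node (.node (.node (.node (.leaf 77) (.leaf 525005)) (.node (.leaf 262477) (.leaf 803789))) (.node (.node (.leaf 131277) (.leaf 664141)) (.node (.leaf 393677) (.leaf 942925)))) (.node (.node (.node (.leaf 65677) (.leaf 598541)) (.node (.leaf 328077) (.leaf 877325))) (.node (.node (.leaf 204813) (.leaf 729741)) (.node (.leaf 467213) (.leaf 1008525))))) (.node (.node (.node (.node (.leaf 109) (.leaf 525037)) (.node (.leaf 262509) (.leaf 803821))) (.node (.node (.leaf 131309) (.leaf 664173)) (.node (.leaf 393709) (.leaf 942957)))) (.node (.node (.node (.leaf 65709) (.leaf 598573)) (.node (.leaf 328109) (.leaf 877357))) (.node (.node (.leaf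 204845) (.leaf 729773)) (.node (.leaf 467245) (.leaf 1008557)))))) (.node (.node (.node (.node (.node (.leaf 93) (.leaf 525021)) (.node (.leaf 262493) (.leaf 803805))) (.node (.node (.leaf 131293) (.leaf 664157)) (.node (.leaf 393693) (.leaf 942941)))) (.node (.node (.node (.leaf 65693) (.leaf 598557)) (.node (.leaf 328093) (.leaf 877341))) (.node (.node (.leaf 204829) (.leaf 729757)) (.node (.leaf 467229) (.leaf 1008541))))) (.node (.node (.node (.node (.leaf 125) (.leaf 525053)) (.node (.leaf 262525) (.leaf 803837))) (.node (.node (.leaf 131325) (.leaf 664189)) (.node (.leaf 393725) (.leaf 942973)))) (.node (.node (.node (.leaf 65725) (.leaf 598589)) (.node (.leaf 328125) (.leaf 877373))) (.node (.node (.leaf 204861) (.leaf 729789)) (.node (.leaf 467261) (.leaf 1008573)))))))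

/-- Part of a collection table. -/
def tblCo3_6_14 : Trie := (.node (.node (.node (.node (.node (.node (.leaf 78) (.leaf 525006)) (.node (.leaf 262478) (.leaf 803790))) (.node (.node (.leaf 131278) (.leaf 664142)) (.node (.leaf 393678) (.leaf 942926)))) (.node (.node (.node (.leaf 65678) (.leaf 598542)) (.node (.leaf 328078) (.leaf 877326))) (.node (.node (.leaf 204814) (.leaf 729742)) (.node (.leaf 467214) (.leaf 1008526))))) (.node (.node (.node (.node (.leaf 110) (.leaf 525038)) (.node (.leaf 262510) (.leaf 803822))) (.node (.node (.leaf 131310) (.leaf 664174)) (.node (.leaf 393710) (.leaf 942958)))) (.node (.node (.node (.leaf 65710) (.leaf 598574)) (.node (.leaf 328110) (.leaf 877358))) (.node (.node (.leaf 204846) (.leaf 729774)) (.node (.leaf 467246) (.leaf 1008558)))))) (.node (.node (.node (.node (.node (.leaf 94) (.leaf 525022)) (.node (.leaf 262494) (.leaf 803806))) (.node (.node (.leaf 131294) (.leaf 664158)) (.node (.leaf 393694) (.leaf 942942)))) (.node (.node (.node (.leaf 65694) (.leaf 598558)) (.node (.leaf 328094) (.leaf 877342))) (.node (.node (.leaf 204830) (.leaf 729758)) (.node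 (.leaf 467230) (.leaf 1008542))))) (.node (.node (.node (.node (.leaf 126) (.leaf 525054)) (.node (.leaf 262526) (.leaf 803838))) (.node (.node (.leaf 131326) (.leaf 664190)) (.node (.leaf 393726) (.leaf 942974)))) (.node (.node (.node (.leaf 65726) (.leaf 598590)) (.node (.leaf 328126) (.leaf 877374))) (.node (.node (.leaf 204862) (.leaf 729790)) (.node (.leaf 467262) (.leaf 1008574)))))))

/-- Part of a collection table. -/
def tblCo3_6_15 : Trie := (.node (.node (.node (.node (.node (.node (.leaf 79) (.leaf 525007)) (.node (.leaf 262479) (.leaf 803791))) (.node (.node (.leaf 131279) (.leaf 664143)) (.node (.leaf 393679) (.leaf 942927)))) (.node (.node (.node (.leaf 65679) (.leaf 598543)) (.node (.leaf 328079) (.leaf 877327))) (.node (.node (.leaf 204815) (.leaf 729743)) (.node (.leaf 467215) (.leaf 1008527))))) (.node (.node (.node (.node (.leaf 111) (.leaf 525039)) (.node (.leaf 262511) (.leaf 803823))) (.node (.node (.leaf 131311) (.leaf 664175)) (.node (.leaf 393711) (.leaf 942959)))) (.node (.node (.node (.leaf 65711) (.leaf 598575)) (.node (.leaf 328111) (.leaf 877359))) (.node (.node (.leaf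 204847) (.leaf 729775)) (.node (.leaf 467247) (.leaf 1008559)))))) (.node (.node (.node (.node (.node (.leaf 95) (.leaf 525023)) (.node (.leaf 262495) (.leaf 803807))) (.node (.node (.leaf 131295) (.leaf 664159)) (.node (.leaf 393695) (.leaf 942943)))) (.node (.node (.node (.leaf 65695) (.leaf 598559)) (.node (.leaf 328095) (.leaf 877343))) (.node (.node (.leaf 204831) (.leaf 729759)) (.node (.leaf 467231) (.leaf 1008543))))) (.node (.node (.node (.node (.leaf 127) (.leaf 525055)) (.node (.leaf 262527) (.leaf 803839))) (.node (.node (.leaf 131327) (.leaf 664191)) (.node (.leaf 393727) (.leaf 942975)))) (.node (.node (.node (.leaf 65727) (.leaf 598591)) (.node (.leaf 328127) (.leaf 877375))) (.node (.node (.leaf 204863) (.leaf 729791)) (.node (.leaf 467263) (.leaf 1008575)))))))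

/-- Part of a collection table. -/
def tblCo3_7_0 : Trie := (.node (.node (.node (.node (.node (.node (.leaf 128) (.leaf 33408)) (.node (.leaf 16768) (.leaf 50048))) (.node (.node (.leaf 8192) (.leaf 41472)) (.node (.leaf 24832) (.leaf 58112)))) (.node (.node (.node (.leaf 192) (.leaf 33472)) (.node (.leaf 16832) (.leaf 50112))) (.node (.node (.leaf 8256) (.leaf 41536)) (.node (.leaf 24896) (.leaf 58176))))) (.node (.node (.node (.node (.leaf 160) (.leaf 33440)) (.node (.leaf 16800) (.leaf 50080))) (.node (.node (.leaf 8224) (.leaf 41504)) (.node (.leaf 24864) (.leaf 58144)))) (.node (.node (.node (.leaf 224) (.leaf 33504)) (.node (.leaf 16864) (.leaf 50144))) (.node (.node (.leaf 8288) (.leaf 41568)) (.node (.leaf 24928) (.leaf 58208)))))) (.node (.node (.node (.node (.node (.leaf 144) (.leaf 33424)) (.node (.leaf 16784) (.leaf 50064))) (.node (.node (.leaf 8208) (.leaf 41488)) (.node (.leaf 24848) (.leaf 58128)))) (.node (.node (.node (.leaf 208) (.leaf 33488)) (.node (.leaf 16848) (.leaf 50128))) (.node (.node (.leaf 8272) (.leaf 41552)) (.node (.leaf 24912) (.leaf 58192))))) (.node (.node (.node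 (.node (.leaf 176) (.leaf 33456)) (.node (.leaf 16816) (.leaf 50096))) (.node (.node (.leaf 8240) (.leaf 41520)) (.node (.leaf 24880) (.leaf 58160)))) (.node (.node (.node (.leaf 240) (.leaf 33520)) (.node (.leaf 16880) (.leaf 50160))) (.node (.node (.leaf 8304) (.leaf 41584)) (.node (.leaf 24944) (.leaf 58224)))))))

/-- Part of a collection table. -/
def tblCo3_7_1 : Trie := (.node (.node (.node (.node (.node (.node (.leaf 129) (.leaf 33409)) (.node (.leaf 16769) (.leaf 50049))) (.node (.node (.leaf 8193) (.leaf 41473)) (.node (.leaf 24833) (.leaf 58113)))) (.node (.node (.node (.leaf 193) (.leaf 33473)) (.node (.leaf 16833) (.leaf 50113))) (.node (.node (.leaf 8257) (.leaf 41537)) (.node (.leaf 24897) (.leaf 58177))))) (.node (.node (.node (.node (.leaf 161) (.leaf 33441)) (.node (.leaf 16801) (.leaf 50081))) (.node (.node (.leaf 8225) (.leaf 41505)) (.node (.leaf 24865) (.leaf 58145)))) (.node (.node (.node (.leaf 225) (.leaf 33505)) (.node (.leaf 16865) (.leaf 50145))) (.node (.node (.leaf 8289) (.leaf 41569)) (.node (.leaf 24929) (.leaf 58209)))))) (.node (.node (.node (.node (.node (.leaf 145)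 (.leaf 33425)) (.node (.leaf 16785) (.leaf 50065))) (.node (.node (.leaf 8209) (.leaf 41489)) (.node (.leaf 24849) (.leaf 58129)))) (.node (.node (.node (.leaf 209) (.leaf 33489)) (.node (.leaf 16849) (.leaf 50129))) (.node (.node (.leaf 8273) (.leaf 41553)) (.node (.leaf 24913) (.leaf 58193))))) (.node (.node (.node (.node (.leaf 177) (.leaf 33457)) (.node (.leaf 16817) (.leaf 50097))) (.node (.node (.leaf 8241) (.leaf 41521)) (.node (.leaf 24881) (.leaf 58161)))) (.node (.node (.node (.leaf 241) (.leaf 33521)) (.node (.leaf 16881) (.leaf 50161))) (.node (.node (.leaf 8305) (.leaf 41585)) (.node (.leaf 24945) (.leaf 58225)))))))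

/-- Part of a collection table. -/
def tblCo3_7_2 : Trie := (.node (.node (.node (.node (.node (.node (.leaf 130) (.leaf 33410)) (.node (.leaf 16770) (.leaf 50050))) (.node (.node (.leaf 8194) (.leaf 41474)) (.node (.leaf 24834) (.leaf 58114)))) (.node (.node (.node (.leaf 194) (.leaf 33474)) (.node (.leaf 16834) (.leaf 50114))) (.node (.node (.leaf 8258) (.leaf 41538)) (.node (.leaf 24898) (.leaf 58178))))) (.node (.node (.node (.node (.leaf 162) (.leaf 33442)) (.node (.leaf 16802) (.leaf 50082))) (.node (.node (.leaf 8226) (.leaf 41506)) (.node (.leaf 24866) (.leaf 58146)))) (.node (.node (.node (.leaf 226) (.leaf 33506)) (.node (.leaf 16866) (.leaf 50146))) (.node (.node (.leaf 8290) (.leaf 41570)) (.node (.leaf 24930) (.leaf 58210)))))) (.node (.node (.node (.node (.node (.leaf 146) (.leaf 33426)) (.node (.leaf 16786) (.leaf 50066))) (.node (.node (.leaf 8210) (.leaf 41490)) (.node (.leaf 24850) (.leaf 58130)))) (.node (.node (.node (.leaf 210) (.leaf 33490)) (.node (.leaf 16850) (.leaf 50130))) (.node (.node (.leaf 8274) (.leaf 41554)) (.node (.leaf 24914) (.leaf 58194))))) (.node (.node (.node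 (.node (.leaf 178) (.leaf 33458)) (.node (.leaf 16818) (.leaf 50098))) (.node (.node (.leaf 8242) (.leaf 41522)) (.node (.leaf 24882) (.leaf 58162)))) (.node (.node (.node (.leaf 242) (.leaf 33522)) (.node (.leaf 16882) (.leaf 50162))) (.node (.node (.leaf 8306) (.leaf 41586)) (.node (.leaf 24946) (.leaf 58226)))))))

/-- Part of a collection table. -/
def tblCo3_7_3 : Trie := (.node (.node (.node (.node (.node (.node (.leaf 131) (.leaf 33411)) (.node (.leaf 16771) (.leaf 50051))) (.node (.node (.leaf 8195) (.leaf 41475)) (.node (.leaf 24835) (.leaf 58115)))) (.node (.node (.node (.leaf 195) (.leaf 33475)) (.node (.leaf 16835) (.leaf 50115))) (.node (.node (.leaf 8259) (.leaf 41539)) (.node (.leaf 24899) (.leaf 58179))))) (.node (.node (.node (.node (.leaf 163) (.leaf 33443)) (.node (.leaf 16803) (.leaf 50083))) (.node (.node (.leaf 8227) (.leaf 41507)) (.node (.leaf 24867) (.leaf 58147)))) (.node (.node (.node (.leaf 227) (.leaf 33507)) (.node (.leaf 16867) (.leaf 50147))) (.node (.node (.leaf 8291) (.leaf 41571)) (.node (.leaf 24931) (.leaf 58211)))))) (.node (.node (.node (.node (.node (.leaf 147)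 (.leaf 33427)) (.node (.leaf 16787) (.leaf 50067))) (.node (.node (.leaf 8211) (.leaf 41491)) (.node (.leaf 24851) (.leaf 58131)))) (.node (.node (.node (.leaf 211) (.leaf 33491)) (.node (.leaf 16851) (.leaf 50131))) (.node (.node (.leaf 8275) (.leaf 41555)) (.node (.leaf 24915) (.leaf 58195))))) (.node (.node (.node (.node (.leaf 179) (.leaf 33459)) (.node (.leaf 16819) (.leaf 50099))) (.node (.node (.leaf 8243) (.leaf 41523)) (.node (.leaf 24883) (.leaf 58163)))) (.node (.node (.node (.leaf 243) (.leaf 33523)) (.node (.leaf 16883) (.leaf 50163))) (.node (.node (.leaf 8307) (.leaf 41587)) (.node (.leaf 24947) (.leaf 58227)))))))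

/-- Part of a collection table. -/
def tblCo3_7_4 : Trie := (.node (.node (.node (.node (.node (.node (.leaf 132) (.leaf 33412)) (.node (.leaf 16772) (.leaf 50052))) (.node (.node (.leaf 8196) (.leaf 41476)) (.node (.leaf 24836) (.leaf 58116)))) (.node (.node (.node (.leaf 196) (.leaf 33476)) (.node (.leaf 16836) (.leaf 50116))) (.node (.node (.leaf 8260) (.leaf 41540)) (.node (.leaf 24900) (.leaf 58180))))) (.node (.node (.node (.node (.leaf 164) (.leaf 33444)) (.node (.leaf 16804) (.leaf 50084))) (.node (.node (.leaf 8228) (.leaf 41508)) (.node (.leaf 24868) (.leaf 58148)))) (.node (.node (.node (.leaf 228) (.leaf 33508)) (.node (.leaf 16868) (.leaf 50148))) (.node (.node (.leaf 8292) (.leaf 41572)) (.node (.leaf 24932) (.leaf 58212)))))) (.node (.node (.node (.node (.node (.leaf 148) (.leaf 33428)) (.node (.leaf 16788) (.leaf 50068))) (.node (.node (.leaf 8212) (.leaf 41492)) (.node (.leaf 24852) (.leaf 58132)))) (.node (.node (.node (.leaf 212) (.leaf 33492)) (.node (.leaf 16852) (.leaf 50132))) (.node (.node (.leaf 8276) (.leaf 41556)) (.node (.leaf 24916) (.leaf 58196))))) (.node (.node (.node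 (.node (.leaf 180) (.leaf 33460)) (.node (.leaf 16820) (.leaf 50100))) (.node (.node (.leaf 8244) (.leaf 41524)) (.node (.leaf 24884) (.leaf 58164)))) (.node (.node (.node (.leaf 244) (.leaf 33524)) (.node (.leaf 16884) (.leaf 50164))) (.node (.node (.leaf 8308) (.leaf 41588)) (.node (.leaf 24948) (.leaf 58228)))))))

/-- Part of a collection table. -/
def tblCo3_7_5 : Trie := (.node (.node (.node (.node (.node (.node (.leaf 133) (.leaf 33413)) (.node (.leaf 16773) (.leaf 50053))) (.node (.node (.leaf 8197) (.leaf 41477)) (.node (.leaf 24837) (.leaf 58117)))) (.node (.node (.node (.leaf 197) (.leaf 33477)) (.node (.leaf 16837) (.leaf 50117))) (.node (.node (.leaf 8261) (.leaf 41541)) (.node (.leaf 24901) (.leaf 58181))))) (.node (.node (.node (.node (.leaf 165) (.leaf 33445)) (.node (.leaf 16805) (.leaf 50085))) (.node (.node (.leaf 8229) (.leaf 41509)) (.node (.leaf 24869) (.leaf 58149)))) (.node (.node (.node (.leaf 229) (.leaf 33509)) (.node (.leaf 16869) (.leaf 50149))) (.node (.node (.leaf 8293) (.leaf 41573)) (.node (.leaf 24933) (.leaf 58213)))))) (.node (.node (.node (.node (.node (.leaf 149)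 (.leaf 33429)) (.node (.leaf 16789) (.leaf 50069))) (.node (.node (.leaf 8213) (.leaf 41493)) (.node (.leaf 24853) (.leaf 58133)))) (.node (.node (.node (.leaf 213) (.leaf 33493)) (.node (.leaf 16853) (.leaf 50133))) (.node (.node (.leaf 8277) (.leaf 41557)) (.node (.leaf 24917) (.leaf 58197))))) (.node (.node (.node (.node (.leaf 181) (.leaf 33461)) (.node (.leaf 16821) (.leaf 50101))) (.node (.node (.leaf 8245) (.leaf 41525)) (.node (.leaf 24885) (.leaf 58165)))) (.node (.node (.node (.leaf 245) (.leaf 33525)) (.node (.leaf 16885) (.leaf 50165))) (.node (.node (.leaf 8309) (.leaf 41589)) (.node (.leaf 24949) (.leaf 58229)))))))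

/-- Part of a collection table. -/
def tblCo3_7_6 : Trie := (.node (.node (.node (.node (.node (.node (.leaf 134) (.leaf 33414)) (.node (.leaf 16774) (.leaf 50054))) (.node (.node (.leaf 8198) (.leaf 41478)) (.node (.leaf 24838) (.leaf 58118)))) (.node (.node (.node (.leaf 198) (.leaf 33478)) (.node (.leaf 16838) (.leaf 50118))) (.node (.node (.leaf 8262) (.leaf 41542)) (.node (.leaf 24902) (.leaf 58182))))) (.node (.node (.node (.node (.leaf 166) (.leaf 33446)) (.node (.leaf 16806) (.leaf 50086))) (.node (.node (.leaf 8230) (.leaf 41510)) (.node (.leaf 24870) (.leaf 58150)))) (.node (.node (.node (.leaf 230) (.leaf 33510)) (.node (.leaf 16870) (.leaf 50150))) (.node (.node (.leaf 8294) (.leaf 41574)) (.node (.leaf 24934) (.leaf 58214)))))) (.node (.node (.node (.node (.node (.leaf 150) (.leaf 33430)) (.node (.leaf 16790) (.leaf 50070))) (.node (.node (.leaf 8214) (.leaf 41494)) (.node (.leaf 24854) (.leaf 58134)))) (.node (.node (.node (.leaf 214) (.leaf 33494)) (.node (.leaf 16854) (.leaf 50134))) (.node (.node (.leaf 8278) (.leaf 41558)) (.node (.leaf 24918) (.leaf 58198))))) (.node (.node (.node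 (.node (.leaf 182) (.leaf 33462)) (.node (.leaf 16822) (.leaf 50102))) (.node (.node (.leaf 8246) (.leaf 41526)) (.node (.leaf 24886) (.leaf 58166)))) (.node (.node (.node (.leaf 246) (.leaf 33526)) (.node (.leaf 16886) (.leaf 50166))) (.node (.node (.leaf 8310) (.leaf 41590)) (.node (.leaf 24950) (.leaf 58230)))))))

/-- Part of a collection table. -/
def tblCo3_7_7 : Trie := (.node (.node (.node (.node (.node (.node (.leaf 135) (.leaf 33415)) (.node (.leaf 16775) (.leaf 50055))) (.node (.node (.leaf 8199) (.leaf 41479)) (.node (.leaf 24839) (.leaf 58119)))) (.node (.node (.node (.leaf 199) (.leaf 33479)) (.node (.leaf 16839) (.leaf 50119))) (.node (.node (.leaf 8263) (.leaf 41543)) (.node (.leaf 24903) (.leaf 58183))))) (.node (.node (.node (.node (.leaf 167) (.leaf 33447)) (.node (.leaf 16807) (.leaf 50087))) (.node (.node (.leaf 8231) (.leaf 41511)) (.node (.leaf 24871) (.leaf 58151)))) (.node (.node (.node (.leaf 231) (.leaf 33511)) (.node (.leaf 16871) (.leaf 50151))) (.node (.node (.leaf 8295) (.leaf 41575)) (.node (.leaf 24935) (.leaf 58215)))))) (.node (.node (.node (.node (.node (.leaf 151)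 (.leaf 33431)) (.node (.leaf 16791) (.leaf 50071))) (.node (.node (.leaf 8215) (.leaf 41495)) (.node (.leaf 24855) (.leaf 58135)))) (.node (.node (.node (.leaf 215) (.leaf 33495)) (.node (.leaf 16855) (.leaf 50135))) (.node (.node (.leaf 8279) (.leaf 41559)) (.node (.leaf 24919) (.leaf 58199))))) (.node (.node (.node (.node (.leaf 183) (.leaf 33463)) (.node (.leaf 16823) (.leaf 50103))) (.node (.node (.leaf 8247) (.leaf 41527)) (.node (.leaf 24887) (.leaf 58167)))) (.node (.node (.node (.leaf 247) (.leaf 33527)) (.node (.leaf 16887) (.leaf 50167))) (.node (.node (.leaf 8311) (.leaf 41591)) (.node (.leaf 24951) (.leaf 58231)))))))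

/-- Part of a collection table. -/
def tblCo3_7_8 : Trie := (.node (.node (.node (.node (.node (.node (.leaf 136) (.leaf 33416)) (.node (.leaf 16776) (.leaf 50056))) (.node (.node (.leaf 8200) (.leaf 41480)) (.node (.leaf 24840) (.leaf 58120)))) (.node (.node (.node (.leaf 200) (.leaf 33480)) (.node (.leaf 16840) (.leaf 50120))) (.node (.node (.leaf 8264) (.leaf 41544)) (.node (.leaf 24904) (.leaf 58184))))) (.node (.node (.node (.node (.leaf 168) (.leaf 33448)) (.node (.leaf 16808) (.leaf 50088))) (.node (.node (.leaf 8232) (.leaf 41512)) (.node (.leaf 24872) (.leaf 58152)))) (.node (.node (.node (.leaf 232) (.leaf 33512)) (.node (.leaf 16872) (.leaf 50152))) (.node (.node (.leaf 8296) (.leaf 41576)) (.node (.leaf 24936) (.leaf 58216)))))) (.node (.node (.node (.node (.node (.leaf 152) (.leaf 33432)) (.node (.leaf 16792) (.leaf 50072))) (.node (.node (.leaf 8216) (.leaf 41496)) (.node (.leaf 24856) (.leaf 58136)))) (.node (.node (.node (.leaf 216) (.leaf 33496)) (.node (.leaf 16856) (.leaf 50136))) (.node (.node (.leaf 8280) (.leaf 41560)) (.node (.leaf 24920) (.leaf 58200))))) (.node (.node (.node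 (.node (.leaf 184) (.leaf 33464)) (.node (.leaf 16824) (.leaf 50104))) (.node (.node (.leaf 8248) (.leaf 41528)) (.node (.leaf 24888) (.leaf 58168)))) (.node (.node (.node (.leaf 248) (.leaf 33528)) (.node (.leaf 16888) (.leaf 50168))) (.node (.node (.leaf 8312) (.leaf 41592)) (.node (.leaf 24952) (.leaf 58232)))))))

/-- Part of a collection table. -/
def tblCo3_7_9 : Trie := (.node (.node (.node (.node (.node (.node (.leaf 137) (.leaf 33417)) (.node (.leaf 16777) (.leaf 50057))) (.node (.node (.leaf 8201) (.leaf 41481)) (.node (.leaf 24841) (.leaf 58121)))) (.node (.node (.node (.leaf 201) (.leaf 33481)) (.node (.leaf 16841) (.leaf 50121))) (.node (.node (.leaf 8265) (.leaf 41545)) (.node (.leaf 24905) (.leaf 58185))))) (.node (.node (.node (.node (.leaf 169) (.leaf 33449)) (.node (.leaf 16809) (.leaf 50089))) (.node (.node (.leaf 8233) (.leaf 41513)) (.node (.leaf 24873) (.leaf 58153)))) (.node (.node (.node (.leaf 233) (.leaf 33513)) (.node (.leaf 16873) (.leaf 50153))) (.node (.node (.leaf 8297) (.leaf 41577)) (.node (.leaf 24937) (.leaf 58217)))))) (.node (.node (.node (.node (.node (.leaf 153)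 (.leaf 33433)) (.node (.leaf 16793) (.leaf 50073))) (.node (.node (.leaf 8217) (.leaf 41497)) (.node (.leaf 24857) (.leaf 58137)))) (.node (.node (.node (.leaf 217) (.leaf 33497)) (.node (.leaf 16857) (.leaf 50137))) (.node (.node (.leaf 8281) (.leaf 41561)) (.node (.leaf 24921) (.leaf 58201))))) (.node (.node (.node (.node (.leaf 185) (.leaf 33465)) (.node (.leaf 16825) (.leaf 50105))) (.node (.node (.leaf 8249) (.leaf 41529)) (.node (.leaf 24889) (.leaf 58169)))) (.node (.node (.node (.leaf 249) (.leaf 33529)) (.node (.leaf 16889) (.leaf 50169))) (.node (.node (.leaf 8313) (.leaf 41593)) (.node (.leaf 24953) (.leaf 58233)))))))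

/-- Part of a collection table. -/
def tblCo3_7_10 : Trie := (.node (.node (.node (.node (.node (.node (.leaf 138) (.leaf 33418)) (.node (.leaf 16778) (.leaf 50058))) (.node (.node (.leaf 8202) (.leaf 41482)) (.node (.leaf 24842) (.leaf 58122)))) (.node (.node (.node (.leaf 202) (.leaf 33482)) (.node (.leaf 16842) (.leaf 50122))) (.node (.node (.leaf 8266) (.leaf 41546)) (.node (.leaf 24906) (.leaf 58186))))) (.node (.node (.node (.node (.leaf 170) (.leaf 33450)) (.node (.leaf 16810) (.leaf 50090))) (.node (.node (.leaf 8234) (.leaf 41514)) (.node (.leaf 24874) (.leaf 58154)))) (.node (.node (.node (.leaf 234) (.leaf 33514)) (.node (.leaf 16874) (.leaf 50154))) (.node (.node (.leaf 8298) (.leaf 41578)) (.node (.leaf 24938) (.leaf 58218)))))) (.node (.node (.node (.node (.node (.leaf 154) (.leaf 33434)) (.node (.leaf 16794) (.leaf 50074))) (.node (.node (.leaf 8218) (.leaf 41498)) (.node (.leaf 24858) (.leaf 58138)))) (.node (.node (.node (.leaf 218) (.leaf 33498)) (.node (.leaf 16858) (.leaf 50138))) (.node (.node (.leaf 8282) (.leaf 41562)) (.node (.leaf 24922) (.leaf 58202))))) (.node (.node (.node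 (.node (.leaf 186) (.leaf 33466)) (.node (.leaf 16826) (.leaf 50106))) (.node (.node (.leaf 8250) (.leaf 41530)) (.node (.leaf 24890) (.leaf 58170)))) (.node (.node (.node (.leaf 250) (.leaf 33530)) (.node (.leaf 16890) (.leaf 50170))) (.node (.node (.leaf 8314) (.leaf 41594)) (.node (.leaf 24954) (.leaf 58234)))))))

/-- Part of a collection table. -/
def tblCo3_7_11 : Trie := (.node (.node (.node (.node (.node (.node (.leaf 139) (.leaf 33419)) (.node (.leaf 16779) (.leaf 50059))) (.node (.node (.leaf 8203) (.leaf 41483)) (.node (.leaf 24843) (.leaf 58123)))) (.node (.node (.node (.leaf 203) (.leaf 33483)) (.node (.leaf 16843) (.leaf 50123))) (.node (.node (.leaf 8267) (.leaf 41547)) (.node (.leaf 24907) (.leaf 58187))))) (.node (.node (.node (.node (.leaf 171) (.leaf 33451)) (.node (.leaf 16811) (.leaf 50091))) (.node (.node (.leaf 8235) (.leaf 41515)) (.node (.leaf 24875) (.leaf 58155)))) (.node (.node (.node (.leaf 235) (.leaf 33515)) (.node (.leaf 16875) (.leaf 50155))) (.node (.node (.leaf 8299) (.leaf 41579)) (.node (.leaf 24939) (.leaf 58219)))))) (.node (.node (.node (.node (.node (.leaf 155)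 (.leaf 33435)) (.node (.leaf 16795) (.leaf 50075))) (.node (.node (.leaf 8219) (.leaf 41499)) (.node (.leaf 24859) (.leaf 58139)))) (.node (.node (.node (.leaf 219) (.leaf 33499)) (.node (.leaf 16859) (.leaf 50139))) (.node (.node (.leaf 8283) (.leaf 41563)) (.node (.leaf 24923) (.leaf 58203))))) (.node (.node (.node (.node (.leaf 187) (.leaf 33467)) (.node (.leaf 16827) (.leaf 50107))) (.node (.node (.leaf 8251) (.leaf 41531)) (.node (.leaf 24891) (.leaf 58171)))) (.node (.node (.node (.leaf 251) (.leaf 33531)) (.node (.leaf 16891) (.leaf 50171))) (.node (.node (.leaf 8315) (.leaf 41595)) (.node (.leaf 24955) (.leaf 58235)))))))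

/-- Part of a collection table. -/
def tblCo3_7_12 : Trie := (.node (.node (.node (.node (.node (.node (.leaf 140) (.leaf 33420)) (.node (.leaf 16780) (.leaf 50060))) (.node (.node (.leaf 8204) (.leaf 41484)) (.node (.leaf 24844) (.leaf 58124)))) (.node (.node (.node (.leaf 204) (.leaf 33484)) (.node (.leaf 16844) (.leaf 50124))) (.node (.node (.leaf 8268) (.leaf 41548)) (.node (.leaf 24908) (.leaf 58188))))) (.node (.node (.node (.node (.leaf 172) (.leaf 33452)) (.node (.leaf 16812) (.leaf 50092))) (.node (.node (.leaf 8236) (.leaf 41516)) (.node (.leaf 24876) (.leaf 58156)))) (.node (.node (.node (.leaf 236) (.leaf 33516)) (.node (.leaf 16876) (.leaf 50156))) (.node (.node (.leaf 8300) (.leaf 41580)) (.node (.leaf 24940) (.leaf 58220)))))) (.node (.node (.node (.node (.node (.leaf 156) (.leaf 33436)) (.node (.leaf 16796) (.leaf 50076))) (.node (.node (.leaf 8220) (.leaf 41500)) (.node (.leaf 24860) (.leaf 58140)))) (.node (.node (.node (.leaf 220) (.leaf 33500)) (.node (.leaf 16860) (.leaf 50140))) (.node (.node (.leaf 8284) (.leaf 41564)) (.node (.leaf 24924) (.leaf 58204))))) (.node (.node (.node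 (.node (.leaf 188) (.leaf 33468)) (.node (.leaf 16828) (.leaf 50108))) (.node (.node (.leaf 8252) (.leaf 41532)) (.node (.leaf 24892) (.leaf 58172)))) (.node (.node (.node (.leaf 252) (.leaf 33532)) (.node (.leaf 16892) (.leaf 50172))) (.node (.node (.leaf 8316) (.leaf 41596)) (.node (.leaf 24956) (.leaf 58236)))))))

/-- Part of a collection table. -/
def tblCo3_7_13 : Trie := (.node (.node (.node (.node (.node (.node (.leaf 141) (.leaf 33421)) (.node (.leaf 16781) (.leaf 50061))) (.node (.node (.leaf 8205) (.leaf 41485)) (.node (.leaf 24845) (.leaf 58125)))) (.node (.node (.node (.leaf 205) (.leaf 33485)) (.node (.leaf 16845) (.leaf 50125))) (.node (.node (.leaf 8269) (.leaf 41549)) (.node (.leaf 24909) (.leaf 58189))))) (.node (.node (.node (.node (.leaf 173) (.leaf 33453)) (.node (.leaf 16813) (.leaf 50093))) (.node (.node (.leaf 8237) (.leaf 41517)) (.node (.leaf 24877) (.leaf 58157)))) (.node (.node (.node (.leaf 237) (.leaf 33517)) (.node (.leaf 16877) (.leaf 50157))) (.node (.node (.leaf 8301) (.leaf 41581)) (.node (.leaf 24941) (.leaf 58221)))))) (.node (.node (.node (.node (.node (.leaf 157)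 (.leaf 33437)) (.node (.leaf 16797) (.leaf 50077))) (.node (.node (.leaf 8221) (.leaf 41501)) (.node (.leaf 24861) (.leaf 58141)))) (.node (.node (.node (.leaf 221) (.leaf 33501)) (.node (.leaf 16861) (.leaf 50141))) (.node (.node (.leaf 8285) (.leaf 41565)) (.node (.leaf 24925) (.leaf 58205))))) (.node (.node (.node (.node (.leaf 189) (.leaf 33469)) (.node (.leaf 16829) (.leaf 50109))) (.node (.node (.leaf 8253) (.leaf 41533)) (.node (.leaf 24893) (.leaf 58173)))) (.node (.node (.node (.leaf 253) (.leaf 33533)) (.node (.leaf 16893) (.leaf 50173))) (.node (.node (.leaf 8317) (.leaf 41597)) (.node (.leaf 24957) (.leaf 58237)))))))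

/-- Part of a collection table. -/
def tblCo3_7_14 : Trie := (.node (.node (.node (.node (.node (.node (.leaf 142) (.leaf 33422)) (.node (.leaf 16782) (.leaf 50062))) (.node (.node (.leaf 8206) (.leaf 41486)) (.node (.leaf 24846) (.leaf 58126)))) (.node (.node (.node (.leaf 206) (.leaf 33486)) (.node (.leaf 16846) (.leaf 50126))) (.node (.node (.leaf 8270) (.leaf 41550)) (.node (.leaf 24910) (.leaf 58190))))) (.node (.node (.node (.node (.leaf 174) (.leaf 33454)) (.node (.leaf 16814) (.leaf 50094))) (.node (.node (.leaf 8238) (.leaf 41518)) (.node (.leaf 24878) (.leaf 58158)))) (.node (.node (.node (.leaf 238) (.leaf 33518)) (.node (.leaf 16878) (.leaf 50158))) (.node (.node (.leaf 8302) (.leaf 41582)) (.node (.leaf 24942) (.leaf 58222)))))) (.node (.node (.node (.node (.node (.leaf 158) (.leaf 33438)) (.node (.leaf 16798) (.leaf 50078))) (.node (.node (.leaf 8222) (.leaf 41502)) (.node (.leaf 24862) (.leaf 58142)))) (.node (.node (.node (.leaf 222) (.leaf 33502)) (.node (.leaf 16862) (.leaf 50142))) (.node (.node (.leaf 8286) (.leaf 41566)) (.node (.leaf 24926) (.leaf 58206))))) (.node (.node (.node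 (.node (.leaf 190) (.leaf 33470)) (.node (.leaf 16830) (.leaf 50110))) (.node (.node (.leaf 8254) (.leaf 41534)) (.node (.leaf 24894) (.leaf 58174)))) (.node (.node (.node (.leaf 254) (.leaf 33534)) (.node (.leaf 16894) (.leaf 50174))) (.node (.node (.leaf 8318) (.leaf 41598)) (.node (.leaf 24958) (.leaf 58238)))))))

/-- Part of a collection table. -/
def tblCo3_7_15 : Trie := (.node (.node (.node (.node (.node (.node (.leaf 143) (.leaf 33423)) (.node (.leaf 16783) (.leaf 50063))) (.node (.node (.leaf 8207) (.leaf 41487)) (.node (.leaf 24847) (.leaf 58127)))) (.node (.node (.node (.leaf 207) (.leaf 33487)) (.node (.leaf 16847) (.leaf 50127))) (.node (.node (.leaf 8271) (.leaf 41551)) (.node (.leaf 24911) (.leaf 58191))))) (.node (.node (.node (.node (.leaf 175) (.leaf 33455)) (.node (.leaf 16815) (.leaf 50095))) (.node (.node (.leaf 8239) (.leaf 41519)) (.node (.leaf 24879) (.leaf 58159)))) (.node (.node (.node (.leaf 239) (.leaf 33519)) (.node (.leaf 16879) (.leaf 50159))) (.node (.node (.leaf 8303) (.leaf 41583)) (.node (.leaf 24943) (.leaf 58223)))))) (.node (.node (.node (.node (.node (.leaf 159)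 (.leaf 33439)) (.node (.leaf 16799) (.leaf 50079))) (.node (.node (.leaf 8223) (.leaf 41503)) (.node (.leaf 24863) (.leaf 58143)))) (.node (.node (.node (.leaf 223) (.leaf 33503)) (.node (.leaf 16863) (.leaf 50143))) (.node (.node (.leaf 8287) (.leaf 41567)) (.node (.leaf 24927) (.leaf 58207))))) (.node (.node (.node (.node (.leaf 191) (.leaf 33471)) (.node (.leaf 16831) (.leaf 50111))) (.node (.node (.leaf 8255) (.leaf 41535)) (.node (.leaf 24895) (.leaf 58175)))) (.node (.node (.node (.leaf 255) (.leaf 33535)) (.node (.leaf 16895) (.leaf 50175))) (.node (.node (.leaf 8319) (.leaf 41599)) (.node (.leaf 24959) (.leaf 58239)))))))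

/-- Part of a collection table. -/
def tblCo3_8_0 : Trie := (.node (.node (.node (.node (.node (.node (.leaf 256) (.leaf 4864)) (.node (.leaf 2048) (.leaf 6656))) (.node (.node (.leaf 384) (.leaf 4992)) (.node (.leaf 2176) (.leaf 6784)))) (.node (.node (.node (.leaf 320) (.leaf 4928)) (.node (.leaf 2112) (.leaf 6720))) (.node (.node (.leaf 448) (.leaf 5056)) (.node (.leaf 2240) (.leaf 6848))))) (.node (.node (.node (.node (.leaf 288) (.leaf 4896)) (.node (.leaf 2080) (.leaf 6688))) (.node (.node (.leaf 416) (.leaf 5024)) (.node (.leaf 2208) (.leaf 6816)))) (.node (.node (.node (.leaf 352) (.leaf 4960)) (.node (.leaf 2144) (.leaf 6752))) (.node (.node (.leaf 480) (.leaf 5088)) (.node (.leaf 2272) (.leaf 6880)))))) (.node (.node (.node (.node (.node (.leaf 272) (.leaf 4880)) (.node (.leaf 2064) (.leaf 6672))) (.node (.node (.leaf 400) (.leaf 5008)) (.node (.leaf 2192) (.leaf 6800)))) (.node (.node (.node (.leaf 336) (.leaf 4944)) (.node (.leaf 2128) (.leaf 6736))) (.node (.node (.leaf 464) (.leaf 5072)) (.node (.leaf 2256) (.leaf 6864))))) (.node (.node (.node (.node (.leaf 304) (.leaf 4912)) (.node (.leaf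 2096) (.leaf 6704))) (.node (.node (.leaf 432) (.leaf 5040)) (.node (.leaf 2224) (.leaf 6832)))) (.node (.node (.node (.leaf 368) (.leaf 4976)) (.node (.leaf 2160) (.leaf 6768))) (.node (.node (.leaf 496) (.leaf 5104)) (.node (.leaf 2288) (.leaf 6896)))))))

/-- Part of a collection table. -/
def tblCo3_8_1 : Trie := (.node (.node (.node (.node (.node (.node (.leaf 257) (.leaf 4865)) (.node (.leaf 2049) (.leaf 6657))) (.node (.node (.leaf 385) (.leaf 4993)) (.node (.leaf 2177) (.leaf 6785)))) (.node (.node (.node (.leaf 321) (.leaf 4929)) (.node (.leaf 2113) (.leaf 6721))) (.node (.node (.leaf 449) (.leaf 5057)) (.node (.leaf 2241) (.leaf 6849))))) (.node (.node (.node (.node (.leaf 289) (.leaf 4897)) (.node (.leaf 2081) (.leaf 6689))) (.node (.node (.leaf 417) (.leaf 5025)) (.node (.leaf 2209) (.leaf 6817)))) (.node (.node (.node (.leaf 353) (.leaf 4961)) (.node (.leaf 2145) (.leaf 6753))) (.node (.node (.leaf 481) (.leaf 5089)) (.node (.leaf 2273) (.leaf 6881)))))) (.node (.node (.node (.node (.node (.leaf 273) (.leaf 4881)) (.node (.leaf 2065) (.leaf 6673))) (.node (.node (.leaf 401) (.leaf 5009))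 (.node (.leaf 2193) (.leaf 6801)))) (.node (.node (.node (.leaf 337) (.leaf 4945)) (.node (.leaf 2129) (.leaf 6737))) (.node (.node (.leaf 465) (.leaf 5073)) (.node (.leaf 2257) (.leaf 6865))))) (.node (.node (.node (.node (.leaf 305) (.leaf 4913)) (.node (.leaf 2097) (.leaf 6705))) (.node (.node (.leaf 433) (.leaf 5041)) (.node (.leaf 2225) (.leaf 6833)))) (.node (.node (.node (.leaf 369) (.leaf 4977)) (.node (.leaf 2161) (.leaf 6769))) (.node (.node (.leaf 497) (.leaf 5105)) (.node (.leaf 2289) (.leaf 6897)))))))

/-- Part of a collection table. -/
def tblCo3_8_2 : Trie := (.node (.node (.node (.node (.node (.node (.leaf 258) (.leaf 4866)) (.node (.leaf 2050) (.leaf 6658))) (.node (.node (.leaf 386) (.leaf 4994)) (.node (.leaf 2178) (.leaf 6786)))) (.node (.node (.node (.leaf 322) (.leaf 4930)) (.node (.leaf 2114) (.leaf 6722))) (.node (.node (.leaf 450) (.leaf 5058)) (.node (.leaf 2242) (.leaf 6850))))) (.node (.node (.node (.node (.leaf 290) (.leaf 4898)) (.node (.leaf 2082) (.leaf 6690))) (.node (.node (.leaf 418) (.leaf 5026)) (.node (.leaf 2210) (.leaf 6818)))) (.node (.node (.node (.leaf 354)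 (.leaf 4962)) (.node (.leaf 2146) (.leaf 6754))) (.node (.node (.leaf 482) (.leaf 5090)) (.node (.leaf 2274) (.leaf 6882)))))) (.node (.node (.node (.node (.node (.leaf 274) (.leaf 4882)) (.node (.leaf 2066) (.leaf 6674))) (.node (.node (.leaf 402) (.leaf 5010)) (.node (.leaf 2194) (.leaf 6802)))) (.node (.node (.node (.leaf 338) (.leaf 4946)) (.node (.leaf 2130) (.leaf 6738))) (.node (.node (.leaf 466) (.leaf 5074)) (.node (.leaf 2258) (.leaf 6866))))) (.node (.node (.node (.node (.leaf 306) (.leaf 4914)) (.node (.leaf 2098) (.leaf 6706))) (.node (.node (.leaf 434) (.leaf 5042)) (.node (.leaf 2226) (.leaf 6834)))) (.node (.node (.node (.leaf 370) (.leaf 4978)) (.node (.leaf 2162) (.leaf 6770))) (.node (.node (.leaf 498) (.leaf 5106)) (.node (.leaf 2290) (.leaf 6898)))))))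

/-- Part of a collection table. -/
def tblCo3_8_3 : Trie := (.node (.node (.node (.node (.node (.node (.leaf 259) (.leaf 4867)) (.node (.leaf 2051) (.leaf 6659))) (.node (.node (.leaf 387) (.leaf 4995)) (.node (.leaf 2179) (.leaf 6787)))) (.node (.node (.node (.leaf 323) (.leaf 4931)) (.node (.leaf 2115) (.leaf 6723))) (.node (.node (.leaf 451) (.leaf 5059)) (.node (.leaf 2243) (.leaf 6851))))) (.node (.node (.node (.node (.leaf 291) (.leaf 4899)) (.node (.leaf 2083) (.leaf 6691))) (.node (.node (.leaf 419) (.leaf 5027)) (.node (.leaf 2211) (.leaf 6819)))) (.node (.node (.node (.leaf 355) (.leaf 4963)) (.node (.leaf 2147) (.leaf 6755))) (.node (.node (.leaf 483) (.leaf 5091)) (.node (.leaf 2275) (.leaf 6883)))))) (.node (.node (.node (.node (.node (.leaf 275) (.leaf 4883)) (.node (.leaf 2067) (.leaf 6675))) (.node (.node (.leaf 403) (.leaf 5011)) (.node (.leaf 2195) (.leaf 6803)))) (.node (.node (.node (.leaf 339) (.leaf 4947)) (.node (.leaf 2131) (.leaf 6739))) (.node (.node (.leaf 467) (.leaf 5075)) (.node (.leaf 2259) (.leaf 6867))))) (.node (.node (.node (.node (.leaf 307) (.leaf 4915)) (.node (.leaf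 2099) (.leaf 6707))) (.node (.node (.leaf 435) (.leaf 5043)) (.node (.leaf 2227) (.leaf 6835)))) (.node (.node (.node (.leaf 371) (.leaf 4979)) (.node (.leaf 2163) (.leaf 6771))) (.node (.node (.leaf 499) (.leaf 5107)) (.node (.leaf 2291) (.leaf 6899)))))))

/-- Part of a collection table. -/
def tblCo3_8_4 : Trie := (.node (.node (.node (.node (.node (.node (.leaf 260) (.leaf 4868)) (.node (.leaf 2052) (.leaf 6660))) (.node (.node (.leaf 388) (.leaf 4996)) (.node (.leaf 2180) (.leaf 6788)))) (.node (.node (.node (.leaf 324) (.leaf 4932)) (.node (.leaf 2116) (.leaf 6724))) (.node (.node (.leaf 452) (.leaf 5060)) (.node (.leaf 2244) (.leaf 6852))))) (.node (.node (.node (.node (.leaf 292) (.leaf 4900)) (.node (.leaf 2084) (.leaf 6692))) (.node (.node (.leaf 420) (.leaf 5028)) (.node (.leaf 2212) (.leaf 6820)))) (.node (.node (.node (.leaf 356) (.leaf 4964)) (.node (.leaf 2148) (.leaf 6756))) (.node (.node (.leaf 484) (.leaf 5092)) (.node (.leaf 2276) (.leaf 6884)))))) (.node (.node (.node (.node (.node (.leaf 276) (.leaf 4884)) (.node (.leaf 2068) (.leaf 6676))) (.node (.node (.leaf 404) (.leaf 5012))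 (.node (.leaf 2196) (.leaf 6804)))) (.node (.node (.node (.leaf 340) (.leaf 4948)) (.node (.leaf 2132) (.leaf 6740))) (.node (.node (.leaf 468) (.leaf 5076)) (.node (.leaf 2260) (.leaf 6868))))) (.node (.node (.node (.node (.leaf 308) (.leaf 4916)) (.node (.leaf 2100) (.leaf 6708))) (.node (.node (.leaf 436) (.leaf 5044)) (.node (.leaf 2228) (.leaf 6836)))) (.node (.node (.node (.leaf 372) (.leaf 4980)) (.node (.leaf 2164) (.leaf 6772))) (.node (.node (.leaf 500) (.leaf 5108)) (.node (.leaf 2292) (.leaf 6900)))))))

/-- Part of a collection table. -/
def tblCo3_8_5 : Trie := (.node (.node (.node (.node (.node (.node (.leaf 261) (.leaf 4869)) (.node (.leaf 2053) (.leaf 6661))) (.node (.node (.leaf 389) (.leaf 4997)) (.node (.leaf 2181) (.leaf 6789)))) (.node (.node (.node (.leaf 325) (.leaf 4933)) (.node (.leaf 2117) (.leaf 6725))) (.node (.node (.leaf 453) (.leaf 5061)) (.node (.leaf 2245) (.leaf 6853))))) (.node (.node (.node (.node (.leaf 293) (.leaf 4901)) (.node (.leaf 2085) (.leaf 6693))) (.node (.node (.leaf 421) (.leaf 5029)) (.node (.leaf 2213) (.leaf 6821)))) (.node (.node (.node (.leaf 357)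 (.leaf 4965)) (.node (.leaf 2149) (.leaf 6757))) (.node (.node (.leaf 485) (.leaf 5093)) (.node (.leaf 2277) (.leaf 6885)))))) (.node (.node (.node (.node (.node (.leaf 277) (.leaf 4885)) (.node (.leaf 2069) (.leaf 6677))) (.node (.node (.leaf 405) (.leaf 5013)) (.node (.leaf 2197) (.leaf 6805)))) (.node (.node (.node (.leaf 341) (.leaf 4949)) (.node (.leaf 2133) (.leaf 6741))) (.node (.node (.leaf 469) (.leaf 5077)) (.node (.leaf 2261) (.leaf 6869))))) (.node (.node (.node (.node (.leaf 309) (.leaf 4917)) (.node (.leaf 2101) (.leaf 6709))) (.node (.node (.leaf 437) (.leaf 5045)) (.node (.leaf 2229) (.leaf 6837)))) (.node (.node (.node (.leaf 373) (.leaf 4981)) (.node (.leaf 2165) (.leaf 6773))) (.node (.node (.leaf 501) (.leaf 5109)) (.node (.leaf 2293) (.leaf 6901)))))))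

/-- Part of a collection table. -/
def tblCo3_8_6 : Trie := (.node (.node (.node (.node (.node (.node (.leaf 262) (.leaf 4870)) (.node (.leaf 2054) (.leaf 6662))) (.node (.node (.leaf 390) (.leaf 4998)) (.node (.leaf 2182) (.leaf 6790)))) (.node (.node (.node (.leaf 326) (.leaf 4934)) (.node (.leaf 2118) (.leaf 6726))) (.node (.node (.leaf 454) (.leaf 5062)) (.node (.leaf 2246) (.leaf 6854))))) (.node (.node (.node (.node (.leaf 294) (.leaf 4902)) (.node (.leaf 2086) (.leaf 6694))) (.node (.node (.leaf 422) (.leaf 5030)) (.node (.leaf 2214) (.leaf 6822)))) (.node (.node (.node (.leaf 358) (.leaf 4966)) (.node (.leaf 2150) (.leaf 6758))) (.node (.node (.leaf 486) (.leaf 5094)) (.node (.leaf 2278) (.leaf 6886)))))) (.node (.node (.node (.node (.node (.leaf 278) (.leaf 4886)) (.node (.leaf 2070) (.leaf 6678))) (.node (.node (.leaf 406) (.leaf 5014)) (.node (.leaf 2198) (.leaf 6806)))) (.node (.node (.node (.leaf 342) (.leaf 4950)) (.node (.leaf 2134) (.leaf 6742))) (.node (.node (.leaf 470) (.leaf 5078)) (.node (.leaf 2262) (.leaf 6870))))) (.node (.node (.node (.node (.leaf 310) (.leaf 4918)) (.node (.leaf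 2102) (.leaf 6710))) (.node (.node (.leaf 438) (.leaf 5046)) (.node (.leaf 2230) (.leaf 6838)))) (.node (.node (.node (.leaf 374) (.leaf 4982)) (.node (.leaf 2166) (.leaf 6774))) (.node (.node (.leaf 502) (.leaf 5110)) (.node (.leaf 2294) (.leaf 6902)))))))

/-- Part of a collection table. -/
def tblCo3_8_7 : Trie := (.node (.node (.node (.node (.node (.node (.leaf 263) (.leaf 4871)) (.node (.leaf 2055) (.leaf 6663))) (.node (.node (.leaf 391) (.leaf 4999)) (.node (.leaf 2183) (.leaf 6791)))) (.node (.node (.node (.leaf 327) (.leaf 4935)) (.node (.leaf 2119) (.leaf 6727))) (.node (.node (.leaf 455) (.leaf 5063)) (.node (.leaf 2247) (.leaf 6855))))) (.node (.node (.node (.node (.leaf 295) (.leaf 4903)) (.node (.leaf 2087) (.leaf 6695))) (.node (.node (.leaf 423) (.leaf 5031)) (.node (.leaf 2215) (.leaf 6823)))) (.node (.node (.node (.leaf 359) (.leaf 4967)) (.node (.leaf 2151) (.leaf 6759))) (.node (.node (.leaf 487) (.leaf 5095)) (.node (.leaf 2279) (.leaf 6887)))))) (.node (.node (.node (.node (.node (.leaf 279) (.leaf 4887)) (.node (.leaf 2071) (.leaf 6679))) (.node (.node (.leaf 407) (.leaf 5015))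 (.node (.leaf 2199) (.leaf 6807)))) (.node (.node (.node (.leaf 343) (.leaf 4951)) (.node (.leaf 2135) (.leaf 6743))) (.node (.node (.leaf 471) (.leaf 5079)) (.node (.leaf 2263) (.leaf 6871))))) (.node (.node (.node (.node (.leaf 311) (.leaf 4919)) (.node (.leaf 2103) (.leaf 6711))) (.node (.node (.leaf 439) (.leaf 5047)) (.node (.leaf 2231) (.leaf 6839)))) (.node (.node (.node (.leaf 375) (.leaf 4983)) (.node (.leaf 2167) (.leaf 6775))) (.node (.node (.leaf 503) (.leaf 5111)) (.node (.leaf 2295) (.leaf 6903)))))))

/-- Part of a collection table. -/
def tblCo3_8_8 : Trie := (.node (.node (.node (.node (.node (.node (.leaf 264) (.leaf 4872)) (.node (.leaf 2056) (.leaf 6664))) (.node (.node (.leaf 392) (.leaf 5000)) (.node (.leaf 2184) (.leaf 6792)))) (.node (.node (.node (.leaf 328) (.leaf 4936)) (.node (.leaf 2120) (.leaf 6728))) (.node (.node (.leaf 456) (.leaf 5064)) (.node (.leaf 2248) (.leaf 6856))))) (.node (.node (.node (.node (.leaf 296) (.leaf 4904)) (.node (.leaf 2088) (.leaf 6696))) (.node (.node (.leaf 424) (.leaf 5032)) (.node (.leaf 2216) (.leaf 6824)))) (.node (.node (.node (.leaf 360)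 (.leaf 4968)) (.node (.leaf 2152) (.leaf 6760))) (.node (.node (.leaf 488) (.leaf 5096)) (.node (.leaf 2280) (.leaf 6888)))))) (.node (.node (.node (.node (.node (.leaf 280) (.leaf 4888)) (.node (.leaf 2072) (.leaf 6680))) (.node (.node (.leaf 408) (.leaf 5016)) (.node (.leaf 2200) (.leaf 6808)))) (.node (.node (.node (.leaf 344) (.leaf 4952)) (.node (.leaf 2136) (.leaf 6744))) (.node (.node (.leaf 472) (.leaf 5080)) (.node (.leaf 2264) (.leaf 6872))))) (.node (.node (.node (.node (.leaf 312) (.leaf 4920)) (.node (.leaf 2104) (.leaf 6712))) (.node (.node (.leaf 440) (.leaf 5048)) (.node (.leaf 2232) (.leaf 6840)))) (.node (.node (.node (.leaf 376) (.leaf 4984)) (.node (.leaf 2168) (.leaf 6776))) (.node (.node (.leaf 504) (.leaf 5112)) (.node (.leaf 2296) (.leaf 6904)))))))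

/-- Part of a collection table. -/
def tblCo3_8_9 : Trie := (.node (.node (.node (.node (.node (.node (.leaf 265) (.leaf 4873)) (.node (.leaf 2057) (.leaf 6665))) (.node (.node (.leaf 393) (.leaf 5001)) (.node (.leaf 2185) (.leaf 6793)))) (.node (.node (.node (.leaf 329) (.leaf 4937)) (.node (.leaf 2121) (.leaf 6729))) (.node (.node (.leaf 457) (.leaf 5065)) (.node (.leaf 2249) (.leaf 6857))))) (.node (.node (.node (.node (.leaf 297) (.leaf 4905)) (.node (.leaf 2089) (.leaf 6697))) (.node (.node (.leaf 425) (.leaf 5033)) (.node (.leaf 2217) (.leaf 6825)))) (.node (.node (.node (.leaf 361) (.leaf 4969)) (.node (.leaf 2153) (.leaf 6761))) (.node (.node (.leaf 489) (.leaf 5097)) (.node (.leaf 2281) (.leaf 6889)))))) (.node (.node (.node (.node (.node (.leaf 281) (.leaf 4889)) (.node (.leaf 2073) (.leaf 6681))) (.node (.node (.leaf 409) (.leaf 5017)) (.node (.leaf 2201) (.leaf 6809)))) (.node (.node (.node (.leaf 345) (.leaf 4953)) (.node (.leaf 2137) (.leaf 6745))) (.node (.node (.leaf 473) (.leaf 5081)) (.node (.leaf 2265) (.leaf 6873))))) (.node (.node (.node (.node (.leaf 313) (.leaf 4921)) (.node (.leaf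 2105) (.leaf 6713))) (.node (.node (.leaf 441) (.leaf 5049)) (.node (.leaf 2233) (.leaf 6841)))) (.node (.node (.node (.leaf 377) (.leaf 4985)) (.node (.leaf 2169) (.leaf 6777))) (.node (.node (.leaf 505) (.leaf 5113)) (.node (.leaf 2297) (.leaf 6905)))))))

/-- Part of a collection table. -/
def tblCo3_8_10 : Trie := (.node (.node (.node (.node (.node (.node (.leaf 266) (.leaf 4874)) (.node (.leaf 2058) (.leaf 6666))) (.node (.node (.leaf 394) (.leaf 5002)) (.node (.leaf 2186) (.leaf 6794)))) (.node (.node (.node (.leaf 330) (.leaf 4938)) (.node (.leaf 2122) (.leaf 6730))) (.node (.node (.leaf 458) (.leaf 5066)) (.node (.leaf 2250) (.leaf 6858))))) (.node (.node (.node (.node (.leaf 298) (.leaf 4906)) (.node (.leaf 2090) (.leaf 6698))) (.node (.node (.leaf 426) (.leaf 5034)) (.node (.leaf 2218) (.leaf 6826)))) (.node (.node (.node (.leaf 362) (.leaf 4970)) (.node (.leaf 2154) (.leaf 6762))) (.node (.node (.leaf 490) (.leaf 5098)) (.node (.leaf 2282) (.leaf 6890)))))) (.node (.node (.node (.node (.node (.leaf 282) (.leaf 4890)) (.node (.leaf 2074) (.leaf 6682))) (.node (.node (.leaf 410) (.leaf 5018))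 (.node (.leaf 2202) (.leaf 6810)))) (.node (.node (.node (.leaf 346) (.leaf 4954)) (.node (.leaf 2138) (.leaf 6746))) (.node (.node (.leaf 474) (.leaf 5082)) (.node (.leaf 2266) (.leaf 6874))))) (.node (.node (.node (.node (.leaf 314) (.leaf 4922)) (.node (.leaf 2106) (.leaf 6714))) (.node (.node (.leaf 442) (.leaf 5050)) (.node (.leaf 2234) (.leaf 6842)))) (.node (.node (.node (.leaf 378) (.leaf 4986)) (.node (.leaf 2170) (.leaf 6778))) (.node (.node (.leaf 506) (.leaf 5114)) (.node (.leaf 2298) (.leaf 6906)))))))

/-- Part of a collection table. -/
def tblCo3_8_11 : Trie := (.node (.node (.node (.node (.node (.node (.leaf 267) (.leaf 4875)) (.node (.leaf 2059) (.leaf 6667))) (.node (.node (.leaf 395) (.leaf 5003)) (.node (.leaf 2187) (.leaf 6795)))) (.node (.node (.node (.leaf 331) (.leaf 4939)) (.node (.leaf 2123) (.leaf 6731))) (.node (.node (.leaf 459) (.leaf 5067)) (.node (.leaf 2251) (.leaf 6859))))) (.node (.node (.node (.node (.leaf 299) (.leaf 4907)) (.node (.leaf 2091) (.leaf 6699))) (.node (.node (.leaf 427) (.leaf 5035)) (.node (.leaf 2219) (.leaf 6827)))) (.node (.node (.node (.leaf 363)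 (.leaf 4971)) (.node (.leaf 2155) (.leaf 6763))) (.node (.node (.leaf 491) (.leaf 5099)) (.node (.leaf 2283) (.leaf 6891)))))) (.node (.node (.node (.node (.node (.leaf 283) (.leaf 4891)) (.node (.leaf 2075) (.leaf 6683))) (.node (.node (.leaf 411) (.leaf 5019)) (.node (.leaf 2203) (.leaf 6811)))) (.node (.node (.node (.leaf 347) (.leaf 4955)) (.node (.leaf 2139) (.leaf 6747))) (.node (.node (.leaf 475) (.leaf 5083)) (.node (.leaf 2267) (.leaf 6875))))) (.node (.node (.node (.node (.leaf 315) (.leaf 4923)) (.node (.leaf 2107) (.leaf 6715))) (.node (.node (.leaf 443) (.leaf 5051)) (.node (.leaf 2235) (.leaf 6843)))) (.node (.node (.node (.leaf 379) (.leaf 4987)) (.node (.leaf 2171) (.leaf 6779))) (.node (.node (.leaf 507) (.leaf 5115)) (.node (.leaf 2299) (.leaf 6907)))))))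

/-- Part of a collection table. -/
def tblCo3_8_12 : Trie := (.node (.node (.node (.node (.node (.node (.leaf 268) (.leaf 4876)) (.node (.leaf 2060) (.leaf 6668))) (.node (.node (.leaf 396) (.leaf 5004)) (.node (.leaf 2188) (.leaf 6796)))) (.node (.node (.node (.leaf 332) (.leaf 4940)) (.node (.leaf 2124) (.leaf 6732))) (.node (.node (.leaf 460) (.leaf 5068)) (.node (.leaf 2252) (.leaf 6860))))) (.node (.node (.node (.node (.leaf 300) (.leaf 4908)) (.node (.leaf 2092) (.leaf 6700))) (.node (.node (.leaf 428) (.leaf 5036)) (.node (.leaf 2220) (.leaf 6828)))) (.node (.node (.node (.leaf 364) (.leaf 4972)) (.node (.leaf 2156) (.leaf 6764))) (.node (.node (.leaf 492) (.leaf 5100)) (.node (.leaf 2284) (.leaf 6892)))))) (.node (.node (.node (.node (.node (.leaf 284) (.leaf 4892)) (.node (.leaf 2076) (.leaf 6684))) (.node (.node (.leaf 412) (.leaf 5020)) (.node (.leaf 2204) (.leaf 6812)))) (.node (.node (.node (.leaf 348) (.leaf 4956)) (.node (.leaf 2140) (.leaf 6748))) (.node (.node (.leaf 476) (.leaf 5084)) (.node (.leaf 2268) (.leaf 6876))))) (.node (.node (.node (.node (.leaf 316) (.leaf 4924)) (.node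 (.leaf 2108) (.leaf 6716))) (.node (.node (.leaf 444) (.leaf 5052)) (.node (.leaf 2236) (.leaf 6844)))) (.node (.node (.node (.leaf 380) (.leaf 4988)) (.node (.leaf 2172) (.leaf 6780))) (.node (.node (.leaf 508) (.leaf 5116)) (.node (.leaf 2300) (.leaf 6908)))))))

/-- Part of a collection table. -/
def tblCo3_8_13 : Trie := (.node (.node (.node (.node (.node (.node (.leaf 269) (.leaf 4877)) (.node (.leaf 2061) (.leaf 6669))) (.node (.node (.leaf 397) (.leaf 5005)) (.node (.leaf 2189) (.leaf 6797)))) (.node (.node (.node (.leaf 333) (.leaf 4941)) (.node (.leaf 2125) (.leaf 6733))) (.node (.node (.leaf 461) (.leaf 5069)) (.node (.leaf 2253) (.leaf 6861))))) (.node (.node (.node (.node (.leaf 301) (.leaf 4909)) (.node (.leaf 2093) (.leaf 6701))) (.node (.node (.leaf 429) (.leaf 5037)) (.node (.leaf 2221) (.leaf 6829)))) (.node (.node (.node (.leaf 365) (.leaf 4973)) (.node (.leaf 2157) (.leaf 6765))) (.node (.node (.leaf 493) (.leaf 5101)) (.node (.leaf 2285) (.leaf 6893)))))) (.node (.node (.node (.node (.node (.leaf 285) (.leaf 4893)) (.node (.leaf 2077) (.leaf 6685))) (.node (.node (.leaf 413) (.leaf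 5021)) (.node (.leaf 2205) (.leaf 6813)))) (.node (.node (.node (.leaf 349) (.leaf 4957)) (.node (.leaf 2141) (.leaf 6749))) (.node (.node (.leaf 477) (.leaf 5085)) (.node (.leaf 2269) (.leaf 6877))))) (.node (.node (.node (.node (.leaf 317) (.leaf 4925)) (.node (.leaf 2109) (.leaf 6717))) (.node (.node (.leaf 445) (.leaf 5053)) (.node (.leaf 2237) (.leaf 6845)))) (.node (.node (.node (.leaf 381) (.leaf 4989)) (.node (.leaf 2173) (.leaf 6781))) (.node (.node (.leaf 509) (.leaf 5117)) (.node (.leaf 2301) (.leaf 6909)))))))

/-- Part of a collection table. -/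
def tblCo3_8_14 : Trie := (.node (.node (.node (.node (.node (.node (.leaf 270) (.leaf 4878)) (.node (.leaf 2062) (.leaf 6670))) (.node (.node (.leaf 398) (.leaf 5006)) (.node (.leaf 2190) (.leaf 6798)))) (.node (.node (.node (.leaf 334) (.leaf 4942)) (.node (.leaf 2126) (.leaf 6734))) (.node (.node (.leaf 462) (.leaf 5070)) (.node (.leaf 2254) (.leaf 6862))))) (.node (.node (.node (.node (.leaf 302) (.leaf 4910)) (.node (.leaf 2094) (.leaf 6702))) (.node (.node (.leaf 430) (.leaf 5038)) (.node (.leaf 2222) (.leaf 6830)))) (.node (.node (.node (.leaf 366) (.leaf 4974)) (.node (.leaf 2158) (.leaf 6766))) (.node (.node (.leaf 494) (.leaf 5102)) (.node (.leaf 2286) (.leaf 6894)))))) (.node (.node (.node (.node (.node (.leaf 286) (.leaf 4894)) (.node (.leaf 2078) (.leaf 6686))) (.node (.node (.leaf 414) (.leaf 5022)) (.node (.leaf 2206) (.leaf 6814)))) (.node (.node (.node (.leaf 350) (.leaf 4958)) (.node (.leaf 2142) (.leaf 6750))) (.node (.node (.leaf 478) (.leaf 5086)) (.node (.leaf 2270) (.leaf 6878))))) (.node (.node (.node (.node (.leaf 318) (.leaf 4926)) (.node (.leaf 2110) (.leaf 6718))) (.node (.node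 (.leaf 446) (.leaf 5054)) (.node (.leaf 2238) (.leaf 6846)))) (.node (.node (.node (.leaf 382) (.leaf 4990)) (.node (.leaf 2174) (.leaf 6782))) (.node (.node (.leaf 510) (.leaf 5118)) (.node (.leaf 2302) (.leaf 6910)))))))

/-- Part of a collection table. -/
def tblCo3_8_15 : Trie := (.node (.node (.node (.node (.node (.node (.leaf 271) (.leaf 4879)) (.node (.leaf 2063) (.leaf 6671))) (.node (.node (.leaf 399) (.leaf 5007)) (.node (.leaf 2191) (.leaf 6799)))) (.node (.node (.node (.leaf 335) (.leaf 4943)) (.node (.leaf 2127) (.leaf 6735))) (.node (.node (.leaf 463) (.leaf 5071)) (.node (.leaf 2255) (.leaf 6863))))) (.node (.node (.node (.node (.leaf 303) (.leaf 4911)) (.node (.leaf 2095) (.leaf 6703))) (.node (.node (.leaf 431) (.leaf 5039)) (.node (.leaf 2223) (.leaf 6831)))) (.node (.node (.node (.leaf 367) (.leaf 4975)) (.node (.leaf 2159) (.leaf 6767))) (.node (.node (.leaf 495) (.leaf 5103)) (.node (.leaf 2287) (.leaf 6895)))))) (.node (.node (.node (.node (.node (.leaf 287) (.leaf 4895)) (.node (.leaf 2079) (.leaf 6687))) (.node (.node (.leaf 415) (.leaf 5023)) (.node (.leaf 2207) (.leaf 6815))))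 (.node (.node (.node (.leaf 351) (.leaf 4959)) (.node (.leaf 2143) (.leaf 6751))) (.node (.node (.leaf 479) (.leaf 5087)) (.node (.leaf 2271) (.leaf 6879))))) (.node (.node (.node (.node (.leaf 319) (.leaf 4927)) (.node (.leaf 2111) (.leaf 6719))) (.node (.node (.leaf 447) (.leaf 5055)) (.node (.leaf 2239) (.leaf 6847)))) (.node (.node (.node (.leaf 383) (.leaf 4991)) (.node (.leaf 2175) (.leaf 6783))) (.node (.node (.leaf 511) (.leaf 5119)) (.node (.leaf 2303) (.leaf 6911)))))))

/-- Part of a collection table. -/
def tblCo3_9_0 : Trie := (.node (.node (.node (.node (.node (.node (.leaf 512) (.leaf 1024)) (.node (.leaf 768) (.leaf 1280))) (.node (.node (.leaf 640) (.leaf 1152)) (.node (.leaf 896) (.leaf 1408)))) (.node (.node (.node (.leaf 576) (.leaf 1088)) (.node (.leaf 832) (.leaf 1344))) (.node (.node (.leaf 704) (.leaf 1216)) (.node (.leaf 960) (.leaf 1472))))) (.node (.node (.node (.node (.leaf 544) (.leaf 1056)) (.node (.leaf 800) (.leaf 1312))) (.node (.node (.leaf 672) (.leaf 1184)) (.node (.leaf 928) (.leaf 1440)))) (.node (.node (.node (.leaf 608) (.leaf 1120)) (.node (.leaf 864) (.leaf 1376)))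 (.node (.node (.leaf 736) (.leaf 1248)) (.node (.leaf 992) (.leaf 1504)))))) (.node (.node (.node (.node (.node (.leaf 528) (.leaf 1040)) (.node (.leaf 784) (.leaf 1296))) (.node (.node (.leaf 656) (.leaf 1168)) (.node (.leaf 912) (.leaf 1424)))) (.node (.node (.node (.leaf 592) (.leaf 1104)) (.node (.leaf 848) (.leaf 1360))) (.node (.node (.leaf 720) (.leaf 1232)) (.node (.leaf 976) (.leaf 1488))))) (.node (.node (.node (.node (.leaf 560) (.leaf 1072)) (.node (.leaf 816) (.leaf 1328))) (.node (.node (.leaf 688) (.leaf 1200)) (.node (.leaf 944) (.leaf 1456)))) (.node (.node (.node (.leaf 624) (.leaf 1136)) (.node (.leaf 880) (.leaf 1392))) (.node (.node (.leaf 752) (.leaf 1264)) (.node (.leaf 1008) (.leaf 1520)))))))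

/-- Part of a collection table. -/
def tblCo3_9_1 : Trie := (.node (.node (.node (.node (.node (.node (.leaf 513) (.leaf 1025)) (.node (.leaf 769) (.leaf 1281))) (.node (.node (.leaf 641) (.leaf 1153)) (.node (.leaf 897) (.leaf 1409)))) (.node (.node (.node (.leaf 577) (.leaf 1089)) (.node (.leaf 833) (.leaf 1345))) (.node (.node (.leaf 705) (.leaf 1217)) (.node (.leaf 961) (.leaf 1473))))) (.node (.node (.node (.node (.leaf 545) (.leaf 1057)) (.node (.leaf 801) (.leaf 1313))) (.node (.node (.leaf 673) (.leaf 1185)) (.node (.leaf 929) (.leaf 1441)))) (.node (.node (.node (.leaf 609) (.leaf 1121)) (.node (.leaf 865) (.leaf 1377))) (.node (.node (.leaf 737) (.leaf 1249)) (.node (.leaf 993) (.leaf 1505)))))) (.node (.node (.node (.node (.node (.leaf 529) (.leaf 1041)) (.node (.leaf 785) (.leaf 1297))) (.node (.node (.leaf 657) (.leaf 1169)) (.node (.leaf 913) (.leaf 1425)))) (.node (.node (.node (.leaf 593) (.leaf 1105)) (.node (.leaf 849) (.leaf 1361))) (.node (.node (.leaf 721) (.leaf 1233)) (.node (.leaf 977) (.leaf 1489))))) (.node (.node (.node (.node (.leaf 561) (.leaf 1073)) (.node (.leaf 817) (.leaf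 1329))) (.node (.node (.leaf 689) (.leaf 1201)) (.node (.leaf 945) (.leaf 1457)))) (.node (.node (.node (.leaf 625) (.leaf 1137)) (.node (.leaf 881) (.leaf 1393))) (.node (.node (.leaf 753) (.leaf 1265)) (.node (.leaf 1009) (.leaf 1521)))))))

/-- Part of a collection table. -/
def tblCo3_9_2 : Trie := (.node (.node (.node (.node (.node (.node (.leaf 514) (.leaf 1026)) (.node (.leaf 770) (.leaf 1282))) (.node (.node (.leaf 642) (.leaf 1154)) (.node (.leaf 898) (.leaf 1410)))) (.node (.node (.node (.leaf 578) (.leaf 1090)) (.node (.leaf 834) (.leaf 1346))) (.node (.node (.leaf 706) (.leaf 1218)) (.node (.leaf 962) (.leaf 1474))))) (.node (.node (.node (.node (.leaf 546) (.leaf 1058)) (.node (.leaf 802) (.leaf 1314))) (.node (.node (.leaf 674) (.leaf 1186)) (.node (.leaf 930) (.leaf 1442)))) (.node (.node (.node (.leaf 610) (.leaf 1122)) (.node (.leaf 866) (.leaf 1378))) (.node (.node (.leaf 738) (.leaf 1250)) (.node (.leaf 994) (.leaf 1506)))))) (.node (.node (.node (.node (.node (.leaf 530) (.leaf 1042)) (.node (.leaf 786) (.leaf 1298))) (.node (.node (.leaf 658) (.leaf 1170)) (.node (.leaf 914) (.leaf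 1426)))) (.node (.node (.node (.leaf 594) (.leaf 1106)) (.node (.leaf 850) (.leaf 1362))) (.node (.node (.leaf 722) (.leaf 1234)) (.node (.leaf 978) (.leaf 1490))))) (.node (.node (.node (.node (.leaf 562) (.leaf 1074)) (.node (.leaf 818) (.leaf 1330))) (.node (.node (.leaf 690) (.leaf 1202)) (.node (.leaf 946) (.leaf 1458)))) (.node (.node (.node (.leaf 626) (.leaf 1138)) (.node (.leaf 882) (.leaf 1394))) (.node (.node (.leaf 754) (.leaf 1266)) (.node (.leaf 1010) (.leaf 1522)))))))

/-- Part of a collection table. -/
def tblCo3_9_3 : Trie := (.node (.node (.node (.node (.node (.node (.leaf 515) (.leaf 1027)) (.node (.leaf 771) (.leaf 1283))) (.node (.node (.leaf 643) (.leaf 1155)) (.node (.leaf 899) (.leaf 1411)))) (.node (.node (.node (.leaf 579) (.leaf 1091)) (.node (.leaf 835) (.leaf 1347))) (.node (.node (.leaf 707) (.leaf 1219)) (.node (.leaf 963) (.leaf 1475))))) (.node (.node (.node (.node (.leaf 547) (.leaf 1059)) (.node (.leaf 803) (.leaf 1315))) (.node (.node (.leaf 675) (.leaf 1187)) (.node (.leaf 931) (.leaf 1443)))) (.node (.node (.node (.leaf 611) (.leaf 1123)) (.node (.leaf 867) (.leaf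 1379))) (.node (.node (.leaf 739) (.leaf 1251)) (.node (.leaf 995) (.leaf 1507)))))) (.node (.node (.node (.node (.node (.leaf 531) (.leaf 1043)) (.node (.leaf 787) (.leaf 1299))) (.node (.node (.leaf 659) (.leaf 1171)) (.node (.leaf 915) (.leaf 1427)))) (.node (.node (.node (.leaf 595) (.leaf 1107)) (.node (.leaf 851) (.leaf 1363))) (.node (.node (.leaf 723) (.leaf 1235)) (.node (.leaf 979) (.leaf 1491))))) (.node (.node (.node (.node (.leaf 563) (.leaf 1075)) (.node (.leaf 819) (.leaf 1331))) (.node (.node (.leaf 691) (.leaf 1203)) (.node (.leaf 947) (.leaf 1459)))) (.node (.node (.node (.leaf 627) (.leaf 1139)) (.node (.leaf 883) (.leaf 1395))) (.node (.node (.leaf 755) (.leaf 1267)) (.node (.leaf 1011) (.leaf 1523)))))))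

/-- Part of a collection table. -/
def tblCo3_9_4 : Trie := (.node (.node (.node (.node (.node (.node (.leaf 516) (.leaf 1028)) (.node (.leaf 772) (.leaf 1284))) (.node (.node (.leaf 644) (.leaf 1156)) (.node (.leaf 900) (.leaf 1412)))) (.node (.node (.node (.leaf 580) (.leaf 1092)) (.node (.leaf 836) (.leaf 1348))) (.node (.node (.leaf 708) (.leaf 1220)) (.node (.leaf 964) (.leaf 1476))))) (.node (.node (.node (.node (.leaf 548) (.leaf 1060)) (.node (.leaf 804) (.leaf 1316))) (.node (.node (.leaf 676) (.leaf 1188)) (.node (.leaf 932) (.leaf 1444)))) (.node (.node (.node (.leaf 612) (.leaf 1124)) (.node (.leaf 868) (.leaf 1380))) (.node (.node (.leaf 740) (.leaf 1252)) (.node (.leaf 996) (.leaf 1508)))))) (.node (.node (.node (.node (.node (.leaf 532) (.leaf 1044)) (.node (.leaf 788) (.leaf 1300))) (.node (.node (.leaf 660) (.leaf 1172)) (.node (.leaf 916) (.leaf 1428)))) (.node (.node (.node (.leaf 596) (.leaf 1108)) (.node (.leaf 852) (.leaf 1364))) (.node (.node (.leaf 724) (.leaf 1236)) (.node (.leaf 980) (.leaf 1492))))) (.node (.node (.node (.node (.leaf 564) (.leaf 1076)) (.node (.leaf 820) (.leaf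 1332))) (.node (.node (.leaf 692) (.leaf 1204)) (.node (.leaf 948) (.leaf 1460)))) (.node (.node (.node (.leaf 628) (.leaf 1140)) (.node (.leaf 884) (.leaf 1396))) (.node (.node (.leaf 756) (.leaf 1268)) (.node (.leaf 1012) (.leaf 1524)))))))

/-- Part of a collection table. -/
def tblCo3_9_5 : Trie := (.node (.node (.node (.node (.node (.node (.leaf 517) (.leaf 1029)) (.node (.leaf 773) (.leaf 1285))) (.node (.node (.leaf 645) (.leaf 1157)) (.node (.leaf 901) (.leaf 1413)))) (.node (.node (.node (.leaf 581) (.leaf 1093)) (.node (.leaf 837) (.leaf 1349))) (.node (.node (.leaf 709) (.leaf 1221)) (.node (.leaf 965) (.leaf 1477))))) (.node (.node (.node (.node (.leaf 549) (.leaf 1061)) (.node (.leaf 805) (.leaf 1317))) (.node (.node (.leaf 677) (.leaf 1189)) (.node (.leaf 933) (.leaf 1445)))) (.node (.node (.node (.leaf 613) (.leaf 1125)) (.node (.leaf 869) (.leaf 1381))) (.node (.node (.leaf 741) (.leaf 1253)) (.node (.leaf 997) (.leaf 1509)))))) (.node (.node (.node (.node (.node (.leaf 533) (.leaf 1045)) (.node (.leaf 789) (.leaf 1301))) (.node (.node (.leaf 661) (.leaf 1173)) (.node (.leaf 917) (.leaf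 1429)))) (.node (.node (.node (.leaf 597) (.leaf 1109)) (.node (.leaf 853) (.leaf 1365))) (.node (.node (.leaf 725) (.leaf 1237)) (.node (.leaf 981) (.leaf 1493))))) (.node (.node (.node (.node (.leaf 565) (.leaf 1077)) (.node (.leaf 821) (.leaf 1333))) (.node (.node (.leaf 693) (.leaf 1205)) (.node (.leaf 949) (.leaf 1461)))) (.node (.node (.node (.leaf 629) (.leaf 1141)) (.node (.leaf 885) (.leaf 1397))) (.node (.node (.leaf 757) (.leaf 1269)) (.node (.leaf 1013) (.leaf 1525)))))))

/-- Part of a collection table. -/
def tblCo3_9_6 : Trie := (.node (.node (.node (.node (.node (.node (.leaf 518) (.leaf 1030)) (.node (.leaf 774) (.leaf 1286))) (.node (.node (.leaf 646) (.leaf 1158)) (.node (.leaf 902) (.leaf 1414)))) (.node (.node (.node (.leaf 582) (.leaf 1094)) (.node (.leaf 838) (.leaf 1350))) (.node (.node (.leaf 710) (.leaf 1222)) (.node (.leaf 966) (.leaf 1478))))) (.node (.node (.node (.node (.leaf 550) (.leaf 1062)) (.node (.leaf 806) (.leaf 1318))) (.node (.node (.leaf 678) (.leaf 1190)) (.node (.leaf 934) (.leaf 1446)))) (.node (.node (.node (.leaf 614) (.leaf 1126)) (.node (.leaf 870) (.leaf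 1382))) (.node (.node (.leaf 742) (.leaf 1254)) (.node (.leaf 998) (.leaf 1510)))))) (.node (.node (.node (.node (.node (.leaf 534) (.leaf 1046)) (.node (.leaf 790) (.leaf 1302))) (.node (.node (.leaf 662) (.leaf 1174)) (.node (.leaf 918) (.leaf 1430)))) (.node (.node (.node (.leaf 598) (.leaf 1110)) (.node (.leaf 854) (.leaf 1366))) (.node (.node (.leaf 726) (.leaf 1238)) (.node (.leaf 982) (.leaf 1494))))) (.node (.node (.node (.node (.leaf 566) (.leaf 1078)) (.node (.leaf 822) (.leaf 1334))) (.node (.node (.leaf 694) (.leaf 1206)) (.node (.leaf 950) (.leaf 1462)))) (.node (.node (.node (.leaf 630) (.leaf 1142)) (.node (.leaf 886) (.leaf 1398))) (.node (.node (.leaf 758) (.leaf 1270)) (.node (.leaf 1014) (.leaf 1526)))))))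

/-- Part of a collection table. -/
def tblCo3_9_7 : Trie := (.node (.node (.node (.node (.node (.node (.leaf 519) (.leaf 1031)) (.node (.leaf 775) (.leaf 1287))) (.node (.node (.leaf 647) (.leaf 1159)) (.node (.leaf 903) (.leaf 1415)))) (.node (.node (.node (.leaf 583) (.leaf 1095)) (.node (.leaf 839) (.leaf 1351))) (.node (.node (.leaf 711) (.leaf 1223)) (.node (.leaf 967) (.leaf 1479))))) (.node (.node (.node (.node (.leaf 551) (.leaf 1063)) (.node (.leaf 807) (.leaf 1319))) (.node (.node (.leaf 679) (.leaf 1191)) (.node (.leaf 935) (.leaf 1447)))) (.node (.node (.node (.leaf 615) (.leaf 1127)) (.node (.leaf 871) (.leaf 1383))) (.node (.node (.leaf 743) (.leaf 1255)) (.node (.leaf 999) (.leaf 1511)))))) (.node (.node (.node (.node (.node (.leaf 535) (.leaf 1047)) (.node (.leaf 791) (.leaf 1303))) (.node (.node (.leaf 663) (.leaf 1175)) (.node (.leaf 919) (.leaf 1431)))) (.node (.node (.node (.leaf 599) (.leaf 1111)) (.node (.leaf 855) (.leaf 1367))) (.node (.node (.leaf 727) (.leaf 1239)) (.node (.leaf 983) (.leaf 1495))))) (.node (.node (.node (.node (.leaf 567) (.leaf 1079)) (.node (.leaf 823) (.leaf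 1335))) (.node (.node (.leaf 695) (.leaf 1207)) (.node (.leaf 951) (.leaf 1463)))) (.node (.node (.node (.leaf 631) (.leaf 1143)) (.node (.leaf 887) (.leaf 1399))) (.node (.node (.leaf 759) (.leaf 1271)) (.node (.leaf 1015) (.leaf 1527)))))))

/-- Part of a collection table. -/
def tblCo3_9_8 : Trie := (.node (.node (.node (.node (.node (.node (.leaf 520) (.leaf 1032)) (.node (.leaf 776) (.leaf 1288))) (.node (.node (.leaf 648) (.leaf 1160)) (.node (.leaf 904) (.leaf 1416)))) (.node (.node (.node (.leaf 584) (.leaf 1096)) (.node (.leaf 840) (.leaf 1352))) (.node (.node (.leaf 712) (.leaf 1224)) (.node (.leaf 968) (.leaf 1480))))) (.node (.node (.node (.node (.leaf 552) (.leaf 1064)) (.node (.leaf 808) (.leaf 1320))) (.node (.node (.leaf 680) (.leaf 1192)) (.node (.leaf 936) (.leaf 1448)))) (.node (.node (.node (.leaf 616) (.leaf 1128)) (.node (.leaf 872) (.leaf 1384))) (.node (.node (.leaf 744) (.leaf 1256)) (.node (.leaf 1000) (.leaf 1512)))))) (.node (.node (.node (.node (.node (.leaf 536) (.leaf 1048)) (.node (.leaf 792) (.leaf 1304))) (.node (.node (.leaf 664) (.leaf 1176)) (.node (.leaf 920) (.leaf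 1432)))) (.node (.node (.node (.leaf 600) (.leaf 1112)) (.node (.leaf 856) (.leaf 1368))) (.node (.node (.leaf 728) (.leaf 1240)) (.node (.leaf 984) (.leaf 1496))))) (.node (.node (.node (.node (.leaf 568) (.leaf 1080)) (.node (.leaf 824) (.leaf 1336))) (.node (.node (.leaf 696) (.leaf 1208)) (.node (.leaf 952) (.leaf 1464)))) (.node (.node (.node (.leaf 632) (.leaf 1144)) (.node (.leaf 888) (.leaf 1400))) (.node (.node (.leaf 760) (.leaf 1272)) (.node (.leaf 1016) (.leaf 1528)))))))

/-- Part of a collection table. -/
def tblCo3_9_9 : Trie := (.node (.node (.node (.node (.node (.node (.leaf 521) (.leaf 1033)) (.node (.leaf 777) (.leaf 1289))) (.node (.node (.leaf 649) (.leaf 1161)) (.node (.leaf 905) (.leaf 1417)))) (.node (.node (.node (.leaf 585) (.leaf 1097)) (.node (.leaf 841) (.leaf 1353))) (.node (.node (.leaf 713) (.leaf 1225)) (.node (.leaf 969) (.leaf 1481))))) (.node (.node (.node (.node (.leaf 553) (.leaf 1065)) (.node (.leaf 809) (.leaf 1321))) (.node (.node (.leaf 681) (.leaf 1193)) (.node (.leaf 937) (.leaf 1449)))) (.node (.node (.node (.leaf 617) (.leaf 1129)) (.node (.leaf 873) (.leaf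 1385))) (.node (.node (.leaf 745) (.leaf 1257)) (.node (.leaf 1001) (.leaf 1513)))))) (.node (.node (.node (.node (.node (.leaf 537) (.leaf 1049)) (.node (.leaf 793) (.leaf 1305))) (.node (.node (.leaf 665) (.leaf 1177)) (.node (.leaf 921) (.leaf 1433)))) (.node (.node (.node (.leaf 601) (.leaf 1113)) (.node (.leaf 857) (.leaf 1369))) (.node (.node (.leaf 729) (.leaf 1241)) (.node (.leaf 985) (.leaf 1497))))) (.node (.node (.node (.node (.leaf 569) (.leaf 1081)) (.node (.leaf 825) (.leaf 1337))) (.node (.node (.leaf 697) (.leaf 1209)) (.node (.leaf 953) (.leaf 1465)))) (.node (.node (.node (.leaf 633) (.leaf 1145)) (.node (.leaf 889) (.leaf 1401))) (.node (.node (.leaf 761) (.leaf 1273)) (.node (.leaf 1017) (.leaf 1529)))))))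

/-- Part of a collection table. -/
def tblCo3_9_10 : Trie := (.node (.node (.node (.node (.node (.node (.leaf 522) (.leaf 1034)) (.node (.leaf 778) (.leaf 1290))) (.node (.node (.leaf 650) (.leaf 1162)) (.node (.leaf 906) (.leaf 1418)))) (.node (.node (.node (.leaf 586) (.leaf 1098)) (.node (.leaf 842) (.leaf 1354))) (.node (.node (.leaf 714) (.leaf 1226)) (.node (.leaf 970) (.leaf 1482))))) (.node (.node (.node (.node (.leaf 554) (.leaf 1066)) (.node (.leaf 810) (.leaf 1322))) (.node (.node (.leaf 682) (.leaf 1194)) (.node (.leaf 938) (.leaf 1450)))) (.node (.node (.node (.leaf 618) (.leaf 1130)) (.node (.leaf 874) (.leaf 1386))) (.node (.node (.leaf 746) (.leaf 1258)) (.node (.leaf 1002) (.leaf 1514)))))) (.node (.node (.node (.node (.node (.leaf 538) (.leaf 1050)) (.node (.leaf 794) (.leaf 1306))) (.node (.node (.leaf 666) (.leaf 1178)) (.node (.leaf 922) (.leaf 1434)))) (.node (.node (.node (.leaf 602) (.leaf 1114)) (.node (.leaf 858) (.leaf 1370))) (.node (.node (.leaf 730) (.leaf 1242)) (.node (.leaf 986) (.leaf 1498))))) (.node (.node (.node (.node (.leaf 570) (.leaf 1082)) (.node (.leaf 826)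 (.leaf 1338))) (.node (.node (.leaf 698) (.leaf 1210)) (.node (.leaf 954) (.leaf 1466)))) (.node (.node (.node (.leaf 634) (.leaf 1146)) (.node (.leaf 890) (.leaf 1402))) (.node (.node (.leaf 762) (.leaf 1274)) (.node (.leaf 1018) (.leaf 1530)))))))

/-- Part of a collection table. -/
def tblCo3_9_11 : Trie := (.node (.node (.node (.node (.node (.node (.leaf 523) (.leaf 1035)) (.node (.leaf 779) (.leaf 1291))) (.node (.node (.leaf 651) (.leaf 1163)) (.node (.leaf 907) (.leaf 1419)))) (.node (.node (.node (.leaf 587) (.leaf 1099)) (.node (.leaf 843) (.leaf 1355))) (.node (.node (.leaf 715) (.leaf 1227)) (.node (.leaf 971) (.leaf 1483))))) (.node (.node (.node (.node (.leaf 555) (.leaf 1067)) (.node (.leaf 811) (.leaf 1323))) (.node (.node (.leaf 683) (.leaf 1195)) (.node (.leaf 939) (.leaf 1451)))) (.node (.node (.node (.leaf 619) (.leaf 1131)) (.node (.leaf 875) (.leaf 1387))) (.node (.node (.leaf 747) (.leaf 1259)) (.node (.leaf 1003) (.leaf 1515)))))) (.node (.node (.node (.node (.node (.leaf 539) (.leaf 1051)) (.node (.leaf 795) (.leaf 1307))) (.node (.node (.leaf 667) (.leaf 1179)) (.node (.leaf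 923) (.leaf 1435)))) (.node (.node (.node (.leaf 603) (.leaf 1115)) (.node (.leaf 859) (.leaf 1371))) (.node (.node (.leaf 731) (.leaf 1243)) (.node (.leaf 987) (.leaf 1499))))) (.node (.node (.node (.node (.leaf 571) (.leaf 1083)) (.node (.leaf 827) (.leaf 1339))) (.node (.node (.leaf 699) (.leaf 1211)) (.node (.leaf 955) (.leaf 1467)))) (.node (.node (.node (.leaf 635) (.leaf 1147)) (.node (.leaf 891) (.leaf 1403))) (.node (.node (.leaf 763) (.leaf 1275)) (.node (.leaf 1019) (.leaf 1531)))))))

/-- Part of a collection table. -/
def tblCo3_9_12 : Trie := (.node (.node (.node (.node (.node (.node (.leaf 524) (.leaf 1036)) (.node (.leaf 780) (.leaf 1292))) (.node (.node (.leaf 652) (.leaf 1164)) (.node (.leaf 908) (.leaf 1420)))) (.node (.node (.node (.leaf 588) (.leaf 1100)) (.node (.leaf 844) (.leaf 1356))) (.node (.node (.leaf 716) (.leaf 1228)) (.node (.leaf 972) (.leaf 1484))))) (.node (.node (.node (.node (.leaf 556) (.leaf 1068)) (.node (.leaf 812) (.leaf 1324))) (.node (.node (.leaf 684) (.leaf 1196)) (.node (.leaf 940) (.leaf 1452)))) (.node (.node (.node (.leaf 620) (.leaf 1132)) (.node (.leaf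 876) (.leaf 1388))) (.node (.node (.leaf 748) (.leaf 1260)) (.node (.leaf 1004) (.leaf 1516)))))) (.node (.node (.node (.node (.node (.leaf 540) (.leaf 1052)) (.node (.leaf 796) (.leaf 1308))) (.node (.node (.leaf 668) (.leaf 1180)) (.node (.leaf 924) (.leaf 1436)))) (.node (.node (.node (.leaf 604) (.leaf 1116)) (.node (.leaf 860) (.leaf 1372))) (.node (.node (.leaf 732) (.leaf 1244)) (.node (.leaf 988) (.leaf 1500))))) (.node (.node (.node (.node (.leaf 572) (.leaf 1084)) (.node (.leaf 828) (.leaf 1340))) (.node (.node (.leaf 700) (.leaf 1212)) (.node (.leaf 956) (.leaf 1468)))) (.node (.node (.node (.leaf 636) (.leaf 1148)) (.node (.leaf 892) (.leaf 1404))) (.node (.node (.leaf 764) (.leaf 1276)) (.node (.leaf 1020) (.leaf 1532)))))))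

/-- Part of a collection table. -/
def tblCo3_9_13 : Trie := (.node (.node (.node (.node (.node (.node (.leaf 525) (.leaf 1037)) (.node (.leaf 781) (.leaf 1293))) (.node (.node (.leaf 653) (.leaf 1165)) (.node (.leaf 909) (.leaf 1421)))) (.node (.node (.node (.leaf 589) (.leaf 1101)) (.node (.leaf 845) (.leaf 1357))) (.node (.node (.leaf 717) (.leaf 1229)) (.node (.leaf 973) (.leaf 1485))))) (.node (.node (.node (.node (.leaf 557) (.leaf 1069)) (.node (.leaf 813) (.leaf 1325))) (.node (.node (.leaf 685) (.leaf 1197)) (.node (.leaf 941) (.leaf 1453)))) (.node (.node (.node (.leaf 621) (.leaf 1133)) (.node (.leaf 877) (.leaf 1389))) (.node (.node (.leaf 749) (.leaf 1261)) (.node (.leaf 1005) (.leaf 1517)))))) (.node (.node (.node (.node (.node (.leaf 541) (.leaf 1053)) (.node (.leaf 797) (.leaf 1309))) (.node (.node (.leaf 669) (.leaf 1181)) (.node (.leaf 925) (.leaf 1437)))) (.node (.node (.node (.leaf 605) (.leaf 1117)) (.node (.leaf 861) (.leaf 1373))) (.node (.node (.leaf 733) (.leaf 1245)) (.node (.leaf 989) (.leaf 1501))))) (.node (.node (.node (.node (.leaf 573) (.leaf 1085)) (.node (.leaf 829)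 (.leaf 1341))) (.node (.node (.leaf 701) (.leaf 1213)) (.node (.leaf 957) (.leaf 1469)))) (.node (.node (.node (.leaf 637) (.leaf 1149)) (.node (.leaf 893) (.leaf 1405))) (.node (.node (.leaf 765) (.leaf 1277)) (.node (.leaf 1021) (.leaf 1533)))))))

/-- Part of a collection table. -/
def tblCo3_9_14 : Trie := (.node (.node (.node (.node (.node (.node (.leaf 526) (.leaf 1038)) (.node (.leaf 782) (.leaf 1294))) (.node (.node (.leaf 654) (.leaf 1166)) (.node (.leaf 910) (.leaf 1422)))) (.node (.node (.node (.leaf 590) (.leaf 1102)) (.node (.leaf 846) (.leaf 1358))) (.node (.node (.leaf 718) (.leaf 1230)) (.node (.leaf 974) (.leaf 1486))))) (.node (.node (.node (.node (.leaf 558) (.leaf 1070)) (.node (.leaf 814) (.leaf 1326))) (.node (.node (.leaf 686) (.leaf 1198)) (.node (.leaf 942) (.leaf 1454)))) (.node (.node (.node (.leaf 622) (.leaf 1134)) (.node (.leaf 878) (.leaf 1390))) (.node (.node (.leaf 750) (.leaf 1262)) (.node (.leaf 1006) (.leaf 1518)))))) (.node (.node (.node (.node (.node (.leaf 542) (.leaf 1054)) (.node (.leaf 798) (.leaf 1310))) (.node (.node (.leaf 670) (.leaf 1182)) (.node (.leaf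 926) (.leaf 1438)))) (.node (.node (.node (.leaf 606) (.leaf 1118)) (.node (.leaf 862) (.leaf 1374))) (.node (.node (.leaf 734) (.leaf 1246)) (.node (.leaf 990) (.leaf 1502))))) (.node (.node (.node (.node (.leaf 574) (.leaf 1086)) (.node (.leaf 830) (.leaf 1342))) (.node (.node (.leaf 702) (.leaf 1214)) (.node (.leaf 958) (.leaf 1470)))) (.node (.node (.node (.leaf 638) (.leaf 1150)) (.node (.leaf 894) (.leaf 1406))) (.node (.node (.leaf 766) (.leaf 1278)) (.node (.leaf 1022) (.leaf 1534)))))))

/-- Part of a collection table. -/
def tblCo3_9_15 : Trie := (.node (.node (.node (.node (.node (.node (.leaf 527) (.leaf 1039)) (.node (.leaf 783) (.leaf 1295))) (.node (.node (.leaf 655) (.leaf 1167)) (.node (.leaf 911) (.leaf 1423)))) (.node (.node (.node (.leaf 591) (.leaf 1103)) (.node (.leaf 847) (.leaf 1359))) (.node (.node (.leaf 719) (.leaf 1231)) (.node (.leaf 975) (.leaf 1487))))) (.node (.node (.node (.node (.leaf 559) (.leaf 1071)) (.node (.leaf 815) (.leaf 1327))) (.node (.node (.leaf 687) (.leaf 1199)) (.node (.leaf 943) (.leaf 1455)))) (.node (.node (.node (.leaf 623) (.leaf 1135)) (.node (.leaf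 879) (.leaf 1391))) (.node (.node (.leaf 751) (.leaf 1263)) (.node (.leaf 1007) (.leaf 1519)))))) (.node (.node (.node (.node (.node (.leaf 543) (.leaf 1055)) (.node (.leaf 799) (.leaf 1311))) (.node (.node (.leaf 671) (.leaf 1183)) (.node (.leaf 927) (.leaf 1439)))) (.node (.node (.node (.leaf 607) (.leaf 1119)) (.node (.leaf 863) (.leaf 1375))) (.node (.node (.leaf 735) (.leaf 1247)) (.node (.leaf 991) (.leaf 1503))))) (.node (.node (.node (.node (.leaf 575) (.leaf 1087)) (.node (.leaf 831) (.leaf 1343))) (.node (.node (.leaf 703) (.leaf 1215)) (.node (.leaf 959) (.leaf 1471)))) (.node (.node (.node (.leaf 639) (.leaf 1151)) (.node (.leaf 895) (.leaf 1407))) (.node (.node (.leaf 767) (.leaf 1279)) (.node (.leaf 1023) (.leaf 1535)))))))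

/-- Collector. -/
def colCo3 : Collector where
  n := 10
  rels := [([9, 9], []),
    ([8, 8], []),
    ([9, 8], [8, 9]),
    ([7, 7], []),
    ([8, 7], [7, 8]),
    ([9, 7], [7, 9]),
    ([6, 6], [7]),
    ([7, 6], [6, 7]),
    ([8, 6], [6, 8]),
    ([9, 6], [6, 7, 9]),
    ([5, 5], [7]),
    ([6, 5], [5, 6]),
    ([7, 5], [5, 7]),
    ([8, 5], [5, 7, 8]),
    ([9, 5], [5, 7, 9]),
    ([4, 4], [7]),
    ([5, 4], [4, 5, 7]),
    ([6, 4], [4, 6]),
    ([7, 4], [4, 7]),
    ([8, 4], [4, 8]),
    ([9, 4], [4, 7, 9]),
    ([3, 3], [5, 8]),
    ([4, 3], [3, 5, 7]),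
    ([5, 3], [3, 4]),
    ([6, 3], [3, 6, 7]),
    ([7, 3], [3, 7]),
    ([8, 3], [3, 4, 5, 7, 8]),
    ([9, 3], [3, 4, 8, 9]),
    ([2, 2], []),
    ([3, 2], [2, 3, 5, 8]),
    ([4, 2], [2, 5, 7]),
    ([5, 2], [2, 4, 7]),
    ([6, 2], [2, 6, 7]),
    ([7, 2], [2, 7]),
    ([8, 2], [2, 4, 5, 8]),
    ([9, 2], [2, 4, 8, 9]),
    ([1, 1], [5, 8]),
    ([2, 1], [1, 2, 7]),
    ([3, 1], [1, 3, 5, 7, 8]),
    ([4, 1], [1, 2, 3, 6, 8]),
    ([5, 1], [1, 2, 3, 4, 6, 7]),
    ([6, 1], [1, 6, 7]),
    ([7, 1], [1, 7]),
    ([8, 1], [1, 2, 3, 4, 5, 6, 8]),
    ([9, 1], [1, 2, 3, 4, 6, 7, 8, 9]),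
    ([0, 0], [2, 3, 7, 8, 9]),
    ([1, 0], [0, 1, 2, 3, 5, 7, 9]),
    ([2, 0], [0, 1, 2, 4, 7, 9]),
    ([3, 0], [0, 1, 3, 6, 7]),
    ([4, 0], [0, 2, 3, 6, 7, 8]),
    ([5, 0], [0, 5]),
    ([6, 0], [0, 2, 3, 6, 8, 9]),
    ([7, 0], [0, 7]),
    ([8, 0], [0, 8]),
    ([9, 0], [0, 4, 6, 7])]
  table := [(.node (.node (.node (.node tblCo3_0_0 tblCo3_0_8) (.node tblCo3_0_4 tblCo3_0_12)) (.node (.node tblCo3_0_2 tblCo3_0_10) (.node tblCo3_0_6 tblCo3_0_14))) (.node (.node (.node tblCo3_0_1 tblCo3_0_9) (.node tblCo3_0_5 tblCo3_0_13)) (.node (.node tblCo3_0_3 tblCo3_0_11) (.node tblCo3_0_7 tblCo3_0_15)))),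
    (.node (.node (.node (.node tblCo3_1_0 tblCo3_1_8) (.node tblCo3_1_4 tblCo3_1_12)) (.node (.node tblCo3_1_2 tblCo3_1_10) (.node tblCo3_1_6 tblCo3_1_14))) (.node (.node (.node tblCo3_1_1 tblCo3_1_9) (.node tblCo3_1_5 tblCo3_1_13)) (.node (.node tblCo3_1_3 tblCo3_1_11) (.node tblCo3_1_7 tblCo3_1_15)))),
    (.node (.node (.node (.node tblCo3_2_0 tblCo3_2_8) (.node tblCo3_2_4 tblCo3_2_12)) (.node (.node tblCo3_2_2 tblCo3_2_10) (.node tblCo3_2_6 tblCo3_2_14))) (.node (.node (.node tblCo3_2_1 tblCo3_2_9) (.node tblCo3_2_5 tblCo3_2_13)) (.node (.node tblCo3_2_3 tblCo3_2_11) (.node tblCo3_2_7 tblCo3_2_15)))),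
    (.node (.node (.node (.node tblCo3_3_0 tblCo3_3_8) (.node tblCo3_3_4 tblCo3_3_12)) (.node (.node tblCo3_3_2 tblCo3_3_10) (.node tblCo3_3_6 tblCo3_3_14))) (.node (.node (.node tblCo3_3_1 tblCo3_3_9) (.node tblCo3_3_5 tblCo3_3_13)) (.node (.node tblCo3_3_3 tblCo3_3_11) (.node tblCo3_3_7 tblCo3_3_15)))),
    (.node (.node (.node (.node tblCo3_4_0 tblCo3_4_8) (.node tblCo3_4_4 tblCo3_4_12)) (.node (.node tblCo3_4_2 tblCo3_4_10) (.node tblCo3_4_6 tblCo3_4_14))) (.node (.node (.node tblCo3_4_1 tblCo3_4_9) (.node tblCo3_4_5 tblCo3_4_13)) (.node (.node tblCo3_4_3 tblCo3_4_11) (.node tblCo3_4_7 tblCo3_4_15)))),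
    (.node (.node (.node (.node tblCo3_5_0 tblCo3_5_8) (.node tblCo3_5_4 tblCo3_5_12)) (.node (.node tblCo3_5_2 tblCo3_5_10) (.node tblCo3_5_6 tblCo3_5_14))) (.node (.node (.node tblCo3_5_1 tblCo3_5_9) (.node tblCo3_5_5 tblCo3_5_13)) (.node (.node tblCo3_5_3 tblCo3_5_11) (.node tblCo3_5_7 tblCo3_5_15)))),
    (.node (.node (.node (.node tblCo3_6_0 tblCo3_6_8) (.node tblCo3_6_4 tblCo3_6_12)) (.node (.node tblCo3_6_2 tblCo3_6_10) (.node tblCo3_6_6 tblCo3_6_14))) (.node (.node (.node tblCo3_6_1 tblCo3_6_9) (.node tblCo3_6_5 tblCo3_6_13)) (.node (.node tblCo3_6_3 tblCo3_6_11) (.node tblCo3_6_7 tblCo3_6_15)))),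
    (.node (.node (.node (.node tblCo3_7_0 tblCo3_7_8) (.node tblCo3_7_4 tblCo3_7_12)) (.node (.node tblCo3_7_2 tblCo3_7_10) (.node tblCo3_7_6 tblCo3_7_14))) (.node (.node (.node tblCo3_7_1 tblCo3_7_9) (.node tblCo3_7_5 tblCo3_7_13)) (.node (.node tblCo3_7_3 tblCo3_7_11) (.node tblCo3_7_7 tblCo3_7_15)))),
    (.node (.node (.node (.node tblCo3_8_0 tblCo3_8_8) (.node tblCo3_8_4 tblCo3_8_12)) (.node (.node tblCo3_8_2 tblCo3_8_10) (.node tblCo3_8_6 tblCo3_8_14))) (.node (.node (.node tblCo3_8_1 tblCo3_8_9) (.node tblCo3_8_5 tblCo3_8_13)) (.node (.node tblCo3_8_3 tblCo3_8_11) (.node tblCo3_8_7 tblCo3_8_15)))),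
    (.node (.node (.node (.node tblCo3_9_0 tblCo3_9_8) (.node tblCo3_9_4 tblCo3_9_12)) (.node (.node tblCo3_9_2 tblCo3_9_10) (.node tblCo3_9_6 tblCo3_9_14))) (.node (.node (.node tblCo3_9_1 tblCo3_9_9) (.node tblCo3_9_5 tblCo3_9_13)) (.node (.node tblCo3_9_3 tblCo3_9_11) (.node tblCo3_9_7 tblCo3_9_15))))]
  eqs := [.assoc [0] 45,
    .assoc [1] 36,
    .assoc [1] 45,
    .assoc [1] 46,
    .assoc [2] 36,
    .assoc [2] 37,
    .assoc [2] 45,
    .assoc [2] 46,
    .assoc [2] 47,
    .assoc [3] 21,
    .assoc [3] 28,
    .assoc [3] 36,
    .assoc [3] 37,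
    .assoc [3] 38,
    .assoc [3] 45,
    .assoc [3] 46,
    .assoc [3] 47,
    .assoc [3] 48,
    .assoc [4] 15,
    .assoc [4] 21,
    .assoc [4] 22,
    .assoc [4] 28,
    .assoc [4] 29,
    .assoc [4] 30,
    .assoc [4] 36,
    .assoc [4] 37,
    .assoc [4] 38,
    .assoc [4] 39,
    .assoc [4] 45,
    .assoc [4] 46,
    .assoc [4] 47,
    .assoc [4] 48,
    .assoc [4] 49,
    .assoc [5] 10,
    .assoc [5] 15,
    .assoc [5] 45,
    .assoc [5] 46,
    .assoc [6] 46,
    .conj 0 [(0, 0), (2, 70), (52, 336), (54, 406)] [(54, 2), (2, 52)],
    .conj 0 [(0, 0), (2, 70), (112, 112), (114, 182)] [(114, 2), (2, 112)],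
    .conj 0 [(0, 0), (52, 336), (112, 112), (196, 416)] [(112, 52), (52, 112)],
    .conj 1 [(0, 0), (12, 12), (128, 1020), (140, 1008)] [(128, 12), (12, 128)],
    .conj 1 [(0, 0), (128, 1020)] [(128, 128)],
    .conj 2 [(0, 0), (12, 579)] [(12, 12)],
    .conj 2 [(0, 0), (12, 579), (96, 924), (108, 479)] [(96, 12), (12, 96)],
    .conj 2 [(0, 0), (96, 924)] [(96, 96)],
    .conj 3 [(0, 0), (122, 880), (206, 206), (404, 830)] [(206, 122), (122, 206)],
    .conj 4 [(0, 0), (10, 426), (54, 356), (60, 78), (278, 196), (284, 494)] [(54, 10), (60, 10), (278, 10), (10, 54)],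
    .conj 5 [(0, 0), (3, 464)] [(3, 3)]]
  gauge := [0, 18295907845931008, 2251799813685248, 0, 34359738368, 20758779532410880, 422246824804352, 18436610974547968, 0, 0]
  comb := [314701283752401, 347501447538001, 41825104122086, 25770065920, 17186947072, 9440210824, 325719222049889, 17180932146, 251976757463900, 290535796244307, 232131748990341, 251967828097390, 8589934592, 544333932940022, 502599260604293, 232123167444389, 330075287185745, 251980750088902, 262144, 214547459311119, 292527799512735, 159921441692168, 523195837238282, 58061982442356, 331191943284577, 25779503136, 254914783751377, 39587379895139, 4714896099498, 159701575755322, 560601043304825, 560601045401945, 331191799278915, 25770065952, 332887750912734, 0, 22186576338727, 402534323452100, 422083828461924, 252027182969452, 140850296772922, 403359101611732, 8606459442, 200311912106451, 162469007442012, 48617339062083, 0, 0, 0, 349885759751691, 230035334486629, 0, 30200045056, 229980172091376, 0]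

/-- Normal forms by increasing key. -/
def orderCo3 : List ℕ := [910, 393, 461, 884, 379, 447, 730, 896, 254, 10, 701, 420, 939, 112, 857, 591, 882, 1020, 85, 39, 902, 305, 323, 552, 150, 189, 71, 73, 452, 498, 275, 160, 199, 370, 22, 324, 201, 61, 32, 403, 351, 500, 133, 262, 299, 98, 144, 465, 681, 938, 700, 1011, 893, 856, 590, 775, 243, 425, 808, 477, 926, 295, 716, 634, 499, 161, 816, 964, 151, 453, 970, 670, 885, 644, 758, 690, 911, 576, 897, 731, 506, 3, 343, 264, 332, 13, 249, 318, 623, 172, 94, 955, 154, 661, 232, 737, 285, 179, 384, 361, 310, 359, 228, 82, 526, 1002, 203, 485, 792, 764, 63, 49, 16, 5, 372, 427, 390, 337, 479, 226, 516, 1013, 603, 769, 704, 783, 562, 630, 210, 256, 51, 100, 487, 438, 489, 413, 858, 876, 467, 648, 9, 135, 253, 702, 64, 583, 276, 977, 643, 410, 494, 917, 113, 255, 304, 84, 322, 421, 38, 11, 440, 79, 380, 46, 106, 481, 53, 187, 2, 248, 691, 645, 577, 12, 342, 759, 405, 367, 193, 283, 24, 270, 220, 330, 433, 451, 680, 774, 167, 1010, 892, 213, 1, 347, 784, 852, 303, 341, 578, 646, 510, 539, 821, 456, 314, 847, 396, 961, 109, 544, 91, 596, 159, 1018, 558, 41, 830,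 83, 311, 229, 385, 656, 746, 740, 471, 460, 378, 121, 131, 446, 392, 141, 152, 92, 398, 458, 277, 65, 495, 411, 687, 725, 932, 673, 854, 864, 891, 786, 639, 188, 941, 923, 585, 70, 72, 274, 837, 543, 638, 922, 945, 940, 584, 843, 206, 352, 625, 931, 565, 871, 180, 58, 288, 244, 14, 111, 317, 250, 43, 505, 239, 377, 445, 416, 142, 171, 122, 116, 300, 344, 855, 865, 246, 787, 290, 933, 588, 936, 297, 798, 349, 762, 115, 423, 642, 916, 582, 535, 665, 973, 611, 976, 834, 47, 107, 748, 824, 950, 381, 441, 57, 640, 205, 566, 580, 626, 67, 279, 686, 31, 890, 169, 672, 219, 237, 724, 350, 464, 132, 761, 879, 651, 797, 298, 148, 819, 829, 230, 386, 496, 745, 967, 581, 832, 974, 567, 627, 666, 948, 641, 388, 434, 214, 224, 907, 735, 773, 1009, 898, 888, 886, 867, 689, 935, 757, 684, 525, 1001, 486, 863, 699, 412, 488, 50, 937, 799, 763, 894, 682, 548, 592, 589, 969, 659, 80, 162, 743, 308, 669, 454, 655, 838, 637, 956, 921, 875, 616, 946, 178, 360, 571, 284, 358, 991, 873, 653, 925, 1007, 633, 4, 336, 426, 478, 523, 245, 934, 688, 251, 866, 756, 289, 15, 515, 282, 789, 366, 192, 711, 849, 404, 181, 508, 207, 353,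 59, 174, 312, 234, 216, 729, 675, 28, 909, 727, 394, 462, 7, 339, 1004, 137, 520, 986, 574, 125, 383, 184, 194, 76, 443, 406, 269, 329, 60, 767, 402, 198, 200, 795, 713, 813, 321, 422, 296, 37, 503, 147, 114, 348, 128, 430, 217, 474, 395, 468, 463, 29, 601, 88, 156, 547, 334, 266, 599, 781, 820, 755, 513, 538, 960, 695, 709, 846, 74, 176, 497, 231, 387, 356, 149, 190, 363, 287, 988, 273, 568, 69, 586, 942, 450, 432, 127, 293, 241, 212, 139, 166, 509, 620, 822, 175, 313, 235, 962, 952, 628, 123, 143, 806, 417, 117, 994, 560, 878, 551, 796, 650, 760, 905, 595, 733, 242, 375, 165, 424, 294, 476, 449, 19, 573, 811, 126, 985, 138, 719, 292, 240, 163, 286, 309, 272, 362, 455, 68, 81, 899, 887, 238, 376, 685, 889, 170, 444, 168, 429, 218, 236, 473, 419, 30, 119, 741, 524, 831, 862, 698, 1000, 657, 747, 621, 823, 752, 963, 998, 953, 692, 802, 674, 579, 647, 728, 785, 853, 908, 726, 502, 1023, 36, 146, 677, 721, 320, 555, 868, 928, 355, 978, 183, 493, 409, 918, 177, 75, 874, 920, 357, 191, 636, 654, 984, 903, 883, 572, 718, 553, 1021, 810, 872, 959, 652, 529, 619, 613, 990, 570, 915, 805, 118, 418, 983, 428,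 993, 472, 97, 307, 466, 8, 252, 87, 134, 261, 901, 881, 779, 607, 86, 96, 260, 306, 736, 622, 851, 954, 791, 997, 801, 660, 605, 522, 723, 679, 777, 632, 924, 1006, 436, 208, 531, 541, 326, 841, 34, 615, 45, 223, 27, 364, 482, 105, 54, 280, 354, 492, 182, 95, 173, 408, 155, 233, 732, 904, 594, 373, 227, 17, 391, 550, 828, 1003, 818, 527, 744, 966, 793, 765, 992, 804, 597, 914, 1019, 559, 982, 545, 676, 720, 554, 717, 635, 809, 927, 1022, 712, 812, 817, 971, 766, 671, 965, 794, 399, 536, 844, 662, 738, 459, 153, 93, 561, 629, 807, 556, 770, 1014, 1016, 995, 333, 1012, 782, 265, 602, 768, 507, 319, 833, 442, 328, 949, 667, 268, 975, 382, 617, 368, 258, 839, 957, 947, 20, 102, 204, 457, 397, 511, 278, 315, 66, 56, 316, 42, 557, 1017, 110, 504, 1015, 771, 99, 501, 145, 776, 604, 722, 678, 263, 845, 537, 663, 710, 788, 514, 848, 739, 338, 124, 225, 389, 435, 6, 215, 136, 44, 751, 609, 26, 827, 104, 533, 222, 257, 528, 618, 612, 958, 211, 439, 101, 708, 195, 754, 407, 185, 77, 512, 694, 345, 158, 247, 291, 40, 108, 301, 90, 753, 803, 78, 480, 52, 186, 693, 999, 683, 448, 549, 593, 164, 18, 895, 374, 575, 606,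 900, 880, 1005, 987, 778, 521, 530, 943, 840, 540, 989, 614, 587, 569, 930, 870, 835, 624, 951, 564, 825, 749, 979, 929, 608, 919, 826, 532, 750, 869, 861, 668, 697, 815, 658, 715, 742, 968, 705, 517, 140, 120, 130, 563, 631, 470, 1008, 877, 649, 703, 734, 906, 859, 772, 972, 25, 271, 331, 221, 534, 664, 610, 913, 780, 598, 981, 546, 600, 707, 519, 944, 542, 371, 325, 842, 836, 23, 33, 400, 209, 196, 35, 327, 490, 437, 414, 335, 157, 340, 267, 346, 89, 0, 302, 281, 483, 800, 365, 790, 850, 996, 55, 103, 259, 62, 202, 48, 21, 484, 369, 714, 860, 415, 814, 197, 696, 491, 401, 706, 518, 431, 469, 912, 980, 129, 475]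

/-- Points for the keys. -/
def ptsCo3 : List ℕ := [319, 520]

end CfsgLib.Co3Mult
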